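import Groth.Prelude.Def_IntMult
import Groth.Prelude.Def_BlowUp2
import Groth.Agent.L22.Div.Stalk
import Groth.Agent.L03.BlowPt.Factor
import Groth.Agent.L22.Ideal
import Groth.Agent.L05.FibreDecomp.Main

/-!
# The stalks of an ideal sheaf
-/

set_option autoImplicit false
set_option linter.style.haveILetI false
set_option backward.isDefEq.respectTransparency false

universe u

open CategoryTheory AlgebraicGeometry TopologicalSpace
open Groth.L22

noncomputable section

namespace Groth.L05.PtSeq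

variable {X Y : Scheme.{u}}

/-- The stalk of an ideal sheaf. -/
abbrev stI (I : X.IdealSheafData) (z : X) : Ideal (X.presheaf.stalk z) := IntMult.stalkIdeal I z

theorem stI_eq (I : X.IdealSheafData) (U : X.affineOpens) {z : X} (hz : z ∈ U.1) :
    stI I z = Div.stalkIdeal I U z hz := by
  refine le_antisymm (iSup₂_le fun V hV => ?_) (le_iSup₂ (f := fun (V : X.affineOpens) (hV : z ∈ V.1) =>
    (I.ideal V).map (X.presheaf.germ V.1 z hV).hom) U hz)
  obtain ⟨_, ⟨W, hW, rfl⟩, hzW, hWle⟩ := X.isBasis_affineOpens.exists_subset_of_mem_open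
    (show z ∈ V.1 ⊓ U.1 from ⟨hV, hz⟩) (V.1 ⊓ U.1).2
  exact ((Groth.L03.BlowPt.Factor.stalkIdeal_eq_of_le I (U := V) (U' := ⟨W, hW⟩)
      (fun y hy => (hWle hy).1) hzW).trans
    (Groth.L03.BlowPt.Factor.stalkIdeal_eq_of_le I (U := U) (U' := ⟨W, hW⟩)
      (fun y hy => (hWle hy).2) hzW).symm).le

theorem exists_affine (z : X) : ∃ U : X.affineOpens, z ∈ U.1 := by
  obtain ⟨_, ⟨W, hW, rfl⟩, hzW, -⟩ :=
    X.isBasis_affineOpens.exists_subset_of_mem_open (Set.mem_univ z) isOpen_univ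
  exact ⟨⟨W, hW⟩, hzW⟩

theorem stI_mul (I J : X.IdealSheafData) (z : X) : stI (I * J) z = stI I z * stI J z := by
  obtain ⟨U, hU⟩ := exists_affine z
  rw [stI_eq _ U hU, stI_eq _ U hU, stI_eq _ U hU, Div.stalkIdeal, Scheme.IdealSheafData.ideal_mul,
    Pi.mul_apply, Ideal.map_mul]
  rfl

theorem stI_top (z : X) : stI (⊤ : X.IdealSheafData) z = ⊤ := by
  obtain ⟨U, hU⟩ := exists_affine z
  rw [stI_eq _ U hU, Div.stalkIdeal, Scheme.IdealSheafData.ideal_top, Pi.top_apply, Ideal.map_top]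

theorem stI_pow (I : X.IdealSheafData) (z : X) (n : ℕ) : stI (I ^ n) z = stI I z ^ n := by
  induction n with
  | zero => rw [pow_zero, pow_zero, Scheme.IdealSheafData.one_eq_top, stI_top, Ideal.one_eq_top]
  | succ n ih => rw [pow_succ, pow_succ, stI_mul, ih]

theorem stI_mono {I J : X.IdealSheafData} (h : I ≤ J) (z : X) : stI I z ≤ stI J z :=
  iSup₂_mono fun U _ => Ideal.map_mono (h U)

theorem stI_eq_top_iff (I : X.IdealSheafData) (z : X) : stI I z = ⊤ ↔ z ∉ (I.support : Set X) := by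
  obtain ⟨U, hU⟩ := exists_affine z
  rw [stI_eq _ U hU]
  refine ⟨fun h hz => ?_, Groth.L05.FibreDecomp.stalkIdeal_eq_top I U z hU⟩
  letI : Algebra Γ(X, U.1) (X.presheaf.stalk z) := (X.presheaf.germ U.1 z hU).hom.toAlgebra
  haveI : IsLocalization.AtPrime (X.presheaf.stalk z) (U.2.primeIdealOf ⟨z, hU⟩).asIdeal :=
    U.2.isLocalization_stalk ⟨z, hU⟩
  have hle : (I.ideal U).map (algebraMap Γ(X, U.1) (X.presheaf.stalk z)) ≤
      IsLocalRing.maximalIdeal (X.presheaf.stalk z) := by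
    rw [← IsLocalization.AtPrime.map_eq_maximalIdeal (U.2.primeIdealOf ⟨z, hU⟩).asIdeal (X.presheaf.stalk z)]
    exact Ideal.map_mono ((CartierDecomp.mem_support_iff hU).1 hz)
  exact (IsLocalRing.maximalIdeal.isMaximal _).ne_top (top_le_iff.1 (h.ge.trans hle))

theorem eq_top_of_stI {I : X.IdealSheafData} (h : ∀ z, stI I z = ⊤) : I = ⊤ := by
  rw [← Scheme.IdealSheafData.support_eq_bot_iff]
  exact Closeds.ext (Set.eq_empty_of_forall_notMem fun z => (stI_eq_top_iff I z).1 (h z))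

theorem stI_comap (I : Y.IdealSheafData) (f : X ⟶ Y) (x : X) :
    stI (I.comap f) x = (stI I (f x)).map (f.stalkMap x).hom := by
  obtain ⟨U, V, e, hxV, -, -⟩ := Ideals.exists_affine_pair f x (W := ⊤) trivial (W' := ⊤) trivial
  rw [stI_eq _ V hxV, stI_eq I U (e hxV), Div.stalkIdeal, Div.stalkIdeal, Ideals.comap_ideal f I U V e,
    Ideal.map_map, Ideal.map_map]
  congr 1
  refine RingHom.ext fun a => ?_
  show X.presheaf.germ V.1 x hxV (f.appLE U.1 V.1 e a) = f.stalkMap x (Y.presheaf.germ U.1 (f x) (e hxV) a)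
  rw [Scheme.Hom.germ_stalkMap_apply, Scheme.Hom.appLE]
  exact TopCat.Presheaf.germ_res_apply X.presheaf _ _ _ _

theorem stI_isPrincipal {I : X.IdealSheafData} (hI : BlowUp.IsEffCartierIdeal I) (z : X) :
    ∃ t, t ∈ nonZeroDivisors (X.presheaf.stalk z) ∧ stI I z = Ideal.span {t} := by
  obtain ⟨U, hz, f, hf, hfI⟩ := hI z
  refine ⟨X.presheaf.germ U.1 z hz f, Mero.mem_regSub_of_mem_nonZeroDivisors U.2 hf ⟨z, hz⟩, ?_⟩
  rw [stI_eq _ U hz, Div.stalkIdeal, hfI, Ideal.map_span, Set.image_singleton]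

/-- An element of a stalk ideal is the germ of a section of the ideal up to a unit. -/
theorem mem_ideal_of_forall_stI {I : X.IdealSheafData} (U : X.affineOpens) (a : Γ(X, U.1))
    (h : ∀ (z : X) (hz : z ∈ U.1), X.presheaf.germ U.1 z hz a ∈ stI I z) : a ∈ I.ideal U := by
  refine Groth.L05.FibreDecomp.le_of_forall_exists_mul_mem (I := I.ideal U) (J := Ideal.span {a}) (fun P hP b hb => ?_) (Ideal.mem_span_singleton_self a)
  let p : Spec Γ(X, U.1) := ⟨P, hP.isPrime⟩
  let z := U.2.fromSpec p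
  have hz : z ∈ U.1 := LocalDim.fromSpec_mem U.2 p
  letI : Algebra Γ(X, U.1) (X.presheaf.stalk z) := (X.presheaf.germ U.1 z hz).hom.toAlgebra
  have hloc : IsLocalization.AtPrime (X.presheaf.stalk z) (U.2.primeIdealOf ⟨z, hz⟩).asIdeal :=
    U.2.isLocalization_stalk ⟨z, hz⟩
  rw [LocalDim.primeIdealOf_fromSpec U.2 p hz] at hloc
  obtain ⟨c, rfl⟩ := Ideal.mem_span_singleton'.1 hb
  have h1 := h z hz
  rw [stI_eq _ U hz] at h1
  obtain ⟨s, hs, hsa⟩ := (IsLocalization.algebraMap_mem_map_algebraMap_iff p.asIdeal.primeCompl _ _ _).1 h1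
  exact ⟨s, hs, by rw [mul_left_comm]; exact Ideal.mul_mem_left _ _ hsa⟩

theorem ext_stI {I J : X.IdealSheafData} (h : ∀ z, stI I z = stI J z) : I = J :=
  Groth.L05.FibreDecomp.ext_of_stalkIdeal I fun V y hy => by
    rw [← stI_eq I V hy, ← stI_eq J V hy]; exact h y

end Groth.L05.PtSeq
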