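import Groth.Agent.L05.PtSeq.Birational
import Groth.Agent.L22.CartierDecomp
import Groth.Agent.L22.MaximalPoints
import Mathlib.RingTheory.Length
import Mathlib.RingTheory.Artinian.Module

/-!
# Ideals supported at finitely many regular points of dimension two, and their transforms
-/

set_option autoImplicit false
set_option linter.style.haveILetI false
set_option backward.isDefEq.respectTransparency false

universe u

open CategoryTheory CategoryTheory.Limits AlgebraicGeometry TopologicalSpace
open Groth.L22 IsLocalRing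
open Groth.L03.BlowPt (ptI exc eι)

noncomputable section

namespace Groth.L05.PtSeq

variable {X Y : Scheme.{u}}

/-- The support consists of closed points with regular local rings of dimension two. -/
def PtSupp (I : Y.IdealSheafData) : Prop :=
  ∀ w ∈ (I.support : Set Y), IsClosed ({w} : Set Y) ∧ IsRegularLocalRing (Y.presheaf.stalk w) ∧
    ringKrullDim (Y.presheaf.stalk w) = (2 : ℕ)

/-- The colength of the stalk. -/
def len (I : Y.IdealSheafData) (z : Y) : ℕ∞ :=
  Module.length (Y.presheaf.stalk z) (Y.presheaf.stalk z ⧸ stI I z)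

theorem PtSupp.finite [AlgebraicGeometry.IsNoetherian Y] {I : Y.IdealSheafData} (h : PtSupp I) :
    (I.support : Set Y).Finite :=
  (finite_isolated I.support.isClosed).subset fun x hx =>
    ⟨hx, fun _ hw hwx => (hwx.mem_closed (h _ hw).1 rfl).symm⟩

theorem stI_ptI {y : Y} (hy : IsClosed ({y} : Set Y)) : stI (ptI hy) y = maximalIdeal (Y.presheaf.stalk y) := by
  obtain ⟨U, hU⟩ := exists_affine y
  rw [stI_eq _ U hU, Div.stalkIdeal, Groth.L03.BlowPt.ideal_ptI hy U hU]
  letI : Algebra Γ(Y, U.1) (Y.presheaf.stalk y) := (Y.presheaf.germ U.1 y hU).hom.toAlgebra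
  haveI : IsLocalization.AtPrime (Y.presheaf.stalk y) (U.2.primeIdealOf ⟨y, hU⟩).asIdeal :=
    U.2.isLocalization_stalk ⟨y, hU⟩
  exact IsLocalization.AtPrime.map_eq_maximalIdeal _ _

/-- At a closed point isolated in the support the stalk ideal contains a power of the maximal ideal. -/
theorem exists_pow_le_stI [IsLocallyNoetherian Y] (I : Y.IdealSheafData) {y : Y} (hy : IsClosed ({y} : Set Y))
    (hiso : ∀ w ∈ (I.support : Set Y), w ⤳ y → w = y) :
    ∃ n : ℕ, maximalIdeal (Y.presheaf.stalk y) ^ n ≤ stI I y := by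
  haveI : IsNoetherianRing (Y.presheaf.stalk y) := Groth.L14.RegImmStalk.isNoetherianRing_stalk' (X := Y) y
  obtain ⟨U, hU⟩ := exists_affine y
  refine Ideal.exists_pow_le_of_le_radical_of_fg ?_ (IsNoetherian.noetherian _)
  rw [Ideal.radical_eq_sInf]
  refine le_sInf fun q ⟨hle, hq⟩ => ?_
  haveI := hq
  obtain ⟨w, hwy, hw⟩ := Groth.L05.FibreDecomp.exists_generization U y hU q
  have hwI : w ∈ (I.support : Set Y) := (hw I).2 (by rwa [← stI_eq _ U hU])
  obtain rfl := hiso w hwI hwy
  have h1 := (hw (ptI hy)).1 (by simp [ptI])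
  rwa [← stI_eq _ U hU, stI_ptI hy] at h1

theorem PtSupp.exists_pow_le [IsLocallyNoetherian Y] {I : Y.IdealSheafData} (h : PtSupp I) {z : Y}
    (hz : z ∈ (I.support : Set Y)) : ∃ n : ℕ, maximalIdeal (Y.presheaf.stalk z) ^ n ≤ stI I z :=
  exists_pow_le_stI I (h z hz).1 fun _ hw hwz => (hwz.mem_closed (h _ hw).1 rfl).symm

theorem len_ne_top [IsLocallyNoetherian Y] (I : Y.IdealSheafData) {y : Y} {n : ℕ}
    (hn : maximalIdeal (Y.presheaf.stalk y) ^ n ≤ stI I y) : len I y ≠ ⊤ := by
  haveI : IsNoetherianRing (Y.presheaf.stalk y) := Groth.L14.RegImmStalk.isNoetherianRing_stalk' (X := Y) y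
  haveI : IsArtinianRing (Y.presheaf.stalk y ⧸ stI I y) := by
    rcases subsingleton_or_nontrivial (Y.presheaf.stalk y ⧸ stI I y) with h | h
    · infer_instance
    haveI : IsLocalRing (Y.presheaf.stalk y ⧸ stI I y) :=
      IsLocalRing.of_surjective' _ Ideal.Quotient.mk_surjective
    refine (isArtinianRing_iff_isNilpotent_maximalIdeal _).2 ⟨n, ?_⟩
    rw [← IsLocalRing.map_maximalIdeal_of_surjective _ Ideal.Quotient.mk_surjective, ← Ideal.map_pow,
      Ideal.zero_eq_bot, ← Ideal.map_quotient_self (stI I y)]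
    exact le_antisymm (Ideal.map_mono hn) ((Ideal.map_quotient_self _).le.trans bot_le)
  show Module.length (Y.presheaf.stalk y) (Y.presheaf.stalk y ⧸ stI I y) ≠ ⊤
  rw [Module.length_eq_of_surjective (S := Y.presheaf.stalk y) (R := Y.presheaf.stalk y ⧸ stI I y)
    Ideal.Quotient.mk_surjective]
  exact Module.length_ne_top

theorem PtSupp.len_ne_top [IsLocallyNoetherian Y] {I : Y.IdealSheafData} (h : PtSupp I) (z : Y) :
    len I z ≠ ⊤ := by
  by_cases hz : z ∈ (I.support : Set Y)
  · obtain ⟨n, hn⟩ := h.exists_pow_le hz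
    exact Groth.L05.PtSeq.len_ne_top I hn
  · rw [len, (stI_eq_top_iff I z).2 hz, Module.length_eq_zero]; simp

/-- Two generalisations of a closed point of an exceptional line. -/
theorem IsPtBlow.closed_of_not_generic [AlgebraicGeometry.IsNoetherian Y] {b : X ⟶ Y} {y : Y}
    {hy : IsClosed ({y} : Set Y)} (h : IsPtBlow b y hy) {z : X} (hz : b z = y)
    {ξ : X} (hξ : IsGenericPoint ξ ((exc hy b).support : Set X)) (hne : z ≠ ξ) : IsClosed ({z} : Set X) := by
  refine closure_subset_iff_isClosed.1 fun d hd => ?_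
  have hzd : z ⤳ d := specializes_iff_mem_closure.2 hd
  by_contra hdz
  obtain ⟨D⟩ := h.echart
  haveI := D.isIntegral
  have hsupp : ∀ a : X, b a = y → a ∈ Set.range (eι hy b) := fun a ha => by rw [range_exc]; exact ha
  obtain ⟨e, rfl⟩ := hsupp z hz
  obtain ⟨e', rfl⟩ := hsupp d (((hzd.map b.continuous).mem_closed hy hz))
  have hee' : e ⤳ e' := ((eι hy b).isEmbedding.isInducing.specializes_iff).1 hzd
  have hgen : eι hy b (genericPoint _) = ξ := by
    refine ((genericPoint_spec _).image (eι hy b).continuous).eq ?_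
    rw [Set.image_univ, Scheme.IdealSheafData.range_subschemeι, (exc hy b).support.isClosed.closure_eq]
    exact hξ
  have h1 := Groth.L03.BlowPt.Factor.dim_add_one_le (genericPoint_specializes e) fun he => hne (he ▸ hgen)
  have h2 := Groth.L03.BlowPt.Factor.dim_add_one_le hee' fun he => hdz (congrArg (eι hy b) he).symm
  rw [ringKrullDim_eq_zero_of_isField (Field.toIsField (exc hy b).subscheme.functionField), zero_add] at h1
  have h3 := ((add_le_add h1 le_rfl).trans h2).trans
    ((Groth.L15.CohFlat.ringKrullDim_stalk_le e').trans D.dim_eq.le)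
  exact absurd h3 (by decide)

/-- The transform of an ideal supported at finitely many points under blowing up one of them. -/
theorem exists_transform [AlgebraicGeometry.IsNoetherian Y] [AlgebraicGeometry.IsNoetherian X] {b : X ⟶ Y}
    {y : Y} {hy : IsClosed ({y} : Set Y)} (h : IsPtBlow b y hy) {I : Y.IdealSheafData} (hI : PtSupp I)
    (hyI : y ∈ (I.support : Set Y)) :
    ∃ (d : ℕ) (J : X.IdealSheafData), 1 ≤ d ∧ exc hy b ^ d * J = I.comap b ∧ PtSupp J ∧
      ∀ z ∈ (J.support : Set X), b z ∈ (I.support : Set Y) := by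
  obtain ⟨D⟩ := h.echart
  haveI := D.isIntegral
  have hsuppI : ∀ z : X, z ∈ ((I.comap b).support : Set X) ↔ b z ∈ (I.support : Set Y) := fun z => by
    rw [Scheme.IdealSheafData.support_comap]; rfl
  have hsuppE : ∀ z : X, z ∈ ((exc hy b).support : Set X) ↔ b z = y := fun z => by
    rw [← Scheme.IdealSheafData.range_subschemeι]
    exact Set.ext_iff.1 range_exc z
  obtain ⟨a, J, hJ, hJ'⟩ := CartierDecomp.exists_decomp (fun _ : Unit => exc hy b) (fun _ => h.2.2.1)
    (fun _ => D.isIntegral) (I.comap b) fun z hz hzI => by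
      by_cases hby : b z = y
      · exact CartierDecomp.notMem_of_maximal (fun _ : Unit => exc hy b) (fun _ => h.2.2.1) hz
          (Set.mem_iUnion.2 ⟨(), (hsuppE z).2 hby⟩)
      · haveI := h.isIso_stalkMap hby
        have h0 := CartierDecomp.dim_eq_zero_of_maximal hz
        rw [← ringKrullDim_eq_of_ringEquiv (asIso (b.stalkMap z)).commRingCatIsoToRingEquiv,
          (hI _ ((hsuppI z).1 hzI)).2.2] at h0
        exact absurd h0 (by decide)
  obtain ⟨ξ, hξ⟩ := CartierDecomp.exists_generic (exc hy b)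
  have hprod : exc hy b ^ a () * J = I.comap b := by
    rw [← hJ, Finsupp.prod_fintype _ _ (fun _ => pow_zero _), Fintype.univ_ofSubsingleton, Finset.prod_singleton]
  have hsub : ∀ z ∈ (J.support : Set X), b z ∈ (I.support : Set Y) := fun z hz => by
    refine (hsuppI z).1 ?_
    rw [← hprod, Scheme.IdealSheafData.support_mul]
    exact Or.inr hz
  refine ⟨a (), J, ?_, hprod, fun z hz => ?_, hsub⟩
  · by_contra h0
    rw [not_le, Nat.lt_one_iff] at h0
    rw [h0, pow_zero, one_mul] at hprod
    refine hJ' () ξ hξ ?_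
    rw [hprod, hsuppI, (hsuppE ξ).1 hξ.mem]
    exact hyI
  · by_cases hby : b z = y
    · have hcl := h.closed_of_not_generic hby hξ fun e => hJ' () z (e ▸ hξ) hz
      exact ⟨hcl, h.regular hby, h.dim_closed hby hcl⟩
    · haveI := h.isIso_stalkMap hby
      obtain ⟨hcl, hreg, hd⟩ := hI _ (hsub z hz)
      refine ⟨closure_subset_iff_isClosed.1 fun d hd => ?_, ?_, ?_⟩
      · have hbd : b d = b z := ((specializes_iff_mem_closure.2 hd).map b.continuous).mem_closed hcl rfl
        haveI := h.isIso_off
        exact Groth.L05.RelMinExists.eq_of_isIso_restrict' b (⟨{y}ᶜ, hy.isOpen_compl⟩ : Y.Opens)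
          (by show b d ≠ y; rw [hbd]; exact hby) hbd
      · haveI := hreg
        exact IsRegularLocalRing.of_ringEquiv (asIso (b.stalkMap z)).commRingCatIsoToRingEquiv
      · rwa [← ringKrullDim_eq_of_ringEquiv (asIso (b.stalkMap z)).commRingCatIsoToRingEquiv]

/-- The colength is unchanged away from the centre. -/
theorem len_eq_off {b : X ⟶ Y} {y : Y} {hy : IsClosed ({y} : Set Y)} (h : IsPtBlow b y hy)
    {I : Y.IdealSheafData} {J : X.IdealSheafData} {d : ℕ} (hJ : exc hy b ^ d * J = I.comap b) {z : X}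
    (hz : b z ≠ y) : len J z = len I (b z) := by
  haveI := h.isIso_stalkMap hz
  have hE : stI (exc hy b) z = ⊤ := (stI_eq_top_iff _ z).2 fun hmem => hz (by
    rw [← Scheme.IdealSheafData.range_subschemeι, range_exc] at hmem; exact hmem)
  have h1 : stI J z = (stI I (b z)).map (b.stalkMap z).hom := by
    rw [← stI_comap, ← hJ, stI_mul, stI_pow, hE, ← Ideal.one_eq_top, one_pow, one_mul]
  let e := (asIso (b.stalkMap z)).commRingCatIsoToRingEquiv
  letI : Algebra (Y.presheaf.stalk (b z)) (X.presheaf.stalk z) := (b.stalkMap z).hom.toAlgebra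
  let q : (Y.presheaf.stalk (b z) ⧸ stI I (b z)) ≃ₐ[Y.presheaf.stalk (b z)] (X.presheaf.stalk z ⧸ stI J z) :=
    Ideal.quotientEquivAlg (stI I (b z)) (stI J z) (AlgEquiv.ofRingEquiv (f := e) fun _ => rfl) h1
  show Module.length (X.presheaf.stalk z) _ = Module.length (Y.presheaf.stalk (b z)) _
  rw [← Module.length_eq_of_surjective (S := Y.presheaf.stalk (b z)) (R := X.presheaf.stalk z)
    (M := X.presheaf.stalk z ⧸ stI J z) e.surjective]
  exact q.toLinearEquiv.length_eq.symm

end Groth.L05.PtSeq
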