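import Groth.Agent.L05.PtSeq.Sections
import Groth.Agent.L05.MinModel.P1
import Groth.Agent.L22.Div.Stalk
import Mathlib.RingTheory.DiscreteValuationRing.TFAE
import Mathlib.AlgebraicGeometry.Morphisms.SchemeTheoreticallyDominant

/-!
# Blowing up a regular point of a curve on a scheme
-/

set_option autoImplicit false
set_option linter.style.haveILetI false
set_option backward.isDefEq.respectTransparency false

universe u

open CategoryTheory CategoryTheory.Limits AlgebraicGeometry TopologicalSpace
open Groth.L03.BlowPt (ptI exc)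
open Groth.L22

noncomputable section

namespace Groth.L05.PtSeq

variable {X' X : Scheme.{u}}

/-- The saturation of an ideal sheaf with respect to another one: the closure of the part of the closed subscheme
off the support. -/
def satI (K E : X'.IdealSheafData) : X'.IdealSheafData :=
  ((K.subschemeι ⁻¹ᵁ E.support.compl).ι ≫ K.subschemeι).ker

theorem le_satI (K E : X'.IdealSheafData) : K ≤ satI K E :=
  (K.ker_subschemeι).ge.trans (Scheme.Hom.le_ker_comp _ _)

theorem mem_satI [IsLocallyNoetherian X'] (K E : X'.IdealSheafData) (U : X'.affineOpens) {τ a : Γ(X', U.1)}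
    (hE : E.ideal U = Ideal.span {τ}) (ha : τ * a ∈ K.ideal U) : a ∈ (satI K E).ideal U := by
  haveI : IsLocallyNoetherian K.subscheme := LocallyOfFiniteType.isLocallyNoetherian K.subschemeι
  let O := K.subschemeι ⁻¹ᵁ E.support.compl
  rw [satI, Scheme.Hom.ker_apply, RingHom.mem_ker]
  let j := O.ι ≫ K.subschemeι
  have hz : j.app U.1 (τ * a) = 0 := by
    have h1 : τ * a ∈ (O.ι ≫ K.subschemeι).ker.ideal U := le_satI K E U ha
    rw [Scheme.Hom.ker_apply, RingHom.mem_ker] at h1
    exact h1
  have hu : IsUnit (j.app U.1 τ) := by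
    refine RingedSpace.isUnit_of_isUnit_germ (Scheme.Opens.toScheme O).toLocallyRingedSpace.toRingedSpace _ _ fun z hz => ?_
    have hne : j z ∉ (E.support : Set X') := z.2
    rw [← Scheme.Hom.germ_stalkMap_apply j U.1 z hz τ]
    refine IsUnit.map _ ?_
    have h2 := (stI_eq_top_iff E (j z)).2 hne
    rw [stI_eq E U hz, Groth.L22.Div.stalkIdeal, hE, Ideal.map_span, Set.image_singleton,
      Ideal.span_singleton_eq_top] at h2
    exact h2
  rw [map_mul] at hz
  exact (hu.mul_right_eq_zero).1 hz

theorem stI_le_span_mul [IsLocallyNoetherian X'] (K E : X'.IdealSheafData) (hE : BlowUp.IsEffCartierIdeal E)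
    (hKE : K ≤ E) (q : X') :
    ∃ t : X'.presheaf.stalk q, t ∈ nonZeroDivisors (X'.presheaf.stalk q) ∧ stI E q = Ideal.span {t} ∧
      stI K q ≤ Ideal.span {t} * stI (satI K E) q := by
  obtain ⟨U, hq, τ, hτ, hEU⟩ := hE q
  refine ⟨X'.presheaf.germ U.1 q hq τ, Mero.mem_regSub_of_mem_nonZeroDivisors U.2 hτ ⟨q, hq⟩, ?_, ?_⟩
  · rw [stI_eq _ U hq, Groth.L22.Div.stalkIdeal, hEU, Ideal.map_span, Set.image_singleton]
  · rw [stI_eq K U hq, Groth.L22.Div.stalkIdeal, Ideal.map_le_iff_le_comap]
    intro x hx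
    obtain ⟨a, rfl⟩ := Ideal.mem_span_singleton'.1 (hEU ▸ hKE U hx)
    have hx' : τ * a ∈ K.ideal U := mul_comm a τ ▸ hx
    have h1 := germ_mem_stI _ U hq (mem_satI K E U hEU hx')
    have h2 : (X'.presheaf.germ U.1 q hq).hom (a * τ) =
        (X'.presheaf.germ U.1 q hq).hom τ * (X'.presheaf.germ U.1 q hq).hom a :=
      (map_mul _ a τ).trans (mul_comm _ _)
    exact Ideal.mem_comap.2 (h2.symm ▸ Ideal.mul_mem_mul (Ideal.mem_span_singleton_self _) h1)

/-- A regular closed point of an integral curve is a Cartier divisor. -/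
theorem isEffCartier_ptI {Z : Scheme.{u}} [IsIntegral Z] [IsLocallyNoetherian Z] (hd : topologicalKrullDim Z ≤ 1)
    {y : Z} (hy : IsClosed ({y} : Set Z)) (hne : genericPoint Z ≠ y)
    (hreg : IsRegularLocalRing (Z.presheaf.stalk y)) : BlowUp.IsEffCartierIdeal (ptI hy) := by
  refine Groth.L22.Div.isEffCartier_of_stalks _ fun x hx U hxU => ?_
  obtain rfl : x = y := by simpa [ptI] using hx
  haveI := hreg
  obtain ⟨hp, hnf⟩ := And.intro
    (show (IsLocalRing.maximalIdeal (Z.presheaf.stalk x)).IsPrincipal by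
      refine (((tfae_of_isNoetherianRing_of_isLocalRing_of_isDomain (Z.presheaf.stalk x)).out 4 5).2 ?_)
      have h := (IsRegularLocalRing.iff_finrank_cotangentSpace (R := Z.presheaf.stalk x)).1 inferInstance
      have h1 := h.le.trans ((Groth.L15.CohFlat.ringKrullDim_stalk_le x).trans hd)
      exact_mod_cast h1)
    (show ¬ IsField (Z.presheaf.stalk x) from fun hF => by
      have h1 := Groth.L03.BlowPt.Factor.dim_add_one_le (genericPoint_specializes x) hne
      rw [dim_stalk_genericPoint, zero_add, ringKrullDim_eq_zero_of_isField hF] at h1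
      exact absurd h1 (by decide))
  obtain ⟨t, ht⟩ := hp
  rw [← stI_eq, stI_ptI]
  refine ⟨t, ht, mem_nonZeroDivisors_of_ne_zero fun h0 => hnf ?_⟩
  rw [IsLocalRing.isField_iff_maximalIdeal_eq, ht, h0]
  exact Submodule.span_zero_singleton (R := Z.presheaf.stalk x)

/-- The length of a quotient of a ring along a surjection killing part of the ideal. -/
theorem length_quot_sup {A O : Type u} [CommRing A] [CommRing O] (φ : A →+* O) (hφ : Function.Surjective φ)
    (J : Ideal A) : Module.length (A ⧸ (RingHom.ker φ ⊔ J)) (A ⧸ (RingHom.ker φ ⊔ J)) =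
      Module.length O (O ⧸ J.map φ) := by
  have e : A ⧸ (RingHom.ker φ ⊔ J) ≃+* O ⧸ J.map φ :=
    (Ideal.quotEquivOfEq (by
      rw [← RingHom.comap_ker, Ideal.mk_ker, Ideal.comap_map_of_surjective φ hφ, sup_comm]
      rfl)).trans (RingHom.quotientKerEquivOfSurjective (f := (Ideal.Quotient.mk (J.map φ)).comp φ)
        (Ideal.Quotient.mk_surjective.comp hφ))
  rw [← Groth.L05.GeomMult.length_self_eq e]
  exact (Module.length_eq_of_surjective (S := O) (R := O ⧸ J.map φ) Ideal.Quotient.mk_surjective).symm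

/-- The length of the intersection of two closed subschemes at a point of one of them. -/
theorem length_inter {S : Scheme.{u}} (f : S ⟶ X) [IsClosedImmersion f] (I : X.IdealSheafData) (s : S)
    (q1 : ↥(f.ker ⊔ I).subscheme) (hq : (f.ker ⊔ I).subschemeι q1 = f s) :
    Module.length ((f.ker ⊔ I).subscheme.presheaf.stalk q1) ((f.ker ⊔ I).subscheme.presheaf.stalk q1) =
      Module.length (S.presheaf.stalk s) (S.presheaf.stalk s ⧸ (stI I (f s)).map (f.stalkMap s).hom) := by
  rw [Groth.L05.GeomMult.length_self_eq (stalkQuotEquiv (f.ker ⊔ I) q1),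
    ← length_quot_sup (f.stalkMap s).hom (f.stalkMap_surjective s),
    Groth.L20.Infinitesimal.ker_stalkMap, ← stI_eq_sI]
  have key : ∀ (x : X), x = f s → Module.length (X.presheaf.stalk x ⧸ stI (f.ker ⊔ I) x)
      (X.presheaf.stalk x ⧸ stI (f.ker ⊔ I) x) =
      Module.length (X.presheaf.stalk (f s) ⧸ (stI f.ker (f s) ⊔ stI I (f s)))
        (X.presheaf.stalk (f s) ⧸ (stI f.ker (f s) ⊔ stI I (f s))) := by
    rintro _ rfl
    exact Groth.L05.GeomMult.length_self_eq (Ideal.quotEquivOfEq (Groth.L05.MinModel.stI_sup f.ker I (f s)).symm)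
  exact key _ hq

end Groth.L05.PtSeq
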