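import Groth.Agent.L05.PtSeq.Contr
import Groth.Agent.L05.RelMinExists.Main
import Groth.Agent.L05.PointBlowArith.Factor
import Groth.Agent.L13.ModFibre
import Groth.Agent.S11555
import Groth.Agent.S2415
import Mathlib.Topology.Separation.Basic

/-!
# Proper birational morphisms of regular surfaces are composites of point blow-ups
-/

set_option autoImplicit false
set_option linter.style.haveILetI false
set_option backward.isDefEq.respectTransparency false

universe u

open CategoryTheory CategoryTheory.Limits AlgebraicGeometry TopologicalSpace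
open Models

noncomputable section

namespace Groth.L05.PtSeq

variable {X Y : Scheme.{u}}

/-- A regular integral surface. -/
structure IsRegSurf (X : Scheme.{u}) : Prop where
  integral : IsIntegral X
  noeth : AlgebraicGeometry.IsNoetherian X
  reg : ∀ x : X, IsRegularLocalRing (X.presheaf.stalk x)
  dim : topologicalKrullDim X ≤ 2

theorem IsRegSurf.normal (h : IsRegSurf X) : Pi1.IsNormalScheme X := fun y => by
  haveI := h.reg y
  haveI := Groth.L01.isDomain_of_regular (X.presheaf.stalk y)
  exact ⟨inferInstance, Groth.L03.RegularNormal.isIntegrallyClosed _⟩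

theorem dim_le_of_stalks {n : WithBot ℕ∞} (h : ∀ z : X, ringKrullDim (X.presheaf.stalk z) ≤ n) :
    topologicalKrullDim X ≤ n := by
  letI := specializationOrder X
  rw [Groth.L13.ModFibre.topologicalKrullDim_eq_points]
  rcases isEmpty_or_nonempty X with he | hne
  · rw [Order.krullDim_eq_bot]; exact bot_le
  · rw [Order.krullDim_eq_iSup_coheight]
    exact iSup_le fun z => (ringKrullDim_stalk_eq_coheight z).symm.le.trans (h z)

theorem ptI_ne_bot [IsIntegral Y] {y : Y} (hy : IsClosed ({y} : Set Y)) (hne : genericPoint Y ≠ y) :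
    Groth.L03.BlowPt.ptI hy ≠ ⊥ := fun h => hne (by
  have h1 : ({y} : Set Y) = Set.univ := by
    have := congrArg (fun I : Y.IdealSheafData => (I.support : Set Y)) h
    simpa [Groth.L03.BlowPt.ptI] using this
  exact Set.mem_singleton_iff.1 (h1 ▸ Set.mem_univ (genericPoint Y)))

theorem dim_stalk_genericPoint [IsIntegral Y] : ringKrullDim (Y.presheaf.stalk (genericPoint Y)) = 0 :=
  ringKrullDim_eq_zero_of_isField (Field.toIsField Y.functionField)

theorem IsRegSurf.genericPoint_ne (h : IsRegSurf Y) {y : Y}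
    (hd : 2 ≤ ringKrullDim (Y.presheaf.stalk y)) : haveI := h.integral; genericPoint Y ≠ y := by
  haveI := h.integral
  rintro rfl
  rw [dim_stalk_genericPoint] at hd
  exact absurd hd (by decide)

/-- The blow-up of a regular surface in a closed point is a regular surface. -/
theorem IsRegSurf.blowUp (h : IsRegSurf Y) {b : X ⟶ Y} {y : Y} {hy : IsClosed ({y} : Set Y)}
    (hb : IsPtBlow b y hy) :
    ∃ (_ : IsIntegral X) (_ : IsIntegral Y), IsRegSurf X ∧ b (genericPoint X) = genericPoint Y ∧
      IsIso (b.stalkMap (genericPoint X)) := by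
  haveI := h.noeth
  haveI := h.integral
  have hne : genericPoint Y ≠ y := h.genericPoint_ne hb.2.1.ge
  obtain ⟨hi, he, hiso⟩ := Groth.L16.Blow.isIntegral_and_birational hb.2.2 (ptI_ne_bot hy hne)
  haveI := hi
  haveI := hb.isNoetherian
  haveI := hb.isProper
  haveI := hb.isIso_off
  refine ⟨hi, inferInstance, ⟨hi, inferInstance, fun z => ?_, dim_le_of_stalks fun z => ?_⟩, he, hiso⟩
  · by_cases hz : b z = y
    · exact hb.regular hz
    · haveI := hb.isIso_stalkMap hz
      haveI := h.reg (b z)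
      exact IsRegularLocalRing.of_ringEquiv (asIso (b.stalkMap z)).commRingCatIsoToRingEquiv
  · exact (Groth.L13.ModFibre.ringKrullDim_stalk_le b (⟨{y}ᶜ, hy.isOpen_compl⟩ : Y.Opens)
      ⟨genericPoint X, by show b (genericPoint X) ≠ y; rw [he]; exact hne⟩ z).trans
      ((Groth.L15.CohFlat.ringKrullDim_stalk_le (b z)).trans h.dim)

/-- Non-closed points lying over points of codimension two. -/
def contracted (f : X ⟶ Y) : Set X :=
  {x | 2 ≤ ringKrullDim (Y.presheaf.stalk (f x)) ∧ ¬ IsClosed ({x} : Set X)}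

theorem birational_data [IsIntegral X] [IsIntegral Y] (f : X ⟶ Y)
    (hbir : ∃ V : Y.Opens, (V : Set Y).Nonempty ∧ IsIso (f ∣_ V)) :
    ∃ hξ : f (genericPoint X) = genericPoint Y, IsIso (f.stalkMap (genericPoint X)) := by
  obtain ⟨V, hne, hV⟩ := hbir
  have hη : genericPoint Y ∈ V := (genericPoint_spec Y).mem_open_set_iff V.2 |>.2 (by simpa using hne)
  obtain ⟨x₀, hx₀⟩ := (f ∣_ V).surjective ⟨genericPoint Y, hη⟩
  have hfx : f x₀.1 = genericPoint Y := by rw [← morphismRestrict_base_coe, hx₀]
  have hξ : f (genericPoint X) = genericPoint Y :=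
    (Specializes.antisymm (hfx ▸ (genericPoint_specializes x₀.1).map f.continuous) (genericPoint_specializes _)).eq
  refine ⟨hξ, ?_⟩
  have hmem : genericPoint X ∈ f ⁻¹ᵁ V := by show f (genericPoint X) ∈ V; rw [hξ]; exact hη
  exact ((MorphismProperty.isomorphisms CommRingCat).arrow_mk_iso_iff (morphismRestrictStalkMap f V ⟨_, hmem⟩)).1
    (inferInstance : IsIso ((f ∣_ V).stalkMap ⟨_, hmem⟩))

theorem finite_isolated [AlgebraicGeometry.IsNoetherian X] {F : Set X} (hF : IsClosed F) :
    {x ∈ F | ∀ w ∈ F, w ⤳ x → w = x}.Finite := by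
  haveI : QuasiSober F := (IsClosed.isClosedEmbedding_subtypeVal hF).quasiSober
  have hfin := NoetherianSpace.finite_irreducibleComponents (α := F)
  choose g hg using fun C : irreducibleComponents F =>
    QuasiSober.sober C.2.1 (isClosed_of_mem_irreducibleComponents _ C.2)
  haveI := hfin.to_subtype
  refine (Set.finite_range fun C => (g C).1).subset fun x ⟨hx, hmax⟩ => ?_
  let C : irreducibleComponents F :=
    ⟨irreducibleComponent ⟨x, hx⟩, irreducibleComponent_mem_irreducibleComponents _⟩
  refine ⟨C, hmax _ (g C).2 ?_⟩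
  exact ((hg C).specializes mem_irreducibleComponent).map continuous_subtype_val



theorem isClosed_of_dim (h : IsRegSurf Y) {y : Y} (hd : 2 ≤ ringKrullDim (Y.presheaf.stalk y)) :
    IsClosed ({y} : Set Y) :=
  closure_subset_iff_isClosed.1 fun _ hd' =>
    Groth.L05.RelMinExists.eq_of_dim_two_le h.dim hd (specializes_iff_mem_closure.2 hd')

theorem contracted_finite (hX : IsRegSurf X) (hY : IsRegSurf Y) (f : X ⟶ Y) [IsProper f]
    {V : Y.Opens} (hV : IsIso (f ∣_ V)) (hgen : haveI := hY.integral; genericPoint Y ∈ V)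
    (hξ : haveI := hX.integral; haveI := hY.integral; f (genericPoint X) = genericPoint Y) :
    (contracted f).Finite := by
  haveI := hX.integral; haveI := hY.integral; haveI := hX.noeth
  refine (finite_isolated (F := f ⁻¹' (V : Set Y)ᶜ) ((isClosed_compl_iff.2 V.2).preimage f.continuous)).subset
    fun x ⟨hx2, hxc⟩ => ?_
  have hxF : x ∈ f ⁻¹' (V : Set Y)ᶜ := fun hxV => hxc (isClosed_of_dim hX (by
    haveI : IsIso (f.stalkMap x) :=
      ((MorphismProperty.isomorphisms CommRingCat).arrow_mk_iso_iff (morphismRestrictStalkMap f V ⟨x, hxV⟩)).1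
        (inferInstance : IsIso ((f ∣_ V).stalkMap ⟨x, hxV⟩))
    rwa [← ringKrullDim_eq_of_ringEquiv (asIso (f.stalkMap x)).commRingCatIsoToRingEquiv]))
  refine ⟨hxF, fun w hw hwx => ?_⟩
  obtain ⟨d, hd, hdx⟩ : ∃ d, x ⤳ d ∧ d ≠ x := by
    by_contra h
    push_neg at h
    exact hxc (closure_subset_iff_isClosed.1 fun d hd => h d (specializes_iff_mem_closure.2 hd))
  exact Groth.L05.SmoothRelMin.eq_of_chain hX.dim (genericPoint_specializes w) hwx hd
    (fun h => hw (by show f w ∈ V; rw [← h, hξ]; exact hgen)) hdx.symm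

theorem seq_of_birational : ∀ (n : ℕ) {X Y : Scheme.{u}} (hX : IsRegSurf X) (hY : IsRegSurf Y)
    (f : X ⟶ Y) [IsProper f] (_ : ∃ V : Y.Opens, (V : Set Y).Nonempty ∧ IsIso (f ∣_ V)),
    (contracted f).ncard = n → IsContractionSeq f := by
  intro n
  induction n using Nat.strong_induction_on with
  | _ n ih =>
  intro X Y hX hY f _ hbir hn
  haveI := hX.integral; haveI := hY.integral; haveI := hX.noeth; haveI := hY.noeth
  obtain ⟨hξ, hiso⟩ := birational_data f hbir
  obtain ⟨V, hV, hViso, hVdim⟩ := Groth.Agent.S11555.result f hY.normal hξ (ConcreteCategory.bijective_of_isIso _)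
  haveI := hV
  have hgen : genericPoint Y ∈ V := by
    by_contra h
    exact hY.genericPoint_ne (hVdim _ h) rfl
  by_cases hall : ∀ y : Y, y ∈ V
  · haveI : IsIso f := Groth.L05.RelMinExists.isIso_of_isIso_restrict f V hall
    exact IsContractionSeq.iso (asIso f)
  push_neg at hall
  obtain ⟨y, hyV⟩ := hall
  have hy : IsClosed ({y} : Set Y) := isClosed_of_dim hY (hVdim y hyV)
  have hd : ringKrullDim (Y.presheaf.stalk y) = (2 : ℕ) :=
    le_antisymm ((Groth.L15.CohFlat.ringKrullDim_stalk_le y).trans hY.dim) (hVdim y hyV)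
  obtain ⟨Y', b, hb⟩ := Groth.L13.BU.exists_isBlowUp (Groth.L03.BlowPt.ptI hy)
  have hpb : IsPtBlow b y hy := ⟨hY.reg y, hd, hb⟩
  have hnot : ∀ W : Y.Opens, y ∈ W → ¬ IsIso (f ∣_ W) := fun W hyW hW => by
    haveI := hW
    obtain ⟨x, hx⟩ := (f ∣_ W).surjective ⟨y, hyW⟩
    obtain ⟨a, ha⟩ : x.1 ∈ Set.range (f.fiberι y) := by
      rw [Scheme.Hom.range_fiberι]
      show f x.1 = y
      rw [← morphismRestrict_base_coe, hx]
    haveI : Subsingleton (f.fiber y) := ⟨fun c c' => (f.fiberι y).isEmbedding.injective (by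
      have hm : ∀ c, f (f.fiberι y c) = y := fun c => by
        have h : f.fiberι y c ∈ Set.range (f.fiberι y) := ⟨c, rfl⟩
        rwa [Scheme.Hom.range_fiberι] at h
      exact Groth.L05.RelMinExists.eq_of_isIso_restrict' f W (by rw [hm]; exact hyW) ((hm c).trans (hm c').symm))⟩
    refine hViso y hyV a ?_
    rw [Subsingleton.eq_univ_of_nonempty (Set.singleton_nonempty a)]
    exact isOpen_univ
  obtain ⟨g, hg⟩ := Groth.L03.BlowPt.Factor.exists_factor f hX.reg hY.reg hX.dim hY.dim hbir hy hnot hb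
  obtain ⟨hi, _, hY', heb, -⟩ := hY.blowUp hpb
  haveI := hY'.noeth
  haveI := hpb.isProper
  haveI : IsProper (g ≫ b) := by rw [hg]; infer_instance
  haveI : IsProper g := IsProper.of_comp g b
  subst hg
  let C : Y.Opens := V ⊓ ⟨{y}ᶜ, hy.isOpen_compl⟩
  haveI : IsIso ((g ≫ b) ∣_ C) := Groth.L13.Contraction.isIso_restrict_mono _ (C := V) inf_le_left
  haveI : IsIso (b ∣_ C) := by
    haveI := hpb.isIso_off
    exact Groth.L13.Contraction.isIso_restrict_mono _ (C := ⟨{y}ᶜ, hy.isOpen_compl⟩) inf_le_right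
  haveI hgC : IsIso (g ∣_ (b ⁻¹ᵁ C)) := by
    haveI : IsIso (g ∣_ (b ⁻¹ᵁ C) ≫ b ∣_ C) := by rw [← morphismRestrict_comp]; infer_instance
    exact IsIso.of_isIso_comp_right _ (b ∣_ C)
  have hgbir : ∃ W : Y'.Opens, (W : Set Y').Nonempty ∧ IsIso (g ∣_ W) :=
    ⟨b ⁻¹ᵁ C, ⟨genericPoint Y', by
      show b (genericPoint Y') ∈ C
      rw [heb]; exact ⟨hgen, hY.genericPoint_ne hd.ge⟩⟩, hgC⟩
  obtain ⟨hgξ, -⟩ := birational_data g hgbir
  have hgs : Function.Surjective g := fun z => by
    have h := (genericPoint_specializes z).mem_closed g.isClosedMap.isClosed_range ⟨_, hgξ⟩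
    exact h
  have hfin := contracted_finite hX hY (g ≫ b) hV hgen hξ
  have hlt : contracted g ⊂ contracted (g ≫ b) := by
    refine ⟨fun x ⟨hx, hxc⟩ => ⟨?_, hxc⟩, fun hsub => ?_⟩
    · show 2 ≤ ringKrullDim (Y.presheaf.stalk (b (g x)))
      by_cases hby : b (g x) = y
      · rw [hby]; exact hd.ge
      · haveI := hpb.isIso_stalkMap hby
        rwa [ringKrullDim_eq_of_ringEquiv (asIso (b.stalkMap (g x))).commRingCatIsoToRingEquiv]
    · obtain ⟨D⟩ := hpb.echart
      haveI := D.isIntegral
      let E := (Groth.L03.BlowPt.exc hy b).subscheme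
      let ξE := Groth.L03.BlowPt.eι hy b (genericPoint E)
      obtain ⟨x₀, hx₀⟩ := hgs ξE
      have hncl : ¬ IsClosed ({ξE} : Set Y') := fun hc => by
        haveI : Subsingleton E := ⟨fun a c => (Groth.L03.BlowPt.eι hy b).isClosedEmbedding.injective <| by
          have : ∀ e : E, Groth.L03.BlowPt.eι hy b e = ξE := fun e =>
            ((genericPoint_specializes e).map (Groth.L03.BlowPt.eι hy b).continuous).mem_closed hc rfl
          rw [this a, this c]⟩
        haveI : DiscreteTopology E := Subsingleton.discreteTopology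
        have h0 := topologicalKrullDim_zero_of_discreteTopology E
        rw [D.dim_eq] at h0
        exact absurd h0 (by norm_num)
      have hmem : x₀ ∈ contracted (g ≫ b) := by
        refine ⟨?_, fun hc => hncl ?_⟩
        · show 2 ≤ ringKrullDim (Y.presheaf.stalk (b (g x₀)))
          rw [hx₀, Groth.L03.BlowPt.eι_apply]
          exact hd.ge
        · rw [← hx₀, ← Set.image_singleton]
          exact g.isClosedMap _ hc
      have h2 := (hsub hmem).1
      rw [hx₀] at h2
      exact hncl (isClosed_of_dim hY' h2)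
  have hg' : IsContractionSeq g :=
    ih _ (hn ▸ Set.ncard_lt_ncard hlt hfin) hX hY' g hgbir rfl
  exact seq_snoc hg' hpb

theorem seq_of_birational' (hX : IsRegSurf X) (hY : IsRegSurf Y) (f : X ⟶ Y) [IsProper f]
    (hbir : ∃ V : Y.Opens, (V : Set Y).Nonempty ∧ IsIso (f ∣_ V)) : IsContractionSeq f :=
  seq_of_birational _ hX hY f hbir rfl

end Groth.L05.PtSeq
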