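import Groth.Agent.L05.PtSeq.NormDominate
import Groth.Agent.L18.AffineLocalRingProps
import Groth.Agent.L22.Norm.Coker
import Groth.Agent.L19.IntegralHom

/-!
# Normalized blow-ups of surfaces with Nagata coordinate rings
-/

set_option autoImplicit false
set_option linter.style.haveILetI false
set_option backward.isDefEq.respectTransparency false

universe u

open CategoryTheory CategoryTheory.Limits AlgebraicGeometry TopologicalSpace
open Groth.L05.MinDesing (IsBir isBir_comp)

noncomputable section

namespace Groth.L05.PtSeq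

variable {Z X : Scheme.{u}}

theorem isNagata_affineOpens_of_lft (f : Z ⟶ X) [LocallyOfFiniteType f]
    (hN : ∀ U : X.affineOpens, CAlg.IsNagata Γ(X, U.1)) (U : Z.affineOpens) : CAlg.IsNagata Γ(Z, U.1) := by
  have h : ∀ z : Z, ∃ V : Z.Opens, z ∈ V ∧ IsAffineOpen V ∧ CAlg.IsNagata Γ(Z, V) := fun z => by
    obtain ⟨W, hW, hzW, -⟩ := exists_isAffineOpen_mem_and_subset (U := (⊤ : X.Opens)) (x := f z) trivial
    obtain ⟨V, hV, hzV, hVW⟩ := exists_isAffineOpen_mem_and_subset (U := f ⁻¹ᵁ W) (x := z) hzW
    refine ⟨V, hzV, hV, ?_⟩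
    letI := (f.appLE W V hVW).hom.toAlgebra
    haveI : Algebra.FiniteType Γ(X, W) Γ(Z, V) := LocallyOfFiniteType.finiteType_appLE f hW hV hVW
    exact Groth.L01.Nagata.isNagata_of_finiteType (hN ⟨W, hW⟩)
  choose V hzV hV hNV using h
  exact Groth.L18.AffLocal.isNagata_affine V
    (eq_top_iff.2 fun z _ => Opens.mem_iSup.2 ⟨z, hzV z⟩) hV hNV U.1 U.2

theorem finNorm_of_nagata (hN : ∀ U : X.affineOpens, CAlg.IsNagata Γ(X, U.1)) : FinNorm X := by
  intro Z _ _ _ g hg _
  haveI := hg
  exact Groth.L22.Norm.isFinite_normalizationι Z (isNagata_affineOpens_of_lft g hN)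

theorem gen_not_closed_of_dim [IsIntegral X] (hdim : topologicalKrullDim X = 2) :
    ¬ IsClosed ({genericPoint X} : Set X) := by
  intro h
  haveI : Subsingleton X := ⟨fun a b => ((genericPoint_specializes a).mem_closed h rfl).trans
    ((genericPoint_specializes b).mem_closed h rfl).symm⟩
  haveI : Subsingleton (TopologicalSpace.IrreducibleCloseds X) := ⟨fun a b => by
    apply TopologicalSpace.IrreducibleCloseds.ext
    exact (Subsingleton.eq_univ_of_nonempty a.isIrreducible.nonempty).trans
      (Subsingleton.eq_univ_of_nonempty b.isIrreducible.nonempty).symm⟩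
  have h0 : topologicalKrullDim X ≤ 0 := Order.krullDim_nonpos_of_subsingleton
  rw [hdim] at h0
  exact absurd h0 (by decide)

/-- The statement of dominance by normalized blow-ups over the normalisation. -/
theorem exists_dominate_over_normalization [IsIntegral X] [AlgebraicGeometry.IsNoetherian X]
    (hN : ∀ U : X.affineOpens, CAlg.IsNagata Γ(X, U.1)) (hdim : topologicalKrullDim X = 2)
    [QuasiCompact (X.fromSpecStalk (genericPoint X))] [QuasiSeparated (X.fromSpecStalk (genericPoint X))]
    {Y : Scheme.{u}} [IsIntegral Y] (f : Y ⟶ X) [IsProper f] (hbir : IsBir f) :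
    ∃ (Xn : Scheme.{u}) (g : Xn ⟶ Curv2.normalization X), Resolve.IsNormPtBlowupSeq g ∧
      ∃ h : Xn ⟶ Y, h ≫ f = g ≫ Curv2.normalizationι X := by
  haveI hfin := Groth.L22.Norm.isFinite_normalizationι X hN
  obtain ⟨hi, hn, -, -, -⟩ := Groth.Agent.S2351.result X
  haveI := hi
  haveI : IsLocallyNoetherian (Curv2.normalization X) :=
    LocallyOfFiniteType.isLocallyNoetherian (Curv2.normalizationι X)
  haveI : CompactSpace (Curv2.normalization X) := QuasiCompact.compactSpace_of_compactSpace (Curv2.normalizationι X)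
  haveI : AlgebraicGeometry.IsNoetherian (Curv2.normalization X) := ⟨⟩
  have hνb : IsBir (Curv2.normalizationι X) := Groth.L22.BM.exists_isIso_normalizationι X
  let ν := Curv2.normalizationι X
  have hFin : FinNorm (Curv2.normalization X) := finNorm_of_nagata (isNagata_affineOpens_of_lft ν hN)
  have hd0 : topologicalKrullDim (Curv2.normalization X) ≤ 2 :=
    (Groth.L19.topologicalKrullDim_le_of_isIntegralHom ν).trans hdim.le
  have hg0 : ¬ IsClosed ({genericPoint (Curv2.normalization X)} : Set (Curv2.normalization X)) :=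
    gen_not_closed_of_bir ν hνb (gen_not_closed_of_dim hdim)
  obtain ⟨V, hV, hiso⟩ := id hbir
  haveI := hiso
  obtain ⟨eν, -⟩ := birational_data ν hνb
  have hU : ((ν ⁻¹ᵁ V : (Curv2.normalization X).Opens) : Set (Curv2.normalization X)).Nonempty :=
    ⟨genericPoint (Curv2.normalization X), by
      show ν (genericPoint (Curv2.normalization X)) ∈ V
      rw [eν]; exact Groth.L05.MinDesing.genericPoint_mem hV⟩
  obtain ⟨W, ι, hWi, hι, hisoW, -⟩ := exists_graph_closed ν f (ν ⁻¹ᵁ V) hU
    ((ν ∣_ V) ≫ inv (f ∣_ V) ≫ (f ⁻¹ᵁ V).ι) (by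
      rw [Category.assoc, Category.assoc, ← morphismRestrict_ι, IsIso.inv_hom_id_assoc, morphismRestrict_ι])
  haveI := hWi; haveI := hι
  haveI : IsProper (pullback.fst ν f) := MorphismProperty.pullback_fst (P := @IsProper) _ _ inferInstance
  let q := ι ≫ pullback.fst ν f
  haveI : IsProper q := inferInstance
  haveI : IsLocallyNoetherian W := LocallyOfFiniteType.isLocallyNoetherian q
  haveI : CompactSpace W := QuasiCompact.compactSpace_of_compactSpace q
  haveI := quasiCompact_fromSpecStalk_generic W
  have hqbir : IsBir q := ⟨ν ⁻¹ᵁ V, hU, hisoW⟩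
  haveI : IsFinite (Curv2.normalizationι W) := hFin W q inferInstance hqbir
  obtain ⟨hiW, hnW, -, -, -⟩ := Groth.Agent.S2351.result W
  haveI := hiW
  haveI : IsLocallyNoetherian (Curv2.normalization W) :=
    LocallyOfFiniteType.isLocallyNoetherian (Curv2.normalizationι W)
  haveI : CompactSpace (Curv2.normalization W) := QuasiCompact.compactSpace_of_compactSpace (Curv2.normalizationι W)
  haveI : AlgebraicGeometry.IsNoetherian (Curv2.normalization W) := ⟨⟩
  have hb0 : IsBir (Curv2.normalizationι W ≫ q) :=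
    isBir_comp _ q (Groth.L22.BM.exists_isIso_normalizationι W) hqbir
  obtain ⟨Z, g, hg, h, hh⟩ := exists_dominate_norm hn hd0 hg0 hFin hnW (Curv2.normalizationι W ≫ q) hb0
  refine ⟨Z, g, hg.seq, h ≫ Curv2.normalizationι W ≫ ι ≫ pullback.snd ν f, ?_⟩
  rw [← hh]
  simp only [q, ν, Category.assoc, pullback.condition]

end Groth.L05.PtSeq
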