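import Groth.Agent.L05.PtSeq.Birational
import Groth.Agent.L16.Connected.AppIso
import Groth.Agent.L10.RegularUFD
import Mathlib.RingTheory.Ideal.UFD
import Mathlib.RingTheory.Localization.NumDen
import Mathlib.AlgebraicGeometry.Morphisms.Proper
import Mathlib.AlgebraicGeometry.Morphisms.Finite

/-!
# Algebra for dominating modifications by point blow-ups
-/

set_option autoImplicit false
set_option linter.style.haveILetI false
set_option backward.isDefEq.respectTransparency false

universe u

open CategoryTheory CategoryTheory.Limits AlgebraicGeometry TopologicalSpace IsLocalRing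

noncomputable section

namespace Groth.L05.PtSeq

/-- A coprime pair generates an ideal primary to the maximal ideal in a factorial local ring of dimension two. -/
theorem exists_pow_le_span_pair {A : Type u} [CommRing A] [IsDomain A] [IsLocalRing A] [IsNoetherianRing A]
    [UniqueFactorizationMonoid A] (hd : ringKrullDim A ≤ 2) {a b : A} (hab : IsRelPrime a b) (hb : b ≠ 0) :
    ∃ n, maximalIdeal A ^ n ≤ Ideal.span {a, b} := by
  refine Ideal.exists_pow_le_of_le_radical_of_fg ?_ (IsNoetherian.noetherian _)
  rw [Ideal.radical_eq_sInf]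
  refine le_sInf fun P ⟨hle, hP⟩ => ?_
  haveI := hP
  by_contra hne
  have hlt : P < maximalIdeal A := lt_of_le_of_ne (le_maximalIdeal hP.ne_top) fun e => hne e.ge
  have hP0 : P ≠ ⊥ := fun e => hb (by
    have := hle (Ideal.subset_span (Set.mem_insert_of_mem a rfl))
    rwa [e, Ideal.mem_bot] at this)
  have h2 : (maximalIdeal A).height ≤ 2 := by
    have h := (IsLocalRing.maximalIdeal_height_eq_ringKrullDim (R := A)).le.trans hd
    exact WithBot.coe_le_coe.1 h
  have h1 : P.height = 1 := by
    have hlt' := Ideal.height_strict_mono_of_isPrime_of_isPrime hlt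
    have hpos : P.height ≠ 0 := fun h0 => hP0 (by
      rw [Ideal.height_eq_zero_iff] at h0
      exact le_antisymm (h0.2 ⟨Ideal.isPrime_bot, le_rfl⟩ bot_le) bot_le)
    have : P.height < 2 := hlt'.trans_le h2
    generalize P.height = h at this hpos
    cases h with
    | top => exact absurd this (by simp)
    | coe m =>
      have h3 : m < 2 := by exact_mod_cast this
      have h4 : m ≠ 0 := fun e => hpos (by simp [e])
      norm_cast
      omega
  obtain ⟨p, hp⟩ := UniqueFactorizationMonoid.isPrincipal_of_height_eq_one h1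
  have hpa : p ∣ a := Ideal.mem_span_singleton.1 (show a ∈ Ideal.span {p} from hp.le (hle (Ideal.subset_span (Set.mem_insert a _))))
  have hpb : p ∣ b := Ideal.mem_span_singleton.1
    (show b ∈ Ideal.span {p} from hp.le (hle (Ideal.subset_span (Set.mem_insert_of_mem a rfl))))
  exact hP.ne_top (hp.trans (Ideal.span_singleton_eq_top.2 (hab hpa hpb)))

/-- An element of a larger prime outside a smaller one over the same maximal ideal is transcendental
modulo the smaller one. -/
theorem not_isIntegralElem_of_mem_not_mem {A B : Type u} [CommRing A] [CommRing B] (φ : A →+* B) {m : Ideal A}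
    {p q : Ideal B} [p.IsPrime] [q.IsPrime] (hp : p.comap φ = m) (hq : q.comap φ = m) (hpq : p ≤ q) {c : B}
    (hcq : c ∈ q) (hcp : c ∉ p) : ¬ ((Ideal.Quotient.mk p).comp φ).IsIntegralElem (Ideal.Quotient.mk p c) := by
  rintro ⟨P, hP, hPc⟩
  have h0 : P.eval₂ φ c ∈ p := by
    rw [← Ideal.Quotient.eq_zero_iff_mem, Polynomial.hom_eval₂]; exact hPc
  have key : ∀ (n : ℕ) (P : Polynomial A), P.Monic → P.natDegree = n → P.eval₂ φ c ∉ p := by
    intro n
    induction n with
    | zero =>
      intro P hP hn h
      rw [hP.natDegree_eq_zero.1 hn, Polynomial.eval₂_one] at h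
      exact (‹p.IsPrime›).ne_top ((Ideal.eq_top_iff_one _).2 h)
    | succ n ih =>
      intro P hP hn h
      rw [← Polynomial.X_mul_divX_add P, Polynomial.eval₂_add, Polynomial.eval₂_mul, Polynomial.eval₂_X,
        Polynomial.eval₂_C] at h
      by_cases ha : P.coeff 0 ∈ m
      · have hap : φ (P.coeff 0) ∈ p := by rw [← hp] at ha; exact ha
        refine ih P.divX ?_ (by rw [Polynomial.natDegree_divX_eq_natDegree_tsub_one, hn]; rfl)
          (((‹p.IsPrime›).mem_or_mem ((Submodule.add_mem_iff_left _ hap).1 h)).resolve_left hcp)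
        show P.divX.leadingCoeff = 1
        rw [Polynomial.leadingCoeff, Polynomial.natDegree_divX_eq_natDegree_tsub_one, Polynomial.coeff_divX,
          hn, show n + 1 - 1 + 1 = n + 1 by omega, ← hn]
        exact hP
      · refine ha ?_
        rw [← hq]
        exact (Submodule.add_mem_iff_right _ (q.mul_mem_right _ hcq)).1 (hpq h)
  exact key _ P hP rfl h0

variable {X Y : Scheme.{u}}

/-- Closed points of a proper scheme over closed points give finite morphisms. -/
theorem isFinite_fromSpecResidueField (f : X ⟶ Y) [IsProper f] {x : X} (hx : IsClosed ({x} : Set X))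
    (hy : IsClosed ({f x} : Set Y)) : IsFinite (X.fromSpecResidueField x ≫ f) := by
  haveI : IsClosedImmersion (X.fromSpecResidueField x) :=
    IsClosedImmersion.of_isPreimmersion _ (by rw [Scheme.range_fromSpecResidueField]; exact hx)
  haveI : IsClosedImmersion (Y.fromSpecResidueField (f x)) :=
    IsClosedImmersion.of_isPreimmersion _ (by rw [Scheme.range_fromSpecResidueField]; exact hy)
  have h : IsAffineHom (X.fromSpecResidueField x ≫ f) := by
    rw [← Scheme.Hom.SpecMap_residueFieldMap_fromSpecResidueField]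
    infer_instance
  exact IsFinite.iff_isProper_and_isAffineHom.2 ⟨inferInstance, h⟩

/-- An element of the function field lying in all stalks of an open is a section. -/
theorem exists_section_of_mem_stalks [IsIntegral X] (W : X.Opens) (hξ : genericPoint X ∈ W) (z : X.functionField)
    (h : ∀ x ∈ W, z ∈ Set.range (algebraMap (X.presheaf.stalk x) X.functionField)) :
    ∃ t : Γ(X, W), X.presheaf.germ W (genericPoint X) hξ t = z := by
  have key : ∀ x : W, ∃ (N : X.Opens) (_ : x.1 ∈ N) (hg : genericPoint X ∈ N) (_ : N ≤ W)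
      (s : Γ(X, N)), X.presheaf.germ N (genericPoint X) hg s = z := by
    intro x
    obtain ⟨s₀, hs₀⟩ := h x.1 x.2
    obtain ⟨N, hxN, s, rfl⟩ := X.presheaf.exists_germ_eq s₀
    have hg : genericPoint X ∈ N ⊓ W :=
      ((genericPoint_spec X).specializes trivial).mem_open (N ⊓ W).2 ⟨hxN, x.2⟩
    refine ⟨N ⊓ W, ⟨hxN, x.2⟩, hg, inf_le_right, X.presheaf.map (homOfLE inf_le_left).op s, ?_⟩
    rw [TopCat.Presheaf.germ_res_apply, ← hs₀]
    exact (TopCat.Presheaf.germ_stalkSpecializes_apply X.presheaf hxN
      ((genericPoint_spec X).specializes trivial) s).symm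
  choose N hxN hgN hNW s hs using key
  have hcompat : TopCat.Presheaf.IsCompatible X.presheaf N s := fun i j => by
    apply germ_injective_of_isIntegral X (genericPoint X) (show genericPoint X ∈ N i ⊓ N j from ⟨hgN i, hgN j⟩)
    rw [TopCat.Presheaf.germ_res_apply, TopCat.Presheaf.germ_res_apply, hs, hs]
  obtain ⟨t, ht, -⟩ := TopCat.Sheaf.existsUnique_gluing' X.sheaf N W (fun i => homOfLE (hNW i))
    (fun x hx => Opens.mem_iSup.mpr ⟨⟨x, hx⟩, hxN ⟨x, hx⟩⟩) s hcompat
  refine ⟨t, ?_⟩
  rw [← hs ⟨genericPoint X, hξ⟩, ← ht ⟨genericPoint X, hξ⟩]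
  exact (TopCat.Presheaf.germ_res_apply X.presheaf _ _ _ t).symm

/-- A proper birational morphism has trivial direct image if the target is normal wherever it is not a
local isomorphism. -/
theorem isIso_app_of_normal_or_iso [IsIntegral X] [IsIntegral Y] (f : X ⟶ Y) [IsProper f]
    (e : f (genericPoint X) = genericPoint Y) (hbij : Function.Bijective (Groth.L21.Curve.ffMap f e))
    (hN : ∀ y : Y, IsIntegrallyClosed (Y.presheaf.stalk y) ∨
      ∃ x, f x = y ∧ Function.Surjective (f.stalkMap x)) (U : Y.Opens) : IsIso (f.app U) := by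
  rw [ConcreteCategory.isIso_iff_bijective]
  refine Groth.L17.bijective_app_of_affine f (fun V hV => ?_) U
  rcases (V : Set Y).eq_empty_or_nonempty with h0 | hne
  · obtain rfl : V = ⊥ := SetLike.coe_injective h0
    haveI : Subsingleton Γ(X, f ⁻¹ᵁ ⊥) := by
      rw [show f ⁻¹ᵁ (⊥ : Y.Opens) = ⊥ from rfl]; infer_instance
    exact ⟨fun a b _ => Subsingleton.elim a b, fun s => ⟨0, Subsingleton.elim _ _⟩⟩
  have h2 := Groth.L16.BirNormal.mem_preimage f e hne
  have h1 : genericPoint Y ∈ V := e ▸ h2
  refine ⟨fun a b hab => germ_injective_of_isIntegral Y (genericPoint Y) h1 (hbij.1 ?_), fun s => ?_⟩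
  · rw [← Groth.L16.BirNormal.germ_app f e h1 h2, ← Groth.L16.BirNormal.germ_app f e h1 h2, hab]
  obtain ⟨c, hc⟩ := hbij.2 (X.presheaf.germ (f ⁻¹ᵁ V) (genericPoint X) h2 s)
  obtain ⟨p, hp, hp'⟩ := Groth.L16.Connected.isIntegral_app f hV s
  have h3 : (Groth.L21.Curve.ffMap f e).comp (Y.presheaf.germ V (genericPoint Y) h1).hom =
      (X.presheaf.germ (f ⁻¹ᵁ V) (genericPoint X) h2).hom.comp (f.app V).hom :=
    RingHom.ext fun a => (Groth.L16.BirNormal.germ_app f e h1 h2 a).symm
  have hci : p.eval₂ (Y.presheaf.germ V (genericPoint Y) h1).hom c = 0 := hbij.1 (by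
    rw [map_zero, Polynomial.hom_eval₂, h3, hc, ← Polynomial.hom_eval₂, hp', map_zero])
  obtain ⟨t, ht⟩ := exists_section_of_mem_stalks V h1 c fun y hy => by
    rcases hN y with hy' | ⟨x, rfl, hsurj⟩
    · haveI := hy'
      refine IsIntegrallyClosed.isIntegral_iff.1 ⟨p.map (Y.presheaf.germ V y hy).hom, hp.map _, ?_⟩
      rw [Polynomial.eval₂_map, show (algebraMap (Y.presheaf.stalk y) Y.functionField).comp
        (Y.presheaf.germ V y hy).hom = (Y.presheaf.germ V (genericPoint Y) h1).hom from
          RingHom.ext fun a => TopCat.Presheaf.germ_stalkSpecializes_apply Y.presheaf hy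
            ((genericPoint_spec Y).specializes trivial) a]
      exact hci
    · obtain ⟨v, hv⟩ := hsurj (X.presheaf.germ (f ⁻¹ᵁ V) x hy s)
      refine ⟨v, hbij.1 ?_⟩
      rw [hc, ← Groth.L21.Curve.algebraMap_stalkMap f e x v]
      exact (congrArg _ hv).trans (TopCat.Presheaf.germ_stalkSpecializes_apply X.presheaf hy
        ((genericPoint_spec X).specializes trivial) s)
  refine ⟨t, germ_injective_of_isIntegral X (genericPoint X) h2 ?_⟩
  rw [Groth.L16.BirNormal.germ_app f e h1 h2, ht, hc]

end Groth.L05.PtSeq
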