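import Groth.Agent.L05.PtSeq.DomKey
import Groth.Agent.L13.ModFibre
import Groth.Agent.L03.BlowPt.Factor
import Groth.Agent.L16.Connected.ZMTIso
import Mathlib.AlgebraicGeometry.Morphisms.QuasiFinite

/-!
# Domination of a modification over one regular surface point
-/

set_option autoImplicit false
set_option linter.style.haveILetI false
set_option backward.isDefEq.respectTransparency false

universe u

open CategoryTheory CategoryTheory.Limits AlgebraicGeometry TopologicalSpace IsLocalRing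

noncomputable section

namespace Groth.L05.PtSeq

variable {X Y : Scheme.{u}}

theorem isIso_stalkMap_of_restrict (f : X ⟶ Y) (V : Y.Opens) [IsIso (f ∣_ V)] {x : X} (hx : f x ∈ V) :
    IsIso (f.stalkMap x) :=
  ((MorphismProperty.isomorphisms CommRingCat).arrow_mk_iso_iff (morphismRestrictStalkMap f V ⟨x, hx⟩)).1
    (inferInstance : IsIso ((f ∣_ V).stalkMap ⟨x, hx⟩))

theorem ffMap_bijective [IsIntegral X] [IsIntegral Y] (f : X ⟶ Y) (V : Y.Opens) (hne : (V : Set Y).Nonempty)
    [IsIso (f ∣_ V)] :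
    ∃ e : f (genericPoint X) = genericPoint Y, Function.Bijective (Groth.L21.Curve.ffMap f e) := by
  obtain ⟨e, he⟩ := birational_data f ⟨V, hne, inferInstance⟩
  haveI := he
  haveI : IsIso (Y.presheaf.stalkSpecializes (specializes_of_eq e)) :=
    (Y.presheaf.stalkCongr (.of_eq e)).symm.isIso_hom
  exact ⟨e, ConcreteCategory.bijective_of_isIso
    (Y.presheaf.stalkSpecializes (specializes_of_eq e) ≫ f.stalkMap (genericPoint X))⟩

theorem exists_isolated_generalization {F : Set X} (hF : IsClosed F) {x : X} (hx : x ∈ F) :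
    ∃ ξ ∈ F, (∀ w ∈ F, w ⤳ ξ → w = ξ) ∧ ξ ⤳ x := by
  haveI : QuasiSober F := (IsClosed.isClosedEmbedding_subtypeVal hF).quasiSober
  obtain ⟨ξ, hξ⟩ := QuasiSober.sober (isIrreducible_irreducibleComponent (x := (⟨x, hx⟩ : F)))
    isClosed_irreducibleComponent
  refine ⟨ξ.1, ξ.2, fun w hw hwξ => ?_, (hξ.specializes mem_irreducibleComponent).map continuous_subtype_val⟩
  let C := irreducibleComponent (⟨x, hx⟩ : F)
  have hle : C ⊆ closure {(⟨w, hw⟩ : F)} := by
    have h' : closure {ξ} = C := hξ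
    rw [← h']
    refine closure_minimal (Set.singleton_subset_iff.2 ?_) isClosed_closure
    rw [← specializes_iff_mem_closure, ← Topology.IsInducing.subtypeVal.specializes_iff]
    exact hwξ
  have heq : closure {(⟨w, hw⟩ : F)} = C :=
    le_antisymm ((irreducibleComponent_mem_irreducibleComponents (⟨x, hx⟩ : F)).2
      isIrreducible_singleton.closure hle) hle
  exact congrArg Subtype.val (IsGenericPoint.eq (show IsGenericPoint (⟨w, hw⟩ : F) C from heq) hξ)

theorem genericPoint_ne_of_dim [IsIntegral X] {t : X} (hd : ringKrullDim (X.presheaf.stalk t) = 2) :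
    genericPoint X ≠ t := by
  rintro rfl
  rw [dim_stalk_genericPoint] at hd
  exact absurd hd (by decide)

theorem contracted_finite_over [IsIntegral X] [IsIntegral Y] [AlgebraicGeometry.IsNoetherian X]
    [AlgebraicGeometry.IsNoetherian Y] {t : X} (ht : IsClosed ({t} : Set X))
    (hd : ringKrullDim (X.presheaf.stalk t) = 2) (f : Y ⟶ X) [IsProper f]
    (hf : IsIso (f ∣_ (⟨{t}ᶜ, ht.isOpen_compl⟩ : X.Opens))) :
    {η : Y | f η = t ∧ ¬ IsClosed ({η} : Set Y)}.Finite := by
  haveI := hf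
  have hξ := genericPoint_ne_of_dim hd
  obtain ⟨e, -⟩ := ffMap_bijective f (⟨{t}ᶜ, ht.isOpen_compl⟩ : X.Opens) ⟨_, hξ⟩
  refine (finite_isolated (ht.preimage f.continuous)).subset fun η ⟨hη, hncl⟩ => ⟨hη, fun w hw hwη => ?_⟩
  by_contra hwne
  obtain ⟨d, hd₀, hne⟩ : ∃ d, η ⤳ d ∧ d ≠ η := by
    by_contra h
    push Not at h
    exact hncl (closure_subset_iff_isClosed.1 fun d hd' => h d (specializes_iff_mem_closure.2 hd'))
  have hdt : f d = t := (hd₀.map f.continuous).mem_closed ht hη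
  have h1 := Groth.L03.BlowPt.Factor.dim_add_one_le (genericPoint_specializes w) fun h => hξ (by
    rw [← e, h]; exact hw)
  have h2 := Groth.L03.BlowPt.Factor.dim_add_one_le hwη hwne
  have h3 := Groth.L03.BlowPt.Factor.dim_add_one_le hd₀ hne.symm
  have h4 := Groth.L13.ModFibre.ringKrullDim_stalk_le f (⟨{t}ᶜ, ht.isOpen_compl⟩ : X.Opens)
    ⟨genericPoint Y, show f (genericPoint Y) ≠ t by rw [e]; exact hξ⟩ d
  rw [dim_stalk_genericPoint, zero_add] at h1
  rw [hdt, hd] at h4
  have h5 := ((add_le_add (((add_le_add h1 le_rfl).trans h2)) le_rfl).trans h3).trans h4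
  exact absurd h5 (by decide)

theorem stI_prod_eq_top {ι : Type*} (s : Finset ι) (J : ι → X.IdealSheafData) {z : X}
    (h : ∀ i ∈ s, stI (J i) z = ⊤) : stI (∏ i ∈ s, J i) z = ⊤ := by
  classical
  induction s using Finset.induction_on with
  | empty => rw [Finset.prod_empty, Scheme.IdealSheafData.one_eq_top, stI_top]
  | insert a s ha ih =>
    rw [Finset.prod_insert ha, stI_mul, h a (Finset.mem_insert_self a s),
      ih fun i hi => h i (Finset.mem_insert_of_mem hi), Ideal.top_mul]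

theorem isEffCartier_comap_of_prod {ι : Type*} (s : Finset ι) (J : ι → X.IdealSheafData) (g : Y ⟶ X)
    (hC : BlowUp.IsEffCartierIdeal ((∏ i ∈ s, J i).comap g)) {i : ι} (hi : i ∈ s) :
    BlowUp.IsEffCartierIdeal ((J i).comap g) := by
  classical
  rw [← Finset.mul_prod_erase s J hi, Groth.L22.Ideals.comap_mul] at hC
  exact Groth.L22.Ideals.isEffCartier_left_of_mul hC

/-- A modification over a regular surface point is dominated by anything principalising a suitable ideal. -/
theorem exists_local_ideal [IsIntegral X] [AlgebraicGeometry.IsNoetherian X] [IsIntegral Y] {t : X}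
    (ht : IsClosed ({t} : Set X)) (hr : IsRegularLocalRing (X.presheaf.stalk t))
    (hd : ringKrullDim (X.presheaf.stalk t) = 2) (f : Y ⟶ X) [IsProper f]
    (hf : IsIso (f ∣_ (⟨{t}ᶜ, ht.isOpen_compl⟩ : X.Opens))) :
    ∃ J : X.IdealSheafData, (J.support : Set X) ⊆ {t} ∧
      ∀ {X' : Scheme.{u}} [IsIntegral X'] [AlgebraicGeometry.IsNoetherian X'] (g : X' ⟶ X) [IsProper g],
        IsIso (g ∣_ (⟨{t}ᶜ, ht.isOpen_compl⟩ : X.Opens)) →
        (∀ z : X', g z = t → IsRegularLocalRing (X'.presheaf.stalk z)) →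
        BlowUp.IsEffCartierIdeal (J.comap g) → ∃ h : X' ⟶ Y, h ≫ f = g := by
  let U₀ : X.Opens := ⟨{t}ᶜ, ht.isOpen_compl⟩
  haveI : IsIso (f ∣_ U₀) := hf
  have hξ : genericPoint X ∈ U₀ := genericPoint_ne_of_dim hd
  haveI : IsLocallyNoetherian Y := LocallyOfFiniteType.isLocallyNoetherian f
  haveI : CompactSpace Y := QuasiCompact.compactSpace_of_compactSpace f
  haveI : AlgebraicGeometry.IsNoetherian Y := ⟨⟩
  obtain ⟨ef, hbf⟩ := ffMap_bijective f U₀ ⟨_, hξ⟩
  let P : Set Y := {η | f η = t ∧ ¬ IsClosed ({η} : Set Y)}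
  have hP : P.Finite := contracted_finite_over ht hd f hf
  choose V htV a b O hO c hn hb heq hni using fun η : hP.toFinset =>
    exists_point_data f ef hbf ht hr hd (hP.mem_toFinset.1 η.2).1 (hP.mem_toFinset.1 η.2).2
  choose n hn using hn
  choose J hJs hJt using fun η : hP.toFinset => exists_ideal_of_stalk ht _ (hn η)
  refine ⟨∏ η, J η, fun z hz => ?_, fun {X'} _ _ g _ hg hreg hC => ?_⟩
  · by_contra hzt
    exact (stI_eq_top_iff _ z).1 (stI_prod_eq_top _ J fun η _ =>
      (stI_eq_top_iff _ z).2 fun h => hzt (hJs η h)) hz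
  haveI : IsIso (g ∣_ U₀) := hg
  obtain ⟨eg, -⟩ := ffMap_bijective g U₀ ⟨_, hξ⟩
  let O' : X'.Opens := g ⁻¹ᵁ U₀
  have hξ' : genericPoint X' ∈ O' := by show g (genericPoint X') ∈ U₀; rw [eg]; exact hξ
  haveI : Nonempty O' := ⟨⟨_, hξ'⟩⟩
  haveI : IsIntegral (O' : Scheme.{u}) := isIntegral_of_isOpenImmersion O'.ι
  let b' : (O' : Scheme.{u}) ⟶ Y := (g ∣_ U₀) ≫ inv (f ∣_ U₀) ≫ (f ⁻¹ᵁ U₀).ι
  have hb' : O'.ι ≫ g = b' ≫ f := by
    show _ = ((g ∣_ U₀) ≫ inv (f ∣_ U₀) ≫ (f ⁻¹ᵁ U₀).ι) ≫ f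
    rw [Category.assoc, Category.assoc, ← morphismRestrict_ι f U₀, IsIso.inv_hom_id_assoc, morphismRestrict_ι]
  let s : (O' : Scheme.{u}) ⟶ pullback g f := pullback.lift O'.ι b' hb'
  obtain ⟨W, ι, hW, hι, hrange, hgenW⟩ := exists_closure_subscheme (s (genericPoint (O' : Scheme.{u})))
  haveI := hι; haveI := hW
  obtain ⟨s', hs'⟩ := exists_lift_closed ι s (by
    rintro _ ⟨z, rfl⟩
    rw [hrange]
    exact specializes_iff_mem_closure.1 ((genericPoint_specializes z).map s.continuous))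
  let q₁ : W ⟶ X' := ι ≫ pullback.fst g f
  let q₂ : W ⟶ Y := ι ≫ pullback.snd g f
  have hq : q₁ ≫ g = q₂ ≫ f := by
    show (ι ≫ pullback.fst g f) ≫ g = (ι ≫ pullback.snd g f) ≫ f
    rw [Category.assoc, Category.assoc, pullback.condition]
  haveI : IsProper (pullback.fst g f) := MorphismProperty.pullback_fst g f ‹IsProper f›
  haveI : IsProper q₁ := MorphismProperty.comp_mem _ _ _ (inferInstance : IsProper ι) ‹IsProper (pullback.fst g f)›
  have hs'₁ : s' ≫ q₁ = O'.ι := by
    show s' ≫ ι ≫ pullback.fst g f = _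
    rw [reassoc_of% hs', pullback.lift_fst]
  have e₁ : q₁ (genericPoint W) = genericPoint X' := by
    show (ι ≫ pullback.fst g f) (genericPoint W) = _
    rw [Scheme.Hom.comp_apply, hgenW, ← Scheme.Hom.comp_apply, pullback.lift_fst]
    exact genericPoint_eq_of_isOpenImmersion O'.ι
  haveI hiso : IsIso (q₁ ∣_ O') := by
    have hr₁ : Set.range s' ⊆ Set.range (q₁ ⁻¹ᵁ O').ι := by
      rintro _ ⟨z, rfl⟩
      rw [Scheme.Opens.range_ι]
      show q₁ (s' z) ∈ O'
      rw [← Scheme.Hom.comp_apply, hs'₁]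
      exact z.2
    refine ⟨IsOpenImmersion.lift (q₁ ⁻¹ᵁ O').ι s' hr₁, ?_, ?_⟩
    · rw [← cancel_mono (q₁ ⁻¹ᵁ O').ι, Category.assoc, IsOpenImmersion.lift_fac, Category.id_comp,
        ← cancel_mono ι, Category.assoc, hs']
      apply pullback.hom_ext
      · rw [Category.assoc, pullback.lift_fst, morphismRestrict_ι, Category.assoc]
      · refine eq_of_mono_over f U₀ ?_ fun z => ?_
        · simp only [Category.assoc]
          rw [pullback.lift_snd_assoc, ← hb', morphismRestrict_ι_assoc, ← pullback.condition, Category.assoc]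
        · rw [Category.assoc, pullback.lift_snd]
          show f (b' ((q₁ ∣_ O') z)) ∈ U₀
          rw [← Scheme.Hom.comp_apply, ← hb']
          exact ((q₁ ∣_ O') z).2
    · rw [← cancel_mono O'.ι, Category.assoc, morphismRestrict_ι, IsOpenImmersion.lift_fac_assoc, hs'₁,
        Category.id_comp]
  obtain ⟨e₁', hbq⟩ := ffMap_bijective q₁ O' ⟨_, hξ'⟩
  have hnorm : ∀ z : X', z ∉ O' → g z = t ∧ IsIntegrallyClosed (X'.presheaf.stalk z) := fun z hz => by
    have hzt : g z = t := not_not.1 hz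
    haveI := hreg z hzt
    exact ⟨hzt, Groth.L03.RegularNormal.isIntegrallyClosed _⟩
  have hsing : ∀ z ∈ O', ∃ x, q₁ x = z := fun z hz => ⟨s' ⟨z, hz⟩, by
    rw [← Scheme.Hom.comp_apply, hs'₁]; rfl⟩
  have happ : ∀ U, IsIso (q₁.app U) := isIso_app_of_normal_or_iso q₁ e₁' hbq fun z => by
    by_cases hz : z ∈ O'
    · obtain ⟨x, hx⟩ := hsing z hz
      haveI := isIso_stalkMap_of_restrict q₁ O' (x := x) (hx.symm ▸ hz)
      exact Or.inr ⟨x, hx, (ConcreteCategory.bijective_of_isIso (q₁.stalkMap x)).2⟩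
    · exact Or.inl (hnorm z hz).2
  have hfib : ∀ z : X', (q₁ ⁻¹' {z}).Finite := fun z => by
    by_cases hz : z ∈ O'
    · refine Set.Subsingleton.finite fun x (hx : q₁ x = z) y (hy : q₁ y = z) => ?_
      exact Groth.L05.RelMinExists.eq_of_isIso_restrict' q₁ O' (hx.symm ▸ hz : q₁ x ∈ O') (hx.trans hy.symm)
    obtain ⟨hzt, hzn⟩ := hnorm z hz
    by_cases hz1 : ringKrullDim (X'.presheaf.stalk z) ≤ 1
    · haveI := hzn
      haveI := Groth.L16.Connected.valuationRing_of_dim_le_one hz1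
      refine Set.Subsingleton.finite fun x (hx : q₁ x = z) y (hy : q₁ y = z) => ?_
      subst hx
      exact (Groth.L16.Connected.eq_of_valuationRing q₁ e₁' hbq x y hy).symm
    have hzcl : IsClosed ({z} : Set X') := closure_subset_iff_isClosed.1 fun z' hz' => by
      have hsp : z ⤳ z' := specializes_iff_mem_closure.2 hz'
      by_contra hne
      have hz't : g z' = t := (hsp.map g.continuous).mem_closed ht hzt
      have h1 := Groth.L03.BlowPt.Factor.dim_add_one_le hsp (Ne.symm hne)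
      have h2 := Groth.L13.ModFibre.ringKrullDim_stalk_le g U₀ ⟨_, hξ'⟩ z'
      rw [hz't, hd] at h2
      have h3 := h1.trans h2
      generalize ringKrullDim (X'.presheaf.stalk z) = D at hz1 h3
      cases D with
      | bot => exact hz1 bot_le
      | coe D =>
        cases D with
        | top => exact absurd h3 (by decide)
        | coe m =>
          have h3' : m + 1 ≤ 2 := by
            have h4 : (((m + 1 : ℕ) : ℕ∞) : WithBot ℕ∞) ≤ (((2 : ℕ) : ℕ∞) : WithBot ℕ∞) := h3
            exact Nat.cast_le.1 (WithBot.coe_le_coe.1 h4)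
          exact hz1 (by exact_mod_cast (show m ≤ 1 by omega))
    have hF : IsClosed (q₁ ⁻¹' {z}) := hzcl.preimage q₁.continuous
    haveI : IsLocallyNoetherian W := LocallyOfFiniteType.isLocallyNoetherian q₁
    haveI : CompactSpace W := QuasiCompact.compactSpace_of_compactSpace q₁
    haveI : AlgebraicGeometry.IsNoetherian W := ⟨⟩
    have hclosed : ∀ η : W, q₁ η = z → IsClosed ({q₂ η} : Set Y) := fun η hη => by
      by_contra hncl
      have hfη : f (q₂ η) = t := by rw [← Scheme.Hom.comp_apply, ← hq, Scheme.Hom.comp_apply, hη, hzt]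
      let i : hP.toFinset := ⟨q₂ η, hP.mem_toFinset.2 ⟨hfη, hncl⟩⟩
      exact false_of_principal f g eg q₁ q₂ e₁ hq η (hη.symm ▸ hzcl) ht (hη.symm ▸ hzt) (V i) (htV i) (a i) (b i)
        (O i) (hO i) (c i) (hb i) (heq i) (hni i) (J i) (hJt i)
        (isEffCartier_comap_of_prod _ J g hC (Finset.mem_univ i))
    refine ((finite_isolated hF).biUnion (t := fun ξ => ι ⁻¹' {r : ↑(pullback g f) |
      pullback.fst g f r = z ∧ pullback.snd g f r = q₂ ξ}) fun ξ hξF => ?_).subset fun x hx => ?_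
    · have hη₀ : IsClosed ({q₂ ξ} : Set Y) := hclosed ξ hξF.1
      have hf₀ : f (q₂ ξ) = t := by
        rw [← Scheme.Hom.comp_apply, ← hq, Scheme.Hom.comp_apply, show q₁ ξ = z from hξF.1, hzt]
      let k := Y.fromSpecResidueField (q₂ ξ)
      haveI : IsFinite (k ≫ f) := isFinite_fromSpecResidueField f hη₀ (hf₀.symm ▸ ht)
      let m := pullback.map g (k ≫ f) g f (𝟙 _) k (𝟙 _) (by simp) (by simp)
      haveI : IsFinite (pullback.fst g (k ≫ f)) := MorphismProperty.pullback_fst _ _ ‹_›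
      refine Set.Finite.preimage ι.isEmbedding.injective.injOn
        (((pullback.fst g (k ≫ f)).finite_preimage_singleton z).image m |>.subset fun r ⟨hr₁, hr₂⟩ => ?_)
      obtain ⟨r', hr'⟩ : r ∈ Set.range m := by
        rw [Scheme.Pullback.range_map]
        exact ⟨⟨_, rfl⟩, by
          show pullback.snd g f r ∈ Set.range k
          rw [Scheme.range_fromSpecResidueField, hr₂]; rfl⟩
      refine ⟨r', ?_, hr'⟩
      show pullback.fst g (k ≫ f) r' = z
      rw [← hr₁, ← hr', ← Scheme.Hom.comp_apply]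
      exact congrArg (fun φ : _ ⟶ X' => φ r') (by simp [m])
    · obtain ⟨ξ, hξF, hmax, hsp⟩ := exists_isolated_generalization hF hx
      exact Set.mem_biUnion ⟨hξF, hmax⟩
        ⟨show q₁ x = z from hx, (hsp.map q₂.continuous).mem_closed (hclosed ξ hξF) rfl⟩
  obtain ⟨V', hV', hV'iso⟩ := Groth.L16.Connected.exists_isIso_restrict_finite_fibres q₁ happ
  obtain rfl : V' = ⊤ := top_le_iff.1 fun z _ => (hV' z).2 (hfib z)
  haveI := hV'iso
  haveI : IsIso q₁ := by
    haveI : IsIso ((q₁ ⁻¹ᵁ (⊤ : X'.Opens)).ι) := by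
      show IsIso ((⊤ : W.Opens)).ι
      exact W.topIso.isIso_hom
    haveI : IsIso ((⊤ : X'.Opens)).ι := X'.topIso.isIso_hom
    haveI h : IsIso ((q₁ ⁻¹ᵁ (⊤ : X'.Opens)).ι ≫ q₁) := by rw [← morphismRestrict_ι]; infer_instance
    exact IsIso.of_isIso_comp_left (q₁ ⁻¹ᵁ (⊤ : X'.Opens)).ι q₁
  exact ⟨inv q₁ ≫ q₂, by rw [Category.assoc, ← hq, IsIso.inv_hom_id_assoc]⟩

end Groth.L05.PtSeq
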