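import Groth.Agent.S7358
import Groth.Agent.S7373
import Groth.Agent.L23.SchKer

/-!
# Embedded resolution of finitely many curves by point blow-ups
-/

set_option autoImplicit false
set_option linter.style.haveILetI false
set_option backward.isDefEq.respectTransparency false

universe u

open CategoryTheory CategoryTheory.Limits AlgebraicGeometry TopologicalSpace
open Groth.L03.BlowPt (ptI exc)
open Groth.L22
open Resolve

noncomputable section

namespace Groth.L05.PtSeq

theorem ptSeq_iso_comp {Z X : Scheme.{u}} {r : Z ⟶ X} (hr : IsPtBlowupSeq r) :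
    ∀ {Y : Scheme.{u}} (e : Y ≅ Z), IsPtBlowupSeq (e.hom ≫ r) := by
  induction hr with
  | iso e' => exact fun e => IsPtBlowupSeq.iso (e ≪≫ e')
  | step b r z hz hb hr _ =>
    intro Y e
    rw [← Category.assoc]
    exact .step _ r z hz (Groth.L13.Contraction.isBlowUp_of_iso_source e hb) hr

theorem ptSeq_comp {Y Z : Scheme.{u}} {r : Y ⟶ Z} (hr : IsPtBlowupSeq r) :
    ∀ {X : Scheme.{u}} {s : Z ⟶ X}, IsPtBlowupSeq s → IsPtBlowupSeq (r ≫ s) := by
  induction hr with
  | iso e => exact fun hs => ptSeq_iso_comp hs e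
  | step b r z hz hb _ ih =>
    intro X s hs
    rw [Category.assoc]
    exact .step b _ z hz hb (ih hs)

theorem ptSeq_noetherian {X' X : Scheme.{u}} {g : X' ⟶ X} (hg : IsPtBlowupSeq g) :
    ∀ [AlgebraicGeometry.IsNoetherian X], AlgebraicGeometry.IsNoetherian X' ∧ IsProper g := by
  induction hg with
  | @iso Y X e =>
    intro _
    haveI : IsLocallyNoetherian Y := LocallyOfFiniteType.isLocallyNoetherian e.hom
    haveI : CompactSpace Y := QuasiCompact.compactSpace_of_compactSpace e.hom
    exact ⟨⟨⟩, inferInstance⟩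
  | @step Y Z X b r z hz hb hr ih =>
    intro _
    obtain ⟨hN, hp⟩ := ih
    haveI := hN; haveI := hp
    haveI : IsProper b := Groth.L13.BU.isProper_blowUp hb fun U =>
      haveI : IsNoetherianRing Γ(Z, U.1) := IsLocallyNoetherian.component_noetherian U
      IsNoetherian.noetherian _
    haveI : IsLocallyNoetherian Y := LocallyOfFiniteType.isLocallyNoetherian b
    haveI : CompactSpace Y := QuasiCompact.compactSpace_of_compactSpace b
    exact ⟨⟨⟩, inferInstance⟩

theorem isClosed_of_ne_generic {C : Scheme.{u}} [IsIntegral C] (hd : topologicalKrullDim C ≤ 1) {c : C}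
    (hc : c ≠ genericPoint C) : IsClosed ({c} : Set C) := by
  refine closure_subset_iff_isClosed.1 fun d hd' => ?_
  by_contra hdc
  have h1 := Groth.L03.BlowPt.Factor.dim_add_one_le (genericPoint_specializes c) (Ne.symm hc)
  have h2 := Groth.L03.BlowPt.Factor.dim_add_one_le (specializes_iff_mem_closure.2 hd') (Ne.symm hdc)
  have h3 := (Groth.L15.CohFlat.ringKrullDim_stalk_le d).trans hd
  rw [dim_stalk_genericPoint, zero_add] at h1
  exact absurd (((add_le_add h1 le_rfl).trans h2).trans h3) (by decide)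

theorem one_le_dim {C : Scheme.{u}} [IsIntegral C] (hgen : ¬ IsClosed ({genericPoint C} : Set C)) :
    1 ≤ topologicalKrullDim C := by
  obtain ⟨c, hc⟩ : ∃ c : C, c ≠ genericPoint C := by
    by_contra h
    push Not at h
    refine hgen ?_
    rw [show ({genericPoint C} : Set C) = Set.univ from Set.eq_univ_of_forall h]
    exact isClosed_univ
  have h1 := Groth.L03.BlowPt.Factor.dim_add_one_le (genericPoint_specializes c) (Ne.symm hc)
  rw [dim_stalk_genericPoint, zero_add] at h1
  exact h1.trans (Groth.L15.CohFlat.ringKrullDim_stalk_le c)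

theorem stI_ne_bot {C : Scheme.{u}} [IsIntegral C] {J : C.IdealSheafData}
    (hη : genericPoint C ∉ (J.support : Set C)) (c : C) : stI J c ≠ ⊥ := by
  intro h0
  obtain ⟨U, hU⟩ := exists_affine c
  have h2 := Groth.L05.FibreDecomp.map_stalkSpecializes J U c hU (genericPoint_specializes c)
  rw [← stI_eq, h0, Ideal.map_bot, ← stI_eq] at h2
  exact bot_ne_top (α := Ideal (C.presheaf.stalk (genericPoint C))) (h2.trans ((stI_eq_top_iff _ _).2 hη))

theorem pir_stalk {C : Scheme.{u}} [IsIntegral C] [IsLocallyNoetherian C] (hd : topologicalKrullDim C ≤ 1)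
    (c : C) (hreg : IsRegularLocalRing (C.presheaf.stalk c)) : IsPrincipalIdealRing (C.presheaf.stalk c) := by
  haveI := hreg
  refine ((tfae_of_isNoetherianRing_of_isLocalRing_of_isDomain (C.presheaf.stalk c)).out 0 5).2 ?_
  have h := (IsRegularLocalRing.iff_finrank_cotangentSpace (R := C.presheaf.stalk c)).1 inferInstance
  have h1 := h.le.trans ((Groth.L15.CohFlat.ringKrullDim_stalk_le c).trans hd)
  exact_mod_cast h1

theorem finite_length_quot {C : Scheme.{u}} [IsIntegral C] [IsLocallyNoetherian C]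
    (hd : topologicalKrullDim C ≤ 1) (c : C) (hreg : IsRegularLocalRing (C.presheaf.stalk c))
    {J : Ideal (C.presheaf.stalk c)} (hJ : J ≠ ⊥) :
    Module.length (C.presheaf.stalk c) (C.presheaf.stalk c ⧸ J) ≠ ⊤ := by
  haveI := pir_stalk hd c hreg
  haveI := Groth.L01.isDomain_of_regular (C.presheaf.stalk c)
  have hall := ((tfae_of_isNoetherianRing_of_isLocalRing_of_isDomain (C.presheaf.stalk c)).out 0 6).1
    (pir_stalk hd c hreg)
  obtain ⟨k, rfl⟩ := hall J hJ
  obtain ⟨t, ht⟩ := IsPrincipalIdealRing.principal (IsLocalRing.maximalIdeal (C.presheaf.stalk c))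
  change IsLocalRing.maximalIdeal _ = Ideal.span {t} at ht
  by_cases ht0 : t = 0
  · have hk : k = 0 := by
      by_contra hk
      refine hJ ?_
      rw [ht, ht0, Ideal.span_singleton_eq_bot.2 rfl, ← Ideal.zero_eq_bot, zero_pow hk]
    subst hk
    haveI : Subsingleton (C.presheaf.stalk c ⧸ IsLocalRing.maximalIdeal (C.presheaf.stalk c) ^ 0) :=
      Ideal.Quotient.subsingleton_iff.2 (by rw [pow_zero, Ideal.one_eq_top])
    rw [Module.length_eq_zero]
    exact ENat.zero_ne_top
  · rw [ht, Ideal.span_singleton_pow, Groth.L05.FibreDecomp.length_quotient_span_pow ht ht0]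
    exact ENat.coe_ne_top k

/-- The point ideal pulls back to a Cartier divisor on a regular curve through the point. -/
theorem isEffCartier_comap_ptI {N X : Scheme.{u}} [IsIntegral N] [IsLocallyNoetherian N]
    (hd : topologicalKrullDim N ≤ 1) (hreg : ∀ n : N, IsRegularLocalRing (N.presheaf.stalk n)) (f : N ⟶ X)
    {x : X} (hx : IsClosed ({x} : Set X)) (hne : f (genericPoint N) ≠ x) :
    BlowUp.IsEffCartierIdeal ((ptI hx).comap f) := by
  refine Groth.L22.Div.isEffCartier_of_stalks _ fun n _ U hnU => ?_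
  haveI := pir_stalk hd n (hreg n)
  obtain ⟨t, ht⟩ := IsPrincipalIdealRing.principal (Groth.L22.Div.stalkIdeal ((ptI hx).comap f) U n hnU)
  refine ⟨t, ht, mem_nonZeroDivisors_of_ne_zero fun h0 => ?_⟩
  have hη : genericPoint N ∉ (((ptI hx).comap f).support : Set N) := by
    rw [Scheme.IdealSheafData.support_comap]
    show f (genericPoint N) ∉ ((ptI hx).support : Set X)
    rw [Groth.Agent.S7372.support_ptI]
    exact hne
  refine stI_ne_bot hη n ?_
  rw [stI_eq _ U hnU, ht, h0]
  exact Submodule.span_zero_singleton (R := N.presheaf.stalk n)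

theorem gen_not_closed_of_closedImm {C X : Scheme.{u}} [IsIntegral C] (f : C ⟶ X) [IsClosedImmersion f]
    (hgen : ¬ IsClosed ({genericPoint C} : Set C)) : ¬ IsClosed ({f (genericPoint C)} : Set X) := fun h => by
  refine hgen ?_
  have h1 := h.preimage f.continuous
  rwa [show f ⁻¹' {f (genericPoint C)} = {genericPoint C} from
    Set.ext fun a => ⟨fun e => f.isClosedEmbedding.injective e, fun e => congrArg f e⟩] at h1

/-- A regular curve lifts to every sequence of point blow-ups. -/
theorem exists_lift {X' X : Scheme.{u}} {G : X' ⟶ X} (hG : IsPtBlowupSeq G) :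
    ∀ [AlgebraicGeometry.IsNoetherian X] {N : Scheme.{u}} [IsIntegral N] [IsLocallyNoetherian N],
      topologicalKrullDim N ≤ 1 → (∀ n : N, IsRegularLocalRing (N.presheaf.stalk n)) →
      ∀ (f : N ⟶ X), ¬ IsClosed ({f (genericPoint N)} : Set X) → ∃ f' : N ⟶ X', f' ≫ G = f := by
  induction hG with
  | iso e =>
    intro _ N _ _ _ _ f _
    exact ⟨f ≫ e.inv, by simp⟩
  | @step Y Z X b r z hz hb hr ih =>
    intro _ N _ _ hd hreg f hf
    obtain ⟨f₁, hf₁⟩ := ih hd hreg f hf
    haveI := (ptSeq_noetherian hr).1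
    haveI := (ptSeq_noetherian hr).2
    have hne : f₁ (genericPoint N) ≠ z := fun e => hf (by
      have h := r.isClosedMap _ hz
      rw [Set.image_singleton, ← e, ← Scheme.Hom.comp_apply, hf₁] at h
      exact h)
    obtain ⟨h, hh, -⟩ := hb.2 N f₁ (isEffCartier_comap_ptI hd hreg f₁ hz hne)
    exact ⟨h, by rw [← Category.assoc, hh, hf₁]⟩

/-- The strict transform of a curve under a sequence of point blow-ups. -/
theorem exists_strict {X' X : Scheme.{u}} {G : X' ⟶ X} (hG : IsPtBlowupSeq G) :
    ∀ [AlgebraicGeometry.IsNoetherian X] {C : Scheme.{u}} (f : C ⟶ X), IsClosedImmersion f →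
      ∃ (C' : Scheme.{u}) (g : C' ⟶ C) (f' : C' ⟶ X'), IsPtBlowupSeq g ∧ IsClosedImmersion f' ∧
        f' ≫ G = g ≫ f := by
  induction hG with
  | iso e =>
    intro _ C f hf
    haveI := hf
    exact ⟨C, 𝟙 C, f ≫ e.inv, IsPtBlowupSeq.iso (Iso.refl C), inferInstance, by simp⟩
  | @step Y Z X b r z hz hb hr ih =>
    intro _ C f hf
    obtain ⟨C₁, g₁, f₁, hg₁, hf₁, hw⟩ := ih f hf
    haveI := hf; haveI := hf₁
    haveI := (ptSeq_noetherian hr).1
    haveI : IsLocallyNoetherian C₁ := LocallyOfFiniteType.isLocallyNoetherian f₁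
    by_cases hzC : z ∈ Set.range f₁
    · obtain ⟨c, rfl⟩ := hzC
      have hc : IsClosed ({c} : Set C₁) := by
        have h1 := hz.preimage f₁.continuous
        rwa [show f₁ ⁻¹' {f₁ c} = {c} from
          Set.ext fun a => ⟨fun e => f₁.isClosedEmbedding.injective e, fun e => congrArg f₁ e⟩] at h1
      have hcomp := Groth.Agent.S7373.comap_ptI f₁ hc hz
      obtain ⟨C₂, b', hb'⟩ := Groth.L13.BU.exists_isBlowUp (ptI hc)
      have hcart : BlowUp.IsEffCartierIdeal ((ptI hz).comap (b' ≫ f₁)) := by
        rw [Scheme.IdealSheafData.comap_comp, hcomp]; exact hb'.1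
      obtain ⟨h, hh, -⟩ := hb.2 C₂ (b' ≫ f₁) hcart
      have hb'' : BlowUp.IsBlowUp b' ((ptI hz).comap f₁) := by rw [hcomp]; exact hb'
      refine ⟨C₂, b' ≫ g₁, h, .step b' g₁ c hc hb' hg₁,
        Groth.Agent.S10920.result (ptI hz) f₁ b hb b' hb'' h hh, ?_⟩
      rw [← Category.assoc, hh, Category.assoc, hw, Category.assoc]
    · have hcart : BlowUp.IsEffCartierIdeal ((ptI hz).comap f₁) := by
        refine Groth.L22.Div.isEffCartier_of_stalks _ fun n hn U hnU => absurd ?_ hzC
        rw [Scheme.IdealSheafData.support_comap] at hn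
        refine ⟨n, ?_⟩
        have h' : f₁ n ∈ ((ptI hz).support : Set Z) := hn
        rwa [Groth.Agent.S7372.support_ptI] at h'
      obtain ⟨h, hh, -⟩ := hb.2 C₁ f₁ hcart
      haveI : IsProper b := Groth.L13.BU.isProper_blowUp hb fun U =>
        haveI : IsNoetherianRing Γ(Z, U.1) := IsLocallyNoetherian.component_noetherian U
        IsNoetherian.noetherian _
      haveI : IsClosedImmersion (h ≫ b) := by rw [hh]; exact hf₁
      refine ⟨C₁, g₁, h, hg₁, IsClosedImmersion.of_comp h b, ?_⟩
      rw [← Category.assoc, hh, hw]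

/-- A curve with finite normalisation mapped onto by a sequence of point blow-ups has finite normalisation. -/
theorem seq_curve {Y : Scheme.{u}} [IsIntegral Y] [AlgebraicGeometry.IsNoetherian Y]
    [QuasiCompact (Y.fromSpecStalk (genericPoint Y))] [QuasiSeparated (Y.fromSpecStalk (genericPoint Y))]
    (hdim : topologicalKrullDim Y = 1) (hfin : IsFinite (Curv2.normalizationι Y))
    {C : Scheme.{u}} {g : C ⟶ Y} (hg : IsPtBlowupSeq g) :
    ∃ (_ : IsIntegral C) (_ : AlgebraicGeometry.IsNoetherian C) (_ : IsProper g),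
      Groth.L05.MinDesing.IsBir g ∧ g (genericPoint C) = genericPoint Y ∧
      ¬ IsClosed ({genericPoint C} : Set C) ∧ topologicalKrullDim C = 1 ∧
      ∀ [QuasiCompact (C.fromSpecStalk (genericPoint C))] [QuasiSeparated (C.fromSpecStalk (genericPoint C))],
        IsFinite (Curv2.normalizationι C) := by
  have hY0 : ¬ IsClosed ({genericPoint Y} : Set Y) := fun hcl => by
    haveI : Subsingleton Y := ⟨fun a c => ((genericPoint_specializes a).mem_closed hcl rfl).trans
      ((genericPoint_specializes c).mem_closed hcl rfl).symm⟩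
    haveI : DiscreteTopology Y := Subsingleton.discreteTopology
    have h1 := topologicalKrullDim_zero_of_discreteTopology Y
    rw [hdim] at h1
    exact absurd h1 (by decide)
  obtain ⟨hi, hN, hp, hbir, hC0⟩ := Groth.Agent.S7372.seq_data hg inferInstance hY0
  haveI := hi; haveI := hN; haveI := hp; haveI := hfin
  obtain ⟨V, hV, hiso⟩ := hbir
  haveI := hiso
  obtain ⟨hgen, -⟩ := ffMap_bijective g V hV
  let N := Curv2.normalization Y
  let ν := Curv2.normalizationι Y
  haveI : IsIntegral N := inferInstanceAs (IsIntegral (Y.fromSpecStalk (genericPoint Y)).normalization)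
  haveI : IsLocallyNoetherian N := LocallyOfFiniteType.isLocallyNoetherian ν
  obtain ⟨W, hW, hWiso⟩ := Groth.L22.BM.exists_isIso_normalizationι Y
  haveI := hWiso
  obtain ⟨hνgen, -⟩ := ffMap_bijective ν W ⟨_, Groth.L05.MinDesing.genericPoint_mem hW⟩
  have hNd : topologicalKrullDim N ≤ 1 := (Groth.L19.topologicalKrullDim_le_of_isIntegralHom ν).trans hdim.le
  obtain ⟨h, hh⟩ := exists_lift hg hNd (Groth.Agent.S7321.isRegular_normalization Y hdim) ν
    (by rw [hνgen]; exact hY0)
  haveI : IsFinite (h ≫ g) := by rw [hh]; exact hfin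
  haveI : IsFinite h := IsFinite.of_comp h g
  have hhgen : h (genericPoint N) = genericPoint C :=
    (Groth.L05.RelMinExists.eq_of_isIso_restrict' g V
      (show g (genericPoint C) ∈ V by rw [hgen]; exact Groth.L05.MinDesing.genericPoint_mem hV)
      (by rw [hgen, ← Scheme.Hom.comp_apply, hh, hνgen])).symm
  haveI : Surjective h :=
    ⟨fun w => (genericPoint_specializes w).mem_closed h.isClosedMap.isClosed_range ⟨_, hhgen⟩⟩
  haveI : LocallyQuasiFinite g := by
    refine LocallyQuasiFinite.of_finite_preimage_singleton _ fun w => ?_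
    refine ((ν.finite_preimage_singleton w).image h).subset fun a ha => ?_
    obtain ⟨c, rfl⟩ := h.surjective a
    refine ⟨c, ?_, rfl⟩
    show ν c = w
    rw [← hh]; exact ha
  haveI : IsFinite g := IsFinite.of_isProper_of_locallyQuasiFinite _
  refine ⟨hi, hN, hp, ⟨V, hV, hiso⟩, hgen, hC0,
    le_antisymm ((Groth.L19.topologicalKrullDim_le_of_isIntegralHom g).trans hdim.le) (one_le_dim hC0), ?_⟩
  intro _ _
  exact Groth.Agent.S7321.isFinite_normalizationι_of_alteration C h
    (Groth.Agent.S7321.isRegular_normalization Y hdim)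

/-- The saturation of the total transform is contained in the strict transform. -/
theorem satI_le_ker {X' X C : Scheme.{u}} [IsIntegral C] {x : X} (hx : IsClosed ({x} : Set X))
    (b : X' ⟶ X) (f : C ⟶ X) [IsClosedImmersion f] (h : C ⟶ X') [QuasiCompact h] (hh : h ≫ b = f)
    (hne : f (genericPoint C) ≠ x) : satI (f.ker.comap b) (exc hx b) ≤ h.ker := by
  let E := exc hx b
  let V : C.Opens := ⟨(f ⁻¹' {x})ᶜ, (hx.preimage f.continuous).isOpen_compl⟩
  haveI : Nonempty (V : Scheme.{u}) := ⟨⟨genericPoint C, hne⟩⟩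
  haveI : IsDominant V.ι := ⟨by
    rw [DenseRange, Scheme.Opens.range_ι]
    exact V.2.dense ⟨genericPoint C, hne⟩⟩
  haveI : IsSchemeTheoreticallyDominant V.ι := IsSchemeTheoreticallyDominant.of_isDominant V.ι
  have hk : (V.ι ≫ h).ker = h.ker := by
    rw [Scheme.Hom.ker_comp, V.ι.ker_eq_bot, Scheme.IdealSheafData.map_bot]
  rw [← hk]
  let m : C ⟶ (f.ker.comap b).subscheme :=
    pullback.lift h f.toImage (by rw [hh]; exact f.toImage_imageι.symm) ≫ (f.ker.comapIso b).inv
  have hm : m ≫ (f.ker.comap b).subschemeι = h := by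
    rw [Category.assoc, Scheme.IdealSheafData.comapIso_inv_subschemeι, pullback.lift_fst]
  have hVm : Set.range (V.ι ≫ m) ⊆ Set.range ((f.ker.comap b).subschemeι ⁻¹ᵁ E.support.compl).ι := by
    rintro _ ⟨a, rfl⟩
    rw [Scheme.Opens.range_ι]
    show ((m ≫ (f.ker.comap b).subschemeι) a.1) ∉ (E.support : Set X')
    rw [hm]
    show h a.1 ∉ (((ptI hx).comap b).support : Set X')
    rw [Scheme.IdealSheafData.support_comap]
    show b (h a.1) ∉ ((ptI hx).support : Set X)
    rw [Groth.Agent.S7372.support_ptI, ← Scheme.Hom.comp_apply, hh]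
    exact a.2
  let m' := IsOpenImmersion.lift _ (V.ι ≫ m) hVm
  have hfac : m' ≫ ((f.ker.comap b).subschemeι ⁻¹ᵁ E.support.compl).ι ≫ (f.ker.comap b).subschemeι = V.ι ≫ h := by
    rw [IsOpenImmersion.lift_fac_assoc, Category.assoc, hm]
  rw [← hfac]
  exact Scheme.Hom.le_ker_comp _ _

theorem mem_support_comap_ker {A B X : Scheme.{u}} (φ : A ⟶ X) (ψ : B ⟶ X) [IsClosedImmersion ψ] (a : A) :
    a ∈ ((ψ.ker.comap φ).support : Set A) ↔ φ a ∈ Set.range ψ := by
  rw [Scheme.IdealSheafData.support_comap]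
  show φ a ∈ (ψ.ker.support : Set X) ↔ _
  rw [Scheme.Hom.support_ker, ψ.isClosedEmbedding.isClosed_range.closure_eq]

end Groth.L05.PtSeq
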