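import Groth.Agent.L05.PtSeq.Dominate
import Groth.Agent.S11555

/-!
# Rational maps from a regular surface become morphisms after point blow-ups
-/

set_option autoImplicit false
set_option linter.style.haveILetI false
set_option backward.isDefEq.respectTransparency false

universe u

open CategoryTheory CategoryTheory.Limits AlgebraicGeometry TopologicalSpace IsLocalRing

noncomputable section

namespace Groth.L05.PtSeq

variable {X Z S : Scheme.{u}}

/-- The reduced closure of the graph of a rational map. -/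
theorem exists_graph_closure [IsIntegral X] (p : X ⟶ S) (z : Z ⟶ S) [IsProper z] (U : X.Opens)
    (hU : (U : Set X).Nonempty) (φ : (U : Scheme.{u}) ⟶ Z) (hφ : φ ≫ z = U.ι ≫ p) :
    ∃ (Y : Scheme.{u}) (q : Y ⟶ X) (ψ : Y ⟶ Z) (_ : IsIntegral Y) (_ : IsProper q),
      ψ ≫ z = q ≫ p ∧ IsIso (q ∣_ U) ∧ (q ⁻¹ᵁ U).ι ≫ ψ = (q ∣_ U) ≫ φ := by
  obtain ⟨u₀, hu₀⟩ := hU
  haveI : Nonempty U := ⟨⟨u₀, hu₀⟩⟩
  haveI : IsIntegral (U : Scheme.{u}) := isIntegral_of_isOpenImmersion U.ι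
  let γ : (U : Scheme.{u}) ⟶ pullback p z := pullback.lift U.ι φ hφ.symm
  obtain ⟨Y, ι, hY, hι, hr, hgen⟩ := exists_closure_subscheme (γ (genericPoint (U : Scheme.{u})))
  haveI := hY; haveI := hι
  obtain ⟨s, hs⟩ := exists_lift_closed ι γ (by
    rintro _ ⟨x, rfl⟩
    rw [hr]
    exact specializes_iff_mem_closure.1 ((genericPoint_specializes x).map γ.continuous))
  let q : Y ⟶ X := ι ≫ pullback.fst p z
  let ψ : Y ⟶ Z := ι ≫ pullback.snd p z
  haveI : IsProper (pullback.fst p z) := MorphismProperty.pullback_fst p z ‹IsProper z›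
  haveI : IsProper q := MorphismProperty.comp_mem _ _ _ (inferInstance : IsProper ι) ‹IsProper (pullback.fst p z)›
  have hq : ψ ≫ z = q ≫ p := by
    show (ι ≫ pullback.snd p z) ≫ z = (ι ≫ pullback.fst p z) ≫ p
    rw [Category.assoc, Category.assoc, pullback.condition]
  have hsq : s ≫ q = U.ι := by
    show s ≫ ι ≫ pullback.fst p z = _
    rw [reassoc_of% hs, pullback.lift_fst]
  have hsψ : s ≫ ψ = φ := by
    show s ≫ ι ≫ pullback.snd p z = _
    rw [reassoc_of% hs, pullback.lift_snd]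
  have hrs : Set.range s ⊆ Set.range (q ⁻¹ᵁ U).ι := by
    rintro _ ⟨x, rfl⟩
    rw [Scheme.Opens.range_ι]
    show q (s x) ∈ U
    rw [← Scheme.Hom.comp_apply, hsq]
    exact x.2
  let s₁ : (U : Scheme.{u}) ⟶ (q ⁻¹ᵁ U : Y.Opens).toScheme := IsOpenImmersion.lift (q ⁻¹ᵁ U).ι s hrs
  have hs₁ : s₁ ≫ (q ⁻¹ᵁ U).ι = s := IsOpenImmersion.lift_fac _ _ _
  have h1 : s₁ ≫ (q ∣_ U) = 𝟙 _ := by
    rw [← cancel_mono U.ι, Category.assoc, morphismRestrict_ι, reassoc_of% hs₁, hsq, Category.id_comp]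
  have hgenY : s (genericPoint (U : Scheme.{u})) = genericPoint Y :=
    ι.isEmbedding.injective (by rw [hgen, ← Scheme.Hom.comp_apply, hs])
  haveI : IsDominant s₁ := ⟨by
    intro y
    have hy : genericPoint Y ⤳ (q ⁻¹ᵁ U).ι y := genericPoint_specializes _
    rw [← hgenY, ← hs₁, Scheme.Hom.comp_apply, (q ⁻¹ᵁ U).ι.isEmbedding.isInducing.specializes_iff] at hy
    exact closure_mono (Set.singleton_subset_iff.2 (Set.mem_range_self _)) hy.mem_closure⟩
  have hψ : (q ⁻¹ᵁ U).ι ≫ ψ = (q ∣_ U) ≫ φ := by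
    refine ext_of_isDominant_of_isSeparated z ?_ s₁ ?_
    · show ((q ⁻¹ᵁ U).ι ≫ ψ) ≫ z = ((q ∣_ U) ≫ φ) ≫ z
      refine (Category.assoc _ _ _).trans ((congrArg ((q ⁻¹ᵁ U).ι ≫ ·) hq).trans ?_)
      rw [Category.assoc (q ∣_ U) φ z, hφ, ← Category.assoc (q ∣_ U) U.ι p, morphismRestrict_ι]
      exact (Category.assoc _ _ _).symm
    · rw [reassoc_of% hs₁, reassoc_of% h1, hsψ]
  refine ⟨Y, q, ψ, hY, ‹_›, hq, ⟨s₁, ?_, h1⟩, hψ⟩
  rw [← cancel_mono (q ⁻¹ᵁ U).ι, Category.assoc, hs₁, Category.id_comp, ← cancel_mono ι, Category.assoc, hs]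
  apply pullback.hom_ext
  · rw [Category.assoc, pullback.lift_fst, morphismRestrict_ι, Category.assoc]
  · rw [Category.assoc, pullback.lift_snd, Category.assoc]
    exact hψ.symm

/-- After point blow-ups a rational map from a regular surface to a proper scheme is a morphism. -/
theorem exists_resolve (hX : IsRegSurf X) (p : X ⟶ S) (z : Z ⟶ S) [IsProper z] (U : X.Opens)
    (hU : (U : Set X).Nonempty) (φ : (U : Scheme.{u}) ⟶ Z) (hφ : φ ≫ z = U.ι ≫ p) :
    ∃ (X' : Scheme.{u}) (f : X' ⟶ X) (g : X' ⟶ Z),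
      Models.IsContractionSeq f ∧ g ≫ z = f ≫ p ∧ (f ⁻¹ᵁ U).ι ≫ g = (f ∣_ U) ≫ φ := by
  haveI := hX.integral; haveI := hX.noeth
  obtain ⟨Y, q, ψ, hY, hqp, hq, hqU, hψ⟩ := exists_graph_closure p z U hU φ hφ
  haveI := hY; haveI := hqp; haveI := hqU
  obtain ⟨e, he⟩ := birational_data q ⟨U, hU, inferInstance⟩
  haveI := he
  obtain ⟨V, hV, -, hdim⟩ := Groth.Agent.S11555.result q hX.normal e
    (ConcreteCategory.bijective_of_isIso (q.stalkMap (genericPoint Y)))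
  let T : Set X := (V : Set X)ᶜ
  have hT : ∀ x ∈ T, IsClosed ({x} : Set X) ∧ IsRegularLocalRing (X.presheaf.stalk x) ∧
      ringKrullDim (X.presheaf.stalk x) = 2 := fun x hx =>
    ⟨isClosed_of_dim hX (hdim x hx), hX.reg x,
      le_antisymm ((Groth.L13.ModFibre.ringKrullDim_stalk_le_topologicalKrullDim x).trans hX.dim) (hdim x hx)⟩
  have hTc : IsClosed T := V.2.isClosed_compl
  have hTf : T.Finite := (finite_isolated hTc).subset fun x hx =>
    ⟨hx, fun w hw hwx => (hwx.mem_closed (hT w hw).1 rfl).symm⟩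
  have hVT : (⟨Tᶜ, hTc.isOpen_compl⟩ : X.Opens) = V := Opens.ext (compl_compl _)
  obtain ⟨X', f, hf, -, h, hh⟩ := exists_dominate X T hTf hTc hT q (by rw [hVT]; exact hV)
  refine ⟨X', f, h ≫ ψ, hf, by rw [Category.assoc, hq, reassoc_of% hh], ?_⟩
  subst hh
  have h0 : (((h ≫ q) ⁻¹ᵁ U : X'.Opens)).ι ≫ h = (h ∣_ (q ⁻¹ᵁ U)) ≫ (q ⁻¹ᵁ U).ι := (morphismRestrict_ι h (q ⁻¹ᵁ U)).symm
  rw [reassoc_of% h0, hψ, morphismRestrict_comp, Category.assoc]

end Groth.L05.PtSeq
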