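import Groth.Agent.L05.PtSeq.NormBlow
import Groth.Agent.L05.PtSeq.Rational

/-!
# Normalized point blow-ups dominate modifications of normal surfaces
-/

set_option autoImplicit false
set_option linter.style.haveILetI false
set_option backward.isDefEq.respectTransparency false
set_option backward.isDefEq.respectTransparency.types false

universe u

open CategoryTheory CategoryTheory.Limits AlgebraicGeometry TopologicalSpace
open Groth.L22
open Resolve
open Groth.L05.MinDesing (IsBir isBir_comp)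

noncomputable section

namespace Groth.L05.PtSeq

variable {Z X Y : Scheme.{u}}

/-- The reduced closure of the graph, as a closed subscheme of the fibre product. -/
theorem exists_graph_closed [IsIntegral Z] (g : Z ⟶ X) (f : Y ⟶ X) [IsProper f] (U : Z.Opens)
    (hU : (U : Set Z).Nonempty) (φ : (U : Scheme.{u}) ⟶ Y) (hφ : φ ≫ f = U.ι ≫ g) :
    ∃ (W : Scheme.{u}) (ι : W ⟶ pullback g f) (_ : IsIntegral W) (_ : IsClosedImmersion ι),
      IsIso ((ι ≫ pullback.fst g f) ∣_ U) ∧
        ∃ s : (U : Scheme.{u}) ⟶ W, s ≫ ι ≫ pullback.fst g f = U.ι ∧ s ≫ ι ≫ pullback.snd g f = φ := by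
  obtain ⟨u₀, hu₀⟩ := hU
  haveI : Nonempty U := ⟨⟨u₀, hu₀⟩⟩
  haveI : IsIntegral (U : Scheme.{u}) := isIntegral_of_isOpenImmersion U.ι
  let γ : (U : Scheme.{u}) ⟶ pullback g f := pullback.lift U.ι φ hφ.symm
  obtain ⟨W, ι, hW, hι, hr, hgen⟩ := exists_closure_subscheme (γ (genericPoint (U : Scheme.{u})))
  haveI := hW; haveI := hι
  obtain ⟨s, hs⟩ := exists_lift_closed ι γ (by
    rintro _ ⟨x, rfl⟩
    rw [hr]
    exact specializes_iff_mem_closure.1 ((genericPoint_specializes x).map γ.continuous))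
  let q : W ⟶ Z := ι ≫ pullback.fst g f
  let ψ : W ⟶ Y := ι ≫ pullback.snd g f
  have hq : ψ ≫ f = q ≫ g := by
    show (ι ≫ pullback.snd g f) ≫ f = (ι ≫ pullback.fst g f) ≫ g
    rw [Category.assoc, Category.assoc, pullback.condition]
  have hsq : s ≫ q = U.ι := by
    show s ≫ ι ≫ pullback.fst g f = _
    rw [reassoc_of% hs, pullback.lift_fst]
  have hsψ : s ≫ ψ = φ := by
    show s ≫ ι ≫ pullback.snd g f = _
    rw [reassoc_of% hs, pullback.lift_snd]
  have hrs : Set.range s ⊆ Set.range (q ⁻¹ᵁ U).ι := by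
    rintro _ ⟨x, rfl⟩
    rw [Scheme.Opens.range_ι]
    show q (s x) ∈ U
    rw [← Scheme.Hom.comp_apply, hsq]
    exact x.2
  let s₁ : (U : Scheme.{u}) ⟶ (q ⁻¹ᵁ U : W.Opens).toScheme := IsOpenImmersion.lift (q ⁻¹ᵁ U).ι s hrs
  have hs₁ : s₁ ≫ (q ⁻¹ᵁ U).ι = s := IsOpenImmersion.lift_fac _ _ _
  have h1 : s₁ ≫ (q ∣_ U) = 𝟙 _ := by
    rw [← cancel_mono U.ι, Category.assoc, morphismRestrict_ι, reassoc_of% hs₁, hsq, Category.id_comp]
  have hgenY : s (genericPoint (U : Scheme.{u})) = genericPoint W :=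
    ι.isEmbedding.injective (by rw [hgen, ← Scheme.Hom.comp_apply, hs])
  haveI : IsDominant s₁ := ⟨by
    intro y
    have hy : genericPoint W ⤳ (q ⁻¹ᵁ U).ι y := genericPoint_specializes _
    rw [← hgenY, ← hs₁, Scheme.Hom.comp_apply, (q ⁻¹ᵁ U).ι.isEmbedding.isInducing.specializes_iff] at hy
    exact closure_mono (Set.singleton_subset_iff.2 (Set.mem_range_self _)) hy.mem_closure⟩
  have hψ : (q ⁻¹ᵁ U).ι ≫ ψ = (q ∣_ U) ≫ φ := by
    refine ext_of_isDominant_of_isSeparated f ?_ s₁ ?_
    · refine (Category.assoc _ _ _).trans ((congrArg ((q ⁻¹ᵁ U).ι ≫ ·) hq).trans ?_)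
      rw [Category.assoc (q ∣_ U) φ f, hφ, ← Category.assoc (q ∣_ U) U.ι g, morphismRestrict_ι]
      exact (Category.assoc _ _ _).symm
    · rw [reassoc_of% hs₁, reassoc_of% h1, hsψ]
  refine ⟨W, ι, hW, hι, ⟨s₁, ?_, h1⟩, s, hsq, hsψ⟩
  rw [← cancel_mono (q ⁻¹ᵁ U).ι, Category.assoc, hs₁, Category.id_comp, ← cancel_mono ι, Category.assoc, hs]
  apply pullback.hom_ext
  · rw [Category.assoc, pullback.lift_fst, morphismRestrict_ι, Category.assoc]
  · rw [Category.assoc, pullback.lift_snd, Category.assoc]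
    exact hψ.symm

/-- A point of the fibre product over a closed point of each factor is closed. -/
theorem isClosed_of_both_closed (g : Z ⟶ X) [IsProper g] (f : Y ⟶ X) {m : ↥(pullback g f)}
    (h₁ : IsClosed ({pullback.fst g f m} : Set Z)) (hx : IsClosed ({g (pullback.fst g f m)} : Set X))
    (h₂ : IsClosed ({pullback.snd g f m} : Set Y)) : IsClosed ({m} : Set ↥(pullback g f)) := by
  let z := pullback.fst g f m
  let a := Z.fromSpecResidueField z
  haveI : IsFinite (a ≫ g) := isFinite_fromSpecResidueField g h₁ hx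
  let k : pullback (a ≫ g) f ⟶ pullback g f :=
    pullback.map (a ≫ g) f g f a (𝟙 Y) (𝟙 X) (Category.comp_id _) (by rw [Category.id_comp, Category.comp_id])
  haveI : IsFinite (pullback.snd (a ≫ g) f) := MorphismProperty.pullback_snd (P := @IsFinite) _ _ inferInstance
  have hks : k ≫ pullback.snd g f = pullback.snd (a ≫ g) f := by
    simp [k, pullback.lift_snd]
  haveI : IsSeparated (pullback.snd g f) := MorphismProperty.pullback_snd (P := @IsSeparated) _ _ inferInstance
  haveI : IsFinite (k ≫ pullback.snd g f) := by rw [hks]; infer_instance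
  haveI : IsFinite k := IsFinite.of_comp k (pullback.snd g f)
  obtain ⟨t, hkt⟩ : m ∈ Set.range k := by
    rw [Scheme.Pullback.range_map, Scheme.range_fromSpecResidueField]
    exact ⟨rfl, ⟨_, rfl⟩⟩
  have ht : IsClosed ({t} : Set ↥(pullback (a ≫ g) f)) := by
    have hy : IsClosed ({pullback.snd (a ≫ g) f t} : Set Y) := by
      rw [← hks, Scheme.Hom.comp_apply, hkt]; exact h₂
    have hd := (pullback.snd (a ≫ g) f).isDiscrete_preimage_singleton (pullback.snd (a ≫ g) f t)
    haveI := hd.to_subtype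
    have hT := hy.preimage (pullback.snd (a ≫ g) f).continuous
    have h := hT.isClosedEmbedding_subtypeVal.isClosedMap {⟨t, rfl⟩} (isClosed_discrete _)
    rwa [Set.image_singleton] at h
  rw [← hkt, ← Set.image_singleton]
  exact k.isClosedMap _ ht

theorem genericPoint_fromSpecStalk [IsIntegral Y] (η : Y)
    [IsIntegral (Spec (Y.presheaf.stalk η))] :
    Y.fromSpecStalk η (genericPoint (Spec (Y.presheaf.stalk η))) = genericPoint Y := by
  obtain ⟨w, hw⟩ : genericPoint Y ∈ Set.range (Y.fromSpecStalk η) := by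
    rw [Scheme.range_fromSpecStalk]; exact genericPoint_specializes η
  have h := (genericPoint_specializes w).map (Y.fromSpecStalk η).continuous
  rw [hw] at h
  exact (h.antisymm (genericPoint_specializes _)).eq

variable [IsIntegral X] [AlgebraicGeometry.IsNoetherian X]

/-- Sequences of normalized point blow-ups of a normal surface dominate all modifications. -/
theorem exists_dominate_norm (hXn : Pi1.IsNormalScheme X) (hd : topologicalKrullDim X ≤ 2)
    (hXgen : ¬ IsClosed ({genericPoint X} : Set X)) (hX : FinNorm X) [IsIntegral Y]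
    [AlgebraicGeometry.IsNoetherian Y] (hY : Pi1.IsNormalScheme Y) (f : Y ⟶ X) [IsProper f] (hf : IsBir f) :
    ∃ (Z : Scheme.{u}) (g : Z ⟶ X), NModif g ∧ ∃ h : Z ⟶ Y, h ≫ f = g := by
  classical
  obtain ⟨V, hV, hiso⟩ := id hf
  haveI := hiso
  obtain ⟨ef, -⟩ := birational_data f ⟨V, hV, inferInstance⟩
  have hVξ : genericPoint X ∈ V := Groth.L05.MinDesing.genericPoint_mem hV
  have hdY : topologicalKrullDim Y ≤ 2 := dim_le_of_stalks fun y =>
    (Groth.L13.ModFibre.ringKrullDim_stalk_le f V ⟨genericPoint Y, by rw [ef]; exact hVξ⟩ y).trans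
      ((Groth.L15.CohFlat.ringKrullDim_stalk_le (f y)).trans hd)
  have hB := finite_contrCurves hdY f hf hXgen
  -- centres of all contracted curves become curves
  have key : ∀ S : Finset Y, (↑S : Set Y) ⊆ contrCurves f → ∃ (Z : Scheme.{u}) (g : Z ⟶ X), NModif g ∧
      ∀ η ∈ S, ∀ σ : Spec (Y.presheaf.stalk η) ⟶ Z, σ ≫ g = Y.fromSpecStalk η ≫ f →
        ¬ IsClosed ({σ (IsLocalRing.closedPoint (Y.presheaf.stalk η))} : Set Z) := by
    intro S
    induction S using Finset.induction_on with
    | empty =>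
      intro _
      refine ⟨X, 𝟙 X, ⟨IsNormPtBlowupSeq.iso (Iso.refl X), inferInstance, inferInstance, inferInstance,
        ⟨⊤, ⟨genericPoint X, trivial⟩, inferInstance⟩, hXn, fun {_} => hXgen⟩, by simp⟩
    | insert η S hηS ih =>
      intro hS
      rw [Finset.coe_insert, Set.insert_subset_iff] at hS
      obtain ⟨Z, g, hg, hgS⟩ := ih hS.2
      haveI := hg.integral; haveI := hg.noeth; haveI := hg.proper
      haveI := valuation_stalk hdY hY hS.1.1
      let O := Y.presheaf.stalk η
      haveI : IsIntegral (Spec O) := inferInstance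
      let σ₀ := Y.fromSpecStalk η ≫ f
      have hgen₀ : σ₀ (genericPoint (Spec O)) = genericPoint X := by
        show f (Y.fromSpecStalk η (genericPoint (Spec O))) = _
        rw [genericPoint_fromSpecStalk, ef]
      have hp : Y.fromSpecStalk η (IsLocalRing.closedPoint O) = η := Scheme.fromSpecStalk_closedPoint
      have hcl₀ : IsClosed ({σ₀ (IsLocalRing.closedPoint O)} : Set X) := by
        show IsClosed ({f (Y.fromSpecStalk η (IsLocalRing.closedPoint O))} : Set X)
        rw [hp]; exact hS.1.2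
      obtain ⟨c, hc, hab⟩ : ∃ c : O, Transc (O := O) σ₀ c ∧ ∃ a b : X.presheaf.stalk (σ₀ (IsLocalRing.closedPoint O)),
          toO (O := O) σ₀ b ≠ 0 ∧ toO (O := O) σ₀ b * c = toO (O := O) σ₀ a := by
        obtain ⟨cp, W, hW, hP⟩ : ∃ c : Y.presheaf.stalk (Y.fromSpecStalk η (IsLocalRing.closedPoint O)),
            ∃ (W : X.affineOpens) (hW : f (Y.fromSpecStalk η (IsLocalRing.closedPoint O)) ∈ W.1),
              ∀ P : Polynomial Γ(X, W.1), P.Monic →
                IsUnit (P.eval₂ ((f.stalkMap _).hom.comp (X.presheaf.germ W.1 _ hW).hom) c) := by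
          have key : ∀ p : Y, η = p → ∃ c : Y.presheaf.stalk p, ∃ (W : X.affineOpens) (hW : f p ∈ W.1),
              ∀ P : Polynomial Γ(X, W.1), P.Monic →
                IsUnit (P.eval₂ ((f.stalkMap p).hom.comp (X.presheaf.germ W.1 _ hW).hom) c) := by
            rintro _ rfl
            exact exists_transc f hS.1.1 hS.1.2
          exact key _ hp.symm
        let ψ := toO (O := O) (Y.fromSpecStalk η)
        have hψ : Function.Injective ψ := by
          haveI : IsIso (Scheme.stalkClosedPointTo (Y.fromSpecStalk η)) := by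
            rw [Scheme.stalkClosedPointTo_fromSpecStalk]; infer_instance
          exact (ConcreteCategory.bijective_of_isIso (Scheme.stalkClosedPointTo (Y.fromSpecStalk η))).1
        have hcomp : ∀ a, toO (O := O) σ₀ a = ψ (f.stalkMap _ a) := fun a => toO_comp (O := O) (Y.fromSpecStalk η) f a
        obtain ⟨a, b, hb, hba⟩ := exists_frac f hf _ cp
        refine ⟨ψ cp, ⟨W, hW, fun P hPm => ?_⟩, a, b, ?_, ?_⟩
        · have h := (hP P hPm).map ψ
          rw [Polynomial.hom_eval₂] at h
          have e : (toO (O := O) σ₀).comp (X.presheaf.germ W.1 (σ₀ (IsLocalRing.closedPoint O)) hW).hom =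
            ψ.comp ((f.stalkMap _).hom.comp (X.presheaf.germ W.1 _ hW).hom) := RingHom.ext fun r => hcomp _
          exact (congrArg (fun φ => IsUnit (Polynomial.eval₂ φ (ψ cp) P)) e).mpr h
        · exact fun h => hb (hψ (((hcomp b).symm.trans h).trans (map_zero ψ).symm))
        · exact (congrArg (· * ψ cp) (hcomp b)).trans
            ((map_mul ψ _ _).symm.trans ((congrArg ψ hba).trans (hcomp a).symm))
      obtain ⟨σ, hσ, hσgen⟩ := exists_val_lift (O := O) g hg.bir σ₀ hgen₀
      rw [← hσ] at hc hcl₀ hab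
      obtain ⟨a, b, hb, hba⟩ := hab
      rw [toO_comp] at hb hba
      rw [toO_comp] at hba
      obtain ⟨Z', π, hπp, hπb, hZ', σ', hσ', hnc⟩ :=
        exists_nonClosed_centre (O := O) hX c _ hg σ hσgen hcl₀ hc _ _ hb hba rfl
      haveI := hπp
      refine ⟨Z', π ≫ g, hZ', fun η' hη' τ hτ => ?_⟩
      rcases Finset.mem_insert.1 hη' with rfl | hη'
      · haveI := hZ'.proper
        haveI := hZ'.integral
        obtain ⟨Vg, hVg, hisog⟩ := id hZ'.bir
        haveI := hisog
        have he : σ' ≫ π ≫ g = τ ≫ π ≫ g := by rw [← Category.assoc σ' π g, hσ', hσ, hτ]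
        rw [← val_lift_unique (O := O) (π ≫ g) hZ'.bir σ' τ he (by
          rw [← Scheme.Hom.comp_apply, ← Category.assoc, hσ', hσ]; exact hgen₀)]
        exact hnc
      · intro hcl
        refine hgS η' hη' (τ ≫ π) (by rw [Category.assoc, hτ]) ?_
        have h := π.isClosedMap _ hcl
        rwa [Set.image_singleton] at h
  obtain ⟨Z, g, hg, hcent⟩ := key hB.toFinset (fun η hη => hB.mem_toFinset.1 hη)
  haveI := hg.integral; haveI := hg.noeth; haveI := hg.proper
  obtain ⟨Vg, hVg, hisog⟩ := id hg.bir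
  haveI := hisog
  obtain ⟨eg, -⟩ := birational_data g ⟨Vg, hVg, inferInstance⟩
  have hdZ : topologicalKrullDim Z ≤ 2 := dim_le_of_stalks fun y =>
    (Groth.L13.ModFibre.ringKrullDim_stalk_le g Vg ⟨genericPoint Z, by
      rw [eg]; exact Groth.L05.MinDesing.genericPoint_mem hVg⟩ y).trans
      ((Groth.L15.CohFlat.ringKrullDim_stalk_le (g y)).trans hd)
  -- the graph
  have hUne : ((g ⁻¹ᵁ V : Z.Opens) : Set Z).Nonempty := ⟨genericPoint Z, by
    show g (genericPoint Z) ∈ V
    rw [eg]; exact hVξ⟩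
  obtain ⟨W, ι, hWi, hι, hisoW, -⟩ := exists_graph_closed g f (g ⁻¹ᵁ V) hUne
    ((g ∣_ V) ≫ inv (f ∣_ V) ≫ (f ⁻¹ᵁ V).ι) (by
      rw [Category.assoc, Category.assoc, ← morphismRestrict_ι, IsIso.inv_hom_id_assoc, morphismRestrict_ι])
  haveI := hWi; haveI := hι
  let q := ι ≫ pullback.fst g f
  let ψ := ι ≫ pullback.snd g f
  haveI : IsProper (pullback.fst g f) := MorphismProperty.pullback_fst (P := @IsProper) _ _ inferInstance
  haveI : IsProper (pullback.snd g f) := MorphismProperty.pullback_snd (P := @IsProper) _ _ inferInstance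
  haveI : IsProper q := inferInstance
  haveI : IsProper ψ := inferInstance
  haveI : IsLocallyNoetherian W := LocallyOfFiniteType.isLocallyNoetherian q
  haveI : CompactSpace W := QuasiCompact.compactSpace_of_compactSpace q
  have hW' : AlgebraicGeometry.IsNoetherian W := ⟨⟩
  have hcomm : ψ ≫ f = q ≫ g := by
    show (ι ≫ pullback.snd g f) ≫ f = (ι ≫ pullback.fst g f) ≫ g
    rw [Category.assoc, Category.assoc, pullback.condition]
  have hqbir : IsBir q := ⟨g ⁻¹ᵁ V, hUne, hisoW⟩
  have hψbir : IsBir ψ := by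
    haveI : IsProper f := inferInstance
    obtain ⟨Vc, hVc, hVciso⟩ := isBir_comp q g hqbir hg.bir
    haveI := hVciso
    refine ⟨f ⁻¹ᵁ (Vc ⊓ V), ⟨genericPoint Y, ?_⟩, ?_⟩
    · show f (genericPoint Y) ∈ Vc ⊓ V
      rw [ef]; exact ⟨Groth.L05.MinDesing.genericPoint_mem hVc, hVξ⟩
    · haveI : IsIso ((ψ ≫ f) ∣_ (Vc ⊓ V)) := by
        rw [hcomm]; exact Groth.L05.MinDesing.isIso_restrict_le (q ≫ g) inf_le_left
      haveI : IsIso (f ∣_ (Vc ⊓ V)) := Groth.L05.MinDesing.isIso_restrict_le f inf_le_right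
      haveI : IsIso ((ψ ∣_ f ⁻¹ᵁ (Vc ⊓ V)) ≫ f ∣_ (Vc ⊓ V)) := by
        rw [← morphismRestrict_comp]; infer_instance
      exact IsIso.of_isIso_comp_right _ (f ∣_ (Vc ⊓ V))
  obtain ⟨eψ, hψiso⟩ := birational_data ψ hψbir
  haveI := hψiso
  obtain ⟨Vψ, hVψiso, -, hVψ⟩ := Groth.Agent.S11555.result ψ hY eψ
    (ConcreteCategory.bijective_of_isIso (ψ.stalkMap (genericPoint W)))
  haveI := hVψiso
  obtain ⟨eq, hqiso⟩ := birational_data q hqbir
  haveI := hqiso
  obtain ⟨Vq, hVqiso, -, hVq⟩ := Groth.Agent.S11555.result q hg.normal eq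
    (ConcreteCategory.bijective_of_isIso (q.stalkMap (genericPoint W)))
  haveI := hVqiso
  have hfib : ∀ z : Z, (q ⁻¹' {z}).Finite := by
    intro z
    by_cases hzV : z ∈ Vq
    · refine Set.Subsingleton.finite fun a ha b hb => ?_
      exact Groth.L05.RelMinExists.eq_of_isIso_restrict' q Vq (by rw [show q a = z from ha]; exact hzV) (ha.trans hb.symm)
    have hzc : IsClosed ({z} : Set Z) := closure_subset_iff_isClosed.1 fun d hd' =>
      Groth.L05.RelMinExists.eq_of_dim_two_le hdZ (hVq z hzV) (specializes_iff_mem_closure.2 hd')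
    refine (finite_isolated (hzc.preimage q.continuous)).subset fun w hw => ⟨hw, fun v hv hvw => ?_⟩
    by_contra hne
    have hvc : ¬ IsClosed ({v} : Set W) := fun h => hne (hvw.mem_closed h rfl).symm
    let η := ψ v
    have hqv : q v = z := hv
    have hfη : f η = g z := by
      show f (ψ v) = _
      rw [← Scheme.Hom.comp_apply, hcomm, Scheme.Hom.comp_apply, hqv]
    have hxc : IsClosed ({g z} : Set X) := by
      rw [← Set.image_singleton]; exact g.isClosedMap _ hzc
    have hηc : ¬ IsClosed ({η} : Set Y) := fun h => by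
      refine hvc ?_
      have h' := isClosed_of_both_closed g f (m := ι v) (by
          show IsClosed ({q v} : Set Z)
          rw [hqv]; exact hzc) (by
          show IsClosed ({g (q v)} : Set X)
          rw [hqv]; exact hxc) h
      have h'' := h'.preimage ι.continuous
      rwa [show ι ⁻¹' {ι v} = {v} from Set.ext fun a =>
        ⟨fun e => ι.isClosedEmbedding.injective e, fun e => congrArg ι e⟩] at h''
    have hηB : η ∈ contrCurves f := ⟨hηc, by rw [hfη]; exact hxc⟩
    haveI := valuation_stalk hdY hY hηc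
    let O := Y.presheaf.stalk η
    obtain ⟨τ, hτ, -⟩ := exists_val_lift (O := O) ψ hψbir (Y.fromSpecStalk η) (genericPoint_fromSpecStalk η)
    have hηV : η ∈ Vψ := by
      by_contra hn
      exact hηc (closure_subset_iff_isClosed.1 fun d hd' =>
        Groth.L05.RelMinExists.eq_of_dim_two_le hdY (hVψ η hn) (specializes_iff_mem_closure.2 hd'))
    have hτv : τ (IsLocalRing.closedPoint O) = v := by
      refine Groth.L05.RelMinExists.eq_of_isIso_restrict' ψ Vψ ?_ ?_
      · have hp' : Y.fromSpecStalk η (IsLocalRing.closedPoint O) = η := Scheme.fromSpecStalk_closedPoint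
        rw [← Scheme.Hom.comp_apply, hτ]; exact (congrArg (fun x => x ∈ Vψ) hp').mpr hηV
      · have hp' : Y.fromSpecStalk η (IsLocalRing.closedPoint O) = η := Scheme.fromSpecStalk_closedPoint
        rw [← Scheme.Hom.comp_apply, hτ]; exact hp'
    refine hcent η (hB.mem_toFinset.2 hηB) (τ ≫ q) (by rw [Category.assoc, ← hcomm, reassoc_of% hτ]) ?_
    rw [Scheme.Hom.comp_apply]
    exact (congrArg (fun x => IsClosed ({q x} : Set Z)) hτv).mpr ((congrArg (fun x => IsClosed ({x} : Set Z)) hqv).mpr hzc)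
  haveI : LocallyQuasiFinite q := LocallyQuasiFinite.of_finite_preimage_singleton _ hfib
  haveI : IsFinite q := IsFinite.of_isProper_of_locallyQuasiFinite _
  haveI : IsIso q := Groth.L21.isIso_of_isFinite_of_normal q hg.normal eq hqiso
  exact ⟨Z, g, hg, inv q ≫ ψ, by rw [Category.assoc, hcomm, IsIso.inv_hom_id_assoc]⟩

end Groth.L05.PtSeq
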