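import Groth.Agent.L05.PtSeq.Trans
import Groth.Agent.L18.KerReduced

/-!
# Points of a modification not dominated by a point blow-up: the local data
-/

set_option autoImplicit false
set_option linter.style.haveILetI false
set_option backward.isDefEq.respectTransparency false

universe u

open CategoryTheory CategoryTheory.Limits AlgebraicGeometry TopologicalSpace IsLocalRing

noncomputable section

namespace Groth.L05.PtSeq

variable {X Y : Scheme.{u}}

/-- Two morphisms agreeing after `f` with image over an open where `f` is an isomorphism are equal. -/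
theorem eq_of_mono_over {Z : Scheme.{u}} (f : Y ⟶ X) (U : X.Opens) [IsIso (f ∣_ U)] {a b : Z ⟶ Y}
    (h : a ≫ f = b ≫ f) (hU : ∀ z, f (a z) ∈ U) : a = b := by
  have hb : ∀ z, f (b z) ∈ U := fun z => by
    rw [← Scheme.Hom.comp_apply, ← h, Scheme.Hom.comp_apply]; exact hU z
  have ha' : Set.range a ⊆ Set.range (f ⁻¹ᵁ U).ι := by
    rintro _ ⟨z, rfl⟩; rw [Scheme.Opens.range_ι]; exact hU z
  have hb' : Set.range b ⊆ Set.range (f ⁻¹ᵁ U).ι := by
    rintro _ ⟨z, rfl⟩; rw [Scheme.Opens.range_ι]; exact hb z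
  rw [← IsOpenImmersion.lift_fac _ a ha', ← IsOpenImmersion.lift_fac _ b hb']
  congr 1
  rw [← cancel_mono (f ∣_ U), ← cancel_mono U.ι]
  simp only [Category.assoc, morphismRestrict_ι, IsOpenImmersion.lift_fac_assoc, h]

/-- A morphism from a reduced scheme with image in a closed subscheme factors through it. -/
theorem exists_lift_closed {T Z : Scheme.{u}} [AlgebraicGeometry.IsReduced T] (ι : Z ⟶ X) [IsClosedImmersion ι]
    (m : T ⟶ X) (h : Set.range m ⊆ Set.range ι) : ∃ l : T ⟶ Z, l ≫ ι = m := by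
  haveI : Surjective (pullback.snd ι m) := ⟨fun t => by
    obtain ⟨z, hz⟩ := h ⟨t, rfl⟩
    obtain ⟨w, -, hw⟩ := Scheme.Pullback.exists_preimage_pullback (f := ι) (g := m) z t hz
    exact ⟨w, hw⟩⟩
  haveI : IsIso (pullback.snd ι m) := isIso_of_isClosedImmersion_of_surjective _
  exact ⟨inv (pullback.snd ι m) ≫ pullback.fst ι m, by
    rw [Category.assoc, pullback.condition, IsIso.inv_hom_id_assoc]⟩

/-- The reduced closure of a point. -/
theorem exists_closure_subscheme (p : X) :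
    ∃ (Z : Scheme.{u}) (ι : Z ⟶ X) (_ : IsIntegral Z), IsClosedImmersion ι ∧
      Set.range ι = closure {p} ∧ ι (genericPoint Z) = p := by
  let C : Closeds X := ⟨closure {p}, isClosed_closure⟩
  let I := Scheme.IdealSheafData.vanishingIdeal C
  haveI : AlgebraicGeometry.IsReduced I.subscheme := Groth.L18.isReduced_vanishingIdeal_subscheme C
  have hr : Set.range I.subschemeι = closure {p} := by
    rw [I.range_subschemeι, Scheme.IdealSheafData.coe_support_vanishingIdeal]; rfl
  obtain ⟨t₀, ht₀⟩ : p ∈ Set.range I.subschemeι := hr ▸ subset_closure (Set.mem_singleton p)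
  have hgen : IsGenericPoint t₀ (Set.univ : Set I.subscheme) := by
    rw [IsGenericPoint, Set.eq_univ_iff_forall]
    intro t
    rw [← specializes_iff_mem_closure, ← I.subschemeι.isEmbedding.isInducing.specializes_iff, ht₀,
      specializes_iff_mem_closure, ← hr]
    exact ⟨t, rfl⟩
  haveI : IrreducibleSpace I.subscheme :=
    irreducibleSpace_def _ |>.2 hgen.isIrreducible
  haveI := AlgebraicGeometry.isIntegral_of_irreducibleSpace_of_isReduced I.subscheme
  refine ⟨I.subscheme, I.subschemeι, ‹_›, inferInstance, hr, ?_⟩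
  rw [((genericPoint_spec I.subscheme).eq hgen), ht₀]

/-- Every ideal of a local ring at a closed point containing a power of the maximal ideal is the stalk of
an ideal sheaf supported at that point. -/
theorem exists_ideal_of_stalk [AlgebraicGeometry.IsNoetherian X] {t : X} (ht : IsClosed ({t} : Set X))
    (Q : Ideal (X.presheaf.stalk t)) {n : ℕ} (hn : maximalIdeal (X.presheaf.stalk t) ^ n ≤ Q) :
    ∃ J : X.IdealSheafData, (J.support : Set X) ⊆ {t} ∧ stI J t = Q := by
  let φ : X.presheaf.stalk t ⟶ CommRingCat.of (X.presheaf.stalk t ⧸ Q) :=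
    CommRingCat.ofHom (Ideal.Quotient.mk Q)
  let j : Spec (CommRingCat.of (X.presheaf.stalk t ⧸ Q)) ⟶ X := Spec.map φ ≫ X.fromSpecStalk t
  have hj : ∀ x, j x = t := fun x => by
    have h1 : Spec.map φ x = closedPoint (X.presheaf.stalk t) := by
      apply PrimeSpectrum.ext
      have hp : (Spec.map φ x).asIdeal.IsPrime := (Spec.map φ x).isPrime
      refine ((maximalIdeal.isMaximal _).eq_of_le hp.ne_top (hp.le_of_pow_le (hn.trans fun a ha => ?_))).symm
      show φ a ∈ x.asIdeal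
      rw [show φ a = 0 from Ideal.Quotient.eq_zero_iff_mem.2 ha]
      exact zero_mem _
    rw [show j x = X.fromSpecStalk t (Spec.map φ x) from rfl, h1]
    exact Scheme.fromSpecStalk_closedPoint
  refine ⟨j.ker, ?_, ?_⟩
  · rw [Scheme.Hom.support_ker]
    exact (closure_mono (by rintro _ ⟨x, rfl⟩; exact hj x)).trans ht.closure_subset
  obtain ⟨V, htV⟩ := exists_affine t
  have hpre : j ⁻¹ᵁ V.1 = ⊤ := top_le_iff.1 fun x _ => show j x ∈ V.1 from (hj x).symm ▸ htV
  have key : j.appLE V.1 ⊤ hpre.ge = X.presheaf.germ V.1 t htV ≫ φ ≫ (Scheme.ΓSpecIso _).inv := by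
    rw [Scheme.Hom.comp_appLE, Scheme.fromSpecStalk_app htV]
    simp only [Category.assoc, Scheme.Hom.map_appLE]
    rw [Scheme.ΓSpecIso_inv_naturality]
    simp only [Scheme.Hom.appTop, Scheme.Hom.app_eq_appLE]
    rfl
  rw [stI_eq _ V htV, Groth.L22.Div.stalkIdeal, Scheme.Hom.ker_apply]
  letI : Algebra Γ(X, V.1) (X.presheaf.stalk t) := (X.presheaf.germ V.1 t htV).hom.toAlgebra
  haveI : IsLocalization.AtPrime (X.presheaf.stalk t) (V.2.primeIdealOf ⟨t, htV⟩).asIdeal :=
    V.2.isLocalization_stalk ⟨t, htV⟩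
  refine Eq.trans (congrArg _ ?_) (IsLocalization.map_under (V.2.primeIdealOf ⟨t, htV⟩).asIdeal.primeCompl (X.presheaf.stalk t) Q)
  ext a
  rw [RingHom.mem_ker]
  show j.app V.1 a = 0 ↔ X.presheaf.germ V.1 t htV a ∈ Q
  let r := (Spec (CommRingCat.of (X.presheaf.stalk t ⧸ Q))).presheaf.map (homOfLE hpre.ge).op
  haveI : IsIso r := by
    show IsIso ((Spec _).presheaf.map (homOfLE hpre.ge).op)
    rw [show homOfLE hpre.ge = eqToHom hpre.symm from Subsingleton.elim _ _]; infer_instance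
  rw [← map_eq_zero_iff r.hom (ConcreteCategory.bijective_of_isIso r).1]
  change j.appLE V.1 ⊤ hpre.ge a = 0 ↔ _
  rw [key]
  show (Scheme.ΓSpecIso _).inv (φ (X.presheaf.germ V.1 t htV a)) = 0 ↔ _
  rw [map_eq_zero_iff _ (ConcreteCategory.bijective_of_isIso (Scheme.ΓSpecIso _).inv).1]
  exact Ideal.Quotient.eq_zero_iff_mem

/-- The data attached to a non-closed point `η₀` over a regular surface point `t`: a coprime fraction `a/b`
equal to a function whose residue at `η₀` is not integral over the base. -/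
theorem exists_point_data [IsIntegral X] [IsIntegral Y] [IsLocallyNoetherian X] (f : Y ⟶ X)
    (e : f (genericPoint Y) = genericPoint X) (hbij : Function.Bijective (Groth.L21.Curve.ffMap f e)) {t : X}
    (ht : IsClosed ({t} : Set X)) (hr : IsRegularLocalRing (X.presheaf.stalk t))
    (hd : ringKrullDim (X.presheaf.stalk t) = 2) {η₀ : Y} (h₀ : f η₀ = t) (hncl : ¬ IsClosed ({η₀} : Set Y)) :
    ∃ (V : X.affineOpens) (htV : t ∈ V.1) (a b : Γ(X, V.1)) (W : Y.Opens) (hW : η₀ ∈ W) (c : Γ(Y, W)),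
      (∃ n, maximalIdeal (X.presheaf.stalk t) ^ n ≤
        Ideal.span {X.presheaf.germ V.1 t htV a, X.presheaf.germ V.1 t htV b}) ∧
      X.presheaf.germ V.1 t htV b ≠ 0 ∧
      (∀ hV : η₀ ∈ f ⁻¹ᵁ V.1, Y.presheaf.germ W η₀ hW c * Y.presheaf.germ (f ⁻¹ᵁ V.1) η₀ hV (f.app V.1 b) =
        Y.presheaf.germ (f ⁻¹ᵁ V.1) η₀ hV (f.app V.1 a)) ∧
      ∀ (hV : η₀ ∈ f ⁻¹ᵁ V.1) (P : Polynomial Γ(X, V.1)), P.Monic →
        P.eval₂ ((Y.evaluation (f ⁻¹ᵁ V.1) η₀ hV).hom.comp (f.app V.1).hom) (Y.evaluation W η₀ hW c) ≠ 0 := by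
  obtain ⟨d, hd₀, hne⟩ : ∃ d, η₀ ⤳ d ∧ d ≠ η₀ := by
    by_contra h
    push Not at h
    exact hncl (closure_subset_iff_isClosed.1 fun d hd => h d (specializes_iff_mem_closure.2 hd))
  have hdt : f d = t := ((hd₀.map f.continuous).mem_closed ht h₀ :)
  obtain ⟨_, ⟨W, hW, rfl⟩, hdW, -⟩ :=
    Y.isBasis_affineOpens.exists_subset_of_mem_open (Set.mem_univ d) isOpen_univ
  change Y.Opens at W
  replace hW : IsAffineOpen W := hW
  have h₀W : η₀ ∈ W := hd₀.mem_open W.2 hdW
  let O : Y.Opens := ⟨(closure {d})ᶜ, isClosed_closure.isOpen_compl⟩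
  have h₀O : η₀ ∈ O := fun h => hne ((hd₀.antisymm (specializes_iff_mem_closure.2 h)).eq).symm
  obtain ⟨c, hcle, hcη⟩ := hW.exists_basicOpen_le (V := O) ⟨η₀, h₀O⟩ h₀W
  have hcd : d ∉ Y.basicOpen c := fun h => hcle h (subset_closure rfl)
  haveI := hr
  haveI := Groth.L01.isDomain_of_regular (X.presheaf.stalk t)
  haveI := Groth.L10.RegUFD.isUFD (X.presheaf.stalk t)
  haveI : IsNoetherianRing (X.presheaf.stalk t) := inferInstance
  have hξW : genericPoint Y ∈ W := (genericPoint_specializes d).mem_open W.2 hdW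
  obtain ⟨x, hx⟩ := hbij.2 (Y.presheaf.germ W _ hξW c)
  obtain ⟨a₀, ⟨b₀, hb₀⟩, hab, hmk⟩ := IsFractionRing.exists_reduced_fraction (A := X.presheaf.stalk t) x
  have hb0 : b₀ ≠ 0 := nonZeroDivisors.ne_zero hb₀
  obtain ⟨n, hn⟩ := exists_pow_le_span_pair hd.le hab hb0
  obtain ⟨V₁, ht₁, a₁, ha₁⟩ := X.presheaf.exists_germ_eq a₀
  obtain ⟨V₂, ht₂, b₁, hb₁⟩ := X.presheaf.exists_germ_eq b₀
  obtain ⟨_, ⟨V, hV, rfl⟩, htV, hVle⟩ := X.isBasis_affineOpens.exists_subset_of_mem_open
    (show t ∈ V₁ ⊓ V₂ from ⟨ht₁, ht₂⟩) (V₁ ⊓ V₂).2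
  change X.Opens at V
  replace hV : IsAffineOpen V := hV
  let a := X.presheaf.map (homOfLE (show V ≤ V₁ from fun z hz => (hVle hz).1)).op a₁
  let b := X.presheaf.map (homOfLE (show V ≤ V₂ from fun z hz => (hVle hz).2)).op b₁
  have ha : X.presheaf.germ V t htV a = a₀ := (TopCat.Presheaf.germ_res_apply X.presheaf _ _ _ _).trans ha₁
  have hb : X.presheaf.germ V t htV b = b₀ := (TopCat.Presheaf.germ_res_apply X.presheaf _ _ _ _).trans hb₁
  refine ⟨⟨V, hV⟩, htV, a, b, W, h₀W, c, ⟨n, by rw [ha, hb]; exact hn⟩, by rw [hb]; exact hb0, fun hηV => ?_,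
    fun hηV P hP => ?_⟩
  · have hξV : genericPoint Y ∈ f ⁻¹ᵁ V := (genericPoint_specializes η₀).mem_open (f ⁻¹ᵁ V).2 hηV
    have h1 : genericPoint X ∈ V := e ▸ hξV
    apply IsFractionRing.injective (Y.presheaf.stalk η₀) Y.functionField
    have hg : ∀ {N : Y.Opens} (hN : η₀ ∈ N) (hN' : genericPoint Y ∈ N) (s : Γ(Y, N)),
        algebraMap (Y.presheaf.stalk η₀) Y.functionField (Y.presheaf.germ N η₀ hN s) =
          Y.presheaf.germ N (genericPoint Y) hN' s := fun {N} hN hN' s =>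
      TopCat.Presheaf.germ_stalkSpecializes_apply Y.presheaf hN ((genericPoint_spec Y).specializes trivial) s
    have hgX : ∀ (s : Γ(X, V)), algebraMap (X.presheaf.stalk t) X.functionField (X.presheaf.germ V t htV s) =
          X.presheaf.germ V (genericPoint X) h1 s := fun s =>
      TopCat.Presheaf.germ_stalkSpecializes_apply X.presheaf htV ((genericPoint_spec X).specializes trivial) s
    rw [map_mul, hg h₀W hξW, hg hηV hξV, hg hηV hξV, Groth.L16.BirNormal.germ_app f e h1 hξV,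
      Groth.L16.BirNormal.germ_app f e h1 hξV, ← hx, ← map_mul, ← hgX, ← hgX, ha, hb]
    refine congrArg _ ?_
    rw [← hmk]
    exact IsLocalization.mk'_spec _ _ _
  · let W' := W ⊓ f ⁻¹ᵁ V
    have hdW' : d ∈ W' := ⟨hdW, show f d ∈ V from hdt.symm ▸ htV⟩
    have h₀W' : η₀ ∈ W' := ⟨h₀W, hηV⟩
    let ψ : Γ(X, V) →+* Γ(Y, W') := (f.appLE V W' inf_le_right).hom
    let ev₀ := (Y.evaluation W' η₀ h₀W').hom
    let ev₁ := (Y.evaluation W' d hdW').hom
    let c' := Y.presheaf.map (homOfLE (inf_le_left : W' ≤ W)).op c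
    have hres : ∀ {N : Y.Opens} (le : W' ≤ N) (s : Γ(Y, N)),
        ev₀ (Y.presheaf.map (homOfLE le).op s) = Y.evaluation N η₀ (le h₀W') s := fun {N} le s => by
      show Y.residue η₀ (Y.presheaf.germ W' η₀ h₀W' _) = Y.residue η₀ (Y.presheaf.germ N η₀ _ s)
      rw [TopCat.Presheaf.germ_res_apply]
    have hcomp : ev₀.comp ψ = (Y.evaluation (f ⁻¹ᵁ V) η₀ hηV).hom.comp (f.app V).hom :=
      RingHom.ext fun s => hres inf_le_right (f.app V s)
    have hker : ∀ (z : Y) (hz : z ∈ W') (hzt : f z = t),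
        RingHom.ker ((Y.evaluation W' z hz).hom.comp ψ) = RingHom.ker (X.evaluation V t htV).hom := by
      intro z hz hzt
      subst hzt
      have : (Y.evaluation W' z hz).hom.comp ψ = (f.residueFieldMap z).hom.comp (X.evaluation V (f z) htV).hom := by
        refine RingHom.ext fun s => ?_
        refine Eq.trans ?_ (Scheme.evaluation_naturality_apply f z (show f z ∈ V from hz.2) s).symm
        show Y.residue z (Y.presheaf.germ W' z hz (Y.presheaf.map _ _)) = _
        rw [TopCat.Presheaf.germ_res_apply]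
        rfl
      rw [this, RingHom.ker_comp_of_injective _ (RingHom.injective _)]
    have hm : ∀ (z : Y) (hz : z ∈ W'), f z = t →
        (RingHom.ker (Y.evaluation W' z hz).hom).comap ψ = RingHom.ker (X.evaluation V t htV).hom :=
      fun z hz hzt => by rw [RingHom.comap_ker]; exact hker z hz hzt
    have hpq : RingHom.ker ev₀ ≤ RingHom.ker ev₁ := fun s hs => by
      rw [RingHom.mem_ker] at hs ⊢
      refine (Y.evaluation_eq_zero_iff_notMem_basicOpen d hdW' s).2 fun hmem => ?_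
      exact (Y.evaluation_eq_zero_iff_notMem_basicOpen η₀ h₀W' s).1 hs (hd₀.mem_open (Y.basicOpen s).2 hmem)
    haveI : (RingHom.ker ev₀).IsPrime := RingHom.ker_isPrime _
    haveI : (RingHom.ker ev₁).IsPrime := RingHom.ker_isPrime _
    have hcq : c' ∈ RingHom.ker ev₁ := by
      rw [RingHom.mem_ker]
      refine (Y.evaluation_eq_zero_iff_notMem_basicOpen d hdW' c').2 fun hmem => hcd ?_
      rw [Scheme.basicOpen_res] at hmem
      exact hmem.2
    have hcp : c' ∉ RingHom.ker ev₀ := by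
      rw [RingHom.mem_ker]
      refine (Y.evaluation_ne_zero_iff_mem_basicOpen η₀ h₀W' c').2 ?_
      rw [Scheme.basicOpen_res]
      exact ⟨h₀W', hcη⟩
    intro h0
    refine not_isIntegralElem_of_mem_not_mem ψ (hm η₀ h₀W' h₀) (hm d hdW' hdt) hpq hcq hcp ⟨P, hP, ?_⟩
    rw [← Polynomial.hom_eval₂, Ideal.Quotient.eq_zero_iff_mem, RingHom.mem_ker, Polynomial.hom_eval₂, hcomp,
      hres inf_le_left c]
    exact h0

end Groth.L05.PtSeq
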