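import Groth.Agent.L05.PtSeq.Drop

/-!
# Principalization by point blow-ups
-/

set_option autoImplicit false
set_option linter.style.haveILetI false
set_option backward.isDefEq.respectTransparency false

universe u

open CategoryTheory CategoryTheory.Limits AlgebraicGeometry TopologicalSpace
open Groth.L22 Models
open Groth.L03.BlowPt (ptI exc eι)

noncomputable section

namespace Groth.L05.PtSeq

theorem isEffCartier_pow {Z : Scheme.{u}} {E : Z.IdealSheafData} (hE : BlowUp.IsEffCartierIdeal E) :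
    ∀ n : ℕ, BlowUp.IsEffCartierIdeal (E ^ n)
  | 0 => by rw [pow_zero, Scheme.IdealSheafData.one_eq_top]; exact Ideals.isEffCartier_top
  | n + 1 => by rw [pow_succ]; exact Ideals.isEffCartier_mul (isEffCartier_pow hE n) hE

theorem exists_principal : ∀ (N : ℕ) {Y : Scheme.{u}} [AlgebraicGeometry.IsNoetherian Y] (T : Set Y)
    (hT : IsClosed T) (I : Y.IdealSheafData) (_ : PtSupp I) (_ : (I.support : Set Y) ⊆ T),
    ∑ᶠ w ∈ (I.support : Set Y), (len I w).toNat = N →
    ∃ (X : Scheme.{u}) (g : X ⟶ Y), IsContractionSeq g ∧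
      IsIso (g ∣_ (⟨Tᶜ, hT.isOpen_compl⟩ : Y.Opens)) ∧ BlowUp.IsEffCartierIdeal (I.comap g) ∧
      ((∀ w ∈ T, IsRegularLocalRing (Y.presheaf.stalk w)) →
        ∀ z : X, g z ∈ T → IsRegularLocalRing (X.presheaf.stalk z)) := by
  intro N
  induction N using Nat.strong_induction_on with
  | _ N ih =>
  intro Y _ T hT I hI hsub hN
  classical
  rcases (I.support : Set Y).eq_empty_or_nonempty with hemp | ⟨y, hyI⟩
  · have htop : I = ⊤ := (Scheme.IdealSheafData.support_eq_bot_iff I).1 (Closeds.ext hemp)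
    refine ⟨Y, 𝟙 Y, seq_id Y, inferInstance, ?_, fun hreg z hz => hreg z hz⟩
    rw [Scheme.IdealSheafData.comap_id, htop]
    exact Ideals.isEffCartier_top
  obtain ⟨hy, hreg, hdim⟩ := hI y hyI
  obtain ⟨X, b, hb⟩ := Groth.L13.BU.exists_isBlowUp (ptI hy)
  have h : IsPtBlow b y hy := ⟨hreg, hdim, hb⟩
  haveI := h.isNoetherian
  obtain ⟨d, J, hd, hprod, hJ, hJsub⟩ := exists_transform h hI hyI
  have hTc : IsClosed (b ⁻¹' T) := hT.preimage b.continuous
  let A : Set X := {z | z ∈ (J.support : Set X) ∧ b z = y}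
  let B : Set X := {z | z ∈ (J.support : Set X) ∧ b z ≠ y}
  have hA : A.Finite := hJ.finite.subset fun z hz => hz.1
  have hB : B.Finite := hJ.finite.subset fun z hz => hz.1
  have hsplit : ∑ᶠ z ∈ (J.support : Set X), (len J z).toNat =
      ∑ᶠ z ∈ A, (len J z).toNat + ∑ᶠ z ∈ B, (len J z).toNat := by
    rw [← finsum_mem_union (Set.disjoint_left.2 fun z hz hz' => hz'.2 hz.2) hA hB]
    refine finsum_mem_congr (Set.ext fun z => ⟨fun hz => ?_, ?_⟩) (fun _ _ => rfl)
    · rcases eq_or_ne (b z) y with h1 | h1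
      exacts [Or.inl ⟨hz, h1⟩, Or.inr ⟨hz, h1⟩]
    · rintro (hz | hz) <;> exact hz.1
  have hA' : ∑ᶠ z ∈ A, (len J z).toNat < (len I y).toNat := by
    have h1 : ∑ᶠ z ∈ A, len J z < len I y := sum_len_lt h hI hJ hyI hd hprod
    rw [finsum_mem_eq_finite_toFinset_sum _ hA] at h1 ⊢
    rw [← ENat.toNat_sum (fun z _ => hJ.len_ne_top z)]
    rw [← Nat.cast_lt (α := ℕ∞), ENat.coe_toNat (h1.trans_le le_top).ne, ENat.coe_toNat (hI.len_ne_top y)]
    exact h1
  have hB' : ∑ᶠ z ∈ B, (len J z).toNat ≤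
      ∑ᶠ w ∈ (I.support : Set Y) \ {y}, (len I w).toNat := by
    haveI := h.isIso_off
    have hinj : Set.InjOn b B := fun z hz z' _ he =>
      Groth.L05.RelMinExists.eq_of_isIso_restrict' b (⟨{y}ᶜ, hy.isOpen_compl⟩ : Y.Opens) hz.2 he
    rw [finsum_mem_congr rfl (fun z (hz : z ∈ B) => congrArg ENat.toNat (len_eq_off h hprod hz.2)),
      ← finsum_mem_image (f := fun w => (len I w).toNat) hinj,
      finsum_mem_eq_finite_toFinset_sum _ (hB.image _),
      finsum_mem_eq_finite_toFinset_sum _ (hI.finite.sdiff (t := {y}))]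
    refine Finset.sum_le_sum_of_subset fun w hw => ?_
    obtain ⟨z, hz, rfl⟩ := (hB.image b).mem_toFinset.1 hw
    exact (hI.finite.sdiff).mem_toFinset.2 ⟨hJsub z hz.1, hz.2⟩
  have htot : ∑ᶠ z ∈ (J.support : Set X), (len J z).toNat < N := by
    have h1 : ∑ᶠ w ∈ (I.support : Set Y), (len I w).toNat =
        (len I y).toNat + ∑ᶠ w ∈ (I.support : Set Y) \ {y}, (len I w).toNat := by
      conv_lhs => rw [← Set.insert_diff_self_of_mem hyI]
      exact finsum_mem_insert _ (fun h => h.2 rfl) hI.finite.sdiff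
    omega
  obtain ⟨X', g, hg, hgiso, hgJ, hgreg⟩ := ih _ htot (b ⁻¹' T) hTc J hJ (fun z hz => hsub (hJsub z hz)) rfl
  refine ⟨X', g ≫ b, seq_snoc hg h, ?_, ?_, fun hTreg z hz => hgreg (fun x hx => ?_) z hz⟩
  · have hle : (⟨Tᶜ, hT.isOpen_compl⟩ : Y.Opens) ≤ ⟨{y}ᶜ, hy.isOpen_compl⟩ := fun z hz hzy =>
      hz (by rw [show z = y from hzy]; exact hsub hyI)
    haveI := h.isIso_off
    haveI := Groth.L13.Contraction.isIso_restrict_mono b hle
    haveI : IsIso (g ∣_ (b ⁻¹ᵁ (⟨Tᶜ, hT.isOpen_compl⟩ : Y.Opens))) := hgiso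
    rw [morphismRestrict_comp]
    infer_instance
  · rw [Scheme.IdealSheafData.comap_comp, ← hprod, Ideals.comap_mul]
    exact Ideals.isEffCartier_mul (seq_isEffCartier_comap hg (isEffCartier_pow h.2.2.1 d)) hgJ
  · by_cases hxy : b x = y
    · exact h.regular hxy
    · haveI := h.isIso_stalkMap hxy
      haveI := hTreg (b x) hx
      exact IsRegularLocalRing.of_ringEquiv (asIso (b.stalkMap x)).commRingCatIsoToRingEquiv

theorem exists_principal' {Y : Scheme.{u}} [AlgebraicGeometry.IsNoetherian Y] (T : Set Y)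
    (hT : IsClosed T) (I : Y.IdealSheafData) (hI : PtSupp I) (hsub : (I.support : Set Y) ⊆ T) :
    ∃ (X : Scheme.{u}) (g : X ⟶ Y), IsContractionSeq g ∧
      IsIso (g ∣_ (⟨Tᶜ, hT.isOpen_compl⟩ : Y.Opens)) ∧ BlowUp.IsEffCartierIdeal (I.comap g) :=
  let ⟨X, g, h1, h2, h3, _⟩ := exists_principal _ T hT I hI hsub rfl
  ⟨X, g, h1, h2, h3⟩

end Groth.L05.PtSeq
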