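import Groth.Agent.L05.PtSeq.DomData
import Groth.Agent.L05.PtSeq.Principal
import Groth.Agent.L05.FibreDecomp.Main
import Groth.Agent.L22.CartierDecomp
import Groth.Agent.L22.Div.Stalk
import Groth.Agent.L10.RegularUFD

/-!
# Making any nonzero ideal on a regular surface invertible by point blow-ups
-/

set_option autoImplicit false
set_option linter.style.haveILetI false
set_option backward.isDefEq.respectTransparency false

universe u

open CategoryTheory CategoryTheory.Limits AlgebraicGeometry TopologicalSpace IsLocalRing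
open Groth.L22

noncomputable section

namespace Groth.L05.PtSeq

variable {X : Scheme.{u}}

theorem genericPoint_notMem_support [IsIntegral X] {I : X.IdealSheafData} (hI : I ≠ ⊥) :
    genericPoint X ∉ (I.support : Set X) := by
  intro h
  refine hI ?_
  refine Scheme.IdealSheafData.ext (funext fun U => ?_)
  refine le_antisymm (fun a ha => ?_) bot_le
  rw [Scheme.IdealSheafData.ideal_bot, Pi.bot_apply, Ideal.mem_bot]
  by_contra ha0
  have hne : X.basicOpen a ≠ ⊥ := fun he => ha0 ((basicOpen_eq_bot_iff a).1 he)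
  have hmem : genericPoint X ∈ X.basicOpen a :=
    (genericPoint_spec X).mem_open_set_iff (X.basicOpen a).2 |>.2 (by
      simpa using (Opens.ne_bot_iff_nonempty _).1 hne)
  have hU : genericPoint X ∈ U.1 := X.basicOpen_le a hmem
  exact (LocalDim.mem_basicOpen_iff U.2 hU a).1 hmem ((CartierDecomp.mem_support_iff hU).1 h ha)

theorem isEffCartier_vanishing [AlgebraicGeometry.IsNoetherian X] (hreg : ∀ x : X, IsRegularLocalRing (X.presheaf.stalk x))
    {ξ : X} (hξ : ringKrullDim (X.presheaf.stalk ξ) = 1) :
    ∃ D : X.IdealSheafData, BlowUp.IsEffCartierIdeal D ∧ IsIntegral D.subscheme ∧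
      IsGenericPoint ξ (D.support : Set X) := by
  let C : Closeds X := ⟨closure {ξ}, isClosed_closure⟩
  let D := Scheme.IdealSheafData.vanishingIdeal C
  have hsupp : (D.support : Set X) = closure {ξ} := by
    rw [Scheme.IdealSheafData.coe_support_vanishingIdeal]; rfl
  have hgen : IsGenericPoint ξ (D.support : Set X) := hsupp.symm
  haveI : AlgebraicGeometry.IsReduced D.subscheme := Groth.L18.isReduced_vanishingIdeal_subscheme C
  obtain ⟨t₀, ht₀⟩ : ξ ∈ Set.range D.subschemeι := by rw [D.range_subschemeι]; exact hgen.mem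
  have hgen' : IsGenericPoint t₀ (Set.univ : Set D.subscheme) := by
    rw [IsGenericPoint, Set.eq_univ_iff_forall]
    intro t
    rw [← specializes_iff_mem_closure, ← D.subschemeι.isEmbedding.isInducing.specializes_iff, ht₀]
    exact hgen.specializes (by rw [← D.range_subschemeι]; exact ⟨t, rfl⟩)
  haveI : IrreducibleSpace D.subscheme := irreducibleSpace_def _ |>.2 hgen'.isIrreducible
  haveI := AlgebraicGeometry.isIntegral_of_irreducibleSpace_of_isReduced D.subscheme
  refine ⟨D, fun x => ?_, ‹_›, hgen⟩
  by_cases hx : x ∈ (D.support : Set X)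
  · obtain ⟨U, hU⟩ := exists_affine x
    haveI := hreg x
    haveI := Groth.L01.isDomain_of_regular (X.presheaf.stalk x)
    haveI := Groth.L10.RegUFD.isUFD (X.presheaf.stalk x)
    obtain ⟨p, hp, hpe⟩ := Groth.L05.FibreDecomp.exists_prime_generator D U x hU hgen hξ hx
    obtain ⟨V, hxV, a, ha, haV⟩ := Div.exists_principal_nhd D U x hU p hpe (mem_nonZeroDivisors_of_ne_zero hp.ne_zero)
    exact ⟨V, hxV, a, ha, haV⟩
  · obtain ⟨_, ⟨V, hV, rfl⟩, hxV, hVle⟩ := X.isBasis_affineOpens.exists_subset_of_mem_open
      (show x ∈ (D.support : Set X)ᶜ from hx) D.support.isClosed.isOpen_compl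
    refine ⟨⟨V, hV⟩, hxV, 1, one_mem _, ?_⟩
    rw [Ideal.span_singleton_one]
    exact CartierDecomp.ideal_eq_top fun z hz => hVle hz

theorem isEffCartier_prod {ι : Type*} (s : Finset ι) (D : ι → X.IdealSheafData)
    (h : ∀ i ∈ s, BlowUp.IsEffCartierIdeal (D i)) : BlowUp.IsEffCartierIdeal (∏ i ∈ s, D i) := by
  classical
  induction s using Finset.induction_on with
  | empty => rw [Finset.prod_empty, Scheme.IdealSheafData.one_eq_top]; exact Ideals.isEffCartier_top
  | insert a s ha ih =>
    rw [Finset.prod_insert ha]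
    exact Ideals.isEffCartier_mul (h a (Finset.mem_insert_self a s)) (ih fun i hi => h i (Finset.mem_insert_of_mem hi))

theorem exists_invertible [IsIntegral X] [AlgebraicGeometry.IsNoetherian X]
    (hreg : ∀ x : X, IsRegularLocalRing (X.presheaf.stalk x)) (hdim : topologicalKrullDim X ≤ 2)
    (I : X.IdealSheafData) (hI : I ≠ ⊥) :
    ∃ (X' : Scheme.{u}) (g : X' ⟶ X), Models.IsContractionSeq g ∧ BlowUp.IsEffCartierIdeal (I.comap g) := by
  choose D hD hint hgen using fun ξ : {ξ : X // ringKrullDim (X.presheaf.stalk ξ) = 1} =>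
    isEffCartier_vanishing hreg ξ.2
  obtain ⟨a, J, hJ, hJ'⟩ := CartierDecomp.exists_decomp D hD hint I fun y hy h => by
    obtain rfl := hy _ (genericPoint_specializes y)
    exact genericPoint_notMem_support hI h
  have hS : IsRegSurf X := ⟨‹_›, ‹_›, hreg, hdim⟩
  have hPt : PtSupp J := fun w hw => by
    have hwI : w ∈ (I.support : Set X) := by
      by_contra h
      refine (stI_eq_top_iff J w).1 (top_le_iff.1 ?_) hw
      rw [← (stI_eq_top_iff I w).2 h, ← hJ, stI_mul]
      exact Ideal.mul_le.2 fun r _ s hs => Ideal.mul_mem_left _ r hs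
    have h0 : genericPoint X ≠ w := fun h => genericPoint_notMem_support hI (h ▸ hwI)
    have h1 := Groth.L03.BlowPt.Factor.dim_add_one_le (genericPoint_specializes w) h0
    rw [dim_stalk_genericPoint, zero_add] at h1
    have h2 : ringKrullDim (X.presheaf.stalk w) ≠ 1 := fun h => hJ' ⟨w, h⟩ w (hgen ⟨w, h⟩) hw
    have h3 := (Groth.L13.ModFibre.ringKrullDim_stalk_le_topologicalKrullDim w).trans hdim
    have h4 : ringKrullDim (X.presheaf.stalk w) = (2 : ℕ) := by
      generalize ringKrullDim (X.presheaf.stalk w) = d at h1 h2 h3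
      cases d with
      | bot => exact absurd h1 (by decide)
      | coe d =>
        cases d with
        | top => exact absurd h3 (by decide)
        | coe m =>
          have e1 : 1 ≤ m := by exact_mod_cast (WithBot.coe_le_coe.1 h1)
          have e3 : m ≤ 2 := by exact_mod_cast (WithBot.coe_le_coe.1 h3)
          have e2 : m ≠ 1 := fun e => h2 (by rw [e]; rfl)
          rw [show m = 2 by omega]; rfl
    exact ⟨isClosed_of_dim hS h4.ge, hreg w, h4⟩
  obtain ⟨X', g, hg, -, hC⟩ := exists_principal' (J.support : Set X) J.support.isClosed J hPt subset_rfl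
  refine ⟨X', g, hg, ?_⟩
  rw [← hJ, Ideals.comap_mul]
  exact Ideals.isEffCartier_mul
    (seq_isEffCartier_comap hg (isEffCartier_prod _ _ fun i _ => isEffCartier_pow (hD i) _)) hC

end Groth.L05.PtSeq
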