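import Groth.Agent.L05.PtSeq.DomLocal
import Groth.Agent.L07.RatSection

/-!
# Point blow-ups dominate modifications at regular surface points
-/

set_option autoImplicit false
set_option linter.style.haveILetI false
set_option backward.isDefEq.respectTransparency false

universe u

open CategoryTheory CategoryTheory.Limits AlgebraicGeometry TopologicalSpace IsLocalRing
open Groth.L03.BlowPt (ptI)

noncomputable section

namespace Groth.L05.PtSeq

variable {X Y : Scheme.{u}}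

theorem isIso_restrict_restrict (f : Y ⟶ X) {O : X.Opens} (hf : IsIso (f ∣_ O)) (U : X.Opens)
    (V : (U : Scheme.{u}).Opens) (h : ∀ v ∈ V, U.ι v ∈ O) : IsIso ((f ∣_ U) ∣_ V) :=
  ((MorphismProperty.isomorphisms Scheme).arrow_mk_iso_iff (morphismRestrictRestrict f U V)).2
    (haveI := hf
     Groth.L13.Contraction.isIso_restrict_mono f (C := O) (by rintro _ ⟨v, hv, rfl⟩; exact h v hv))

/-- The dominant part of a modification of an integral scheme. -/
theorem exists_main_component [IsIntegral X] (f : Y ⟶ X) [IsProper f] (V : X.Opens)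
    (hne : (V : Set X).Nonempty) (hf : IsIso (f ∣_ V)) :
    ∃ (Y₀ : Scheme.{u}) (ι : Y₀ ⟶ Y) (_ : IsIntegral Y₀) (_ : IsProper (ι ≫ f)), IsIso ((ι ≫ f) ∣_ V) := by
  haveI := hf
  have hξ : genericPoint X ∈ V := (genericPoint_spec X).mem_open_set_iff V.2 |>.2 (by simpa using hne)
  haveI : Nonempty V := ⟨⟨_, hξ⟩⟩
  haveI : IsIntegral (V : Scheme.{u}) := isIntegral_of_isOpenImmersion V.ι
  haveI : Nonempty (f ⁻¹ᵁ V : Y.Opens) := ⟨(f ∣_ V).homeomorph.symm ⟨_, hξ⟩⟩
  haveI : IsIntegral ((f ⁻¹ᵁ V : Y.Opens) : Scheme.{u}) := isIntegral_of_isOpenImmersion (f ∣_ V)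
  obtain ⟨Y₀, ι, hint, hι, hr, -⟩ := exists_closure_subscheme
    ((f ⁻¹ᵁ V).ι (genericPoint ((f ⁻¹ᵁ V : Y.Opens) : Scheme.{u})))
  haveI := hι; haveI := hint
  haveI : IsProper (ι ≫ f) := inferInstance
  refine ⟨Y₀, ι, hint, ‹_›, ?_⟩
  haveI : IsClosedImmersion (ι ∣_ (f ⁻¹ᵁ V)) :=
    MorphismProperty.of_isPullback (isPullback_morphismRestrict ι (f ⁻¹ᵁ V)).flip ‹IsClosedImmersion ι›
  haveI : Surjective (ι ∣_ (f ⁻¹ᵁ V)) := ⟨fun y => by
    obtain ⟨y₀, hy₀⟩ : (f ⁻¹ᵁ V).ι y ∈ Set.range ι := by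
      rw [hr]
      exact specializes_iff_mem_closure.1 ((genericPoint_specializes y).map (f ⁻¹ᵁ V).ι.continuous)
    refine ⟨⟨y₀, show ι y₀ ∈ f ⁻¹ᵁ V from hy₀ ▸ y.2⟩, ?_⟩
    apply (f ⁻¹ᵁ V).ι.isOpenEmbedding.injective
    rw [← Scheme.Hom.comp_apply, morphismRestrict_ι, Scheme.Hom.comp_apply]
    exact hy₀⟩
  haveI : IsIso (ι ∣_ (f ⁻¹ᵁ V)) := isIso_of_isClosedImmersion_of_surjective _
  rw [morphismRestrict_comp]
  infer_instance

/-- An ideal sheaf on an open supported at a closed point of the whole space extends. -/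
theorem exists_extend [AlgebraicGeometry.IsNoetherian X] (U : X.Opens) (t : (U : Scheme.{u}))
    (ht : IsClosed ({U.ι t} : Set X)) (J : (U : Scheme.{u}).IdealSheafData)
    (hJ : (J.support : Set (U : Scheme.{u})) ⊆ {t}) :
    ∃ J' : X.IdealSheafData, (J'.support : Set X) ⊆ {U.ι t} ∧ J'.comap U.ι = J := by
  haveI : IsLocallyNoetherian (U : Scheme.{u}) := inferInstance
  have htc : IsClosed ({t} : Set (U : Scheme.{u})) := by
    rw [show ({t} : Set (U : Scheme.{u})) = U.ι ⁻¹' {U.ι t} from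
      (Set.ext fun z => ⟨fun h => congrArg U.ι h, fun h => U.ι.isOpenEmbedding.injective h⟩)]
    exact ht.preimage U.ι.continuous
  obtain ⟨n, hn⟩ := exists_pow_le_stI J htc fun w hw _ => hJ hw
  obtain ⟨J', hs, hJ'⟩ := exists_ideal_of_stalk ht ((stI J t).comap (U.ι.stalkMap t).hom) (n := n)
    (Ideal.map_le_iff_le_comap.1 (by
      rw [Ideal.map_pow]
      exact (Ideal.pow_right_mono (IsLocalRing.map_maximalIdeal_le _) n).trans hn))
  refine ⟨J', hs, ext_stI fun z => ?_⟩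
  rw [stI_comap]
  by_cases hz : z = t
  · subst hz
    rw [hJ', Ideal.map_comap_of_surjective _ (ConcreteCategory.bijective_of_isIso (U.ι.stalkMap z)).2]
  · rw [(stI_eq_top_iff J' _).2 (fun h => hz (U.ι.isOpenEmbedding.injective (hs h))), Ideal.map_top,
      (stI_eq_top_iff J z).2 fun h => hz (hJ h)]

/-- A blow-up of points over an integral open meeting the centre once is integral there. -/
theorem isIntegral_preimage [AlgebraicGeometry.IsNoetherian X] {X' : Scheme.{u}} (g : X' ⟶ X) (U : X.Opens)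
    [IsIntegral (U : Scheme.{u})] {t : X} (ht : IsClosed ({t} : Set X)) (O : X.Opens)
    (hO : IsIso (g ∣_ O)) (hUO : ∀ x ∈ U, x ≠ t → x ∈ O) {p : X} (hpU : p ∈ U) (hpt : p ≠ t)
    (hreg : ∀ z, g z = t → IsRegularLocalRing (X'.presheaf.stalk z))
    (hC : BlowUp.IsEffCartierIdeal ((ptI ht).comap g)) :
    IsIntegral ((g ⁻¹ᵁ U : X'.Opens) : Scheme.{u}) := by
  let U₁ : X.Opens := U ⊓ ⟨{t}ᶜ, ht.isOpen_compl⟩
  haveI := hO
  haveI : IsIso (g ∣_ U₁) := Groth.L13.Contraction.isIso_restrict_mono g (C := O) fun x hx => hUO x hx.1 hx.2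
  haveI : Nonempty U₁ := ⟨⟨p, hpU, hpt⟩⟩
  haveI : IsIntegral (U₁ : Scheme.{u}) := isIntegral_of_isOpenImmersion (X.homOfLE (inf_le_left : U₁ ≤ U))
  haveI : Nonempty (g ⁻¹ᵁ U₁ : X'.Opens) := ⟨(g ∣_ U₁).homeomorph.symm ⟨p, hpU, hpt⟩⟩
  haveI : IsIntegral ((g ⁻¹ᵁ U₁ : X'.Opens) : Scheme.{u}) := isIntegral_of_isOpenImmersion (g ∣_ U₁)
  have hdom : ∀ z, g z ∈ U → IsDomain (X'.presheaf.stalk z) := fun z hz => by
    by_cases hzt : g z = t
    · haveI := hreg z hzt
      exact Groth.L01.isDomain_of_regular _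
    · let z' : (g ⁻¹ᵁ U₁ : X'.Opens) := ⟨z, hz, hzt⟩
      exact (asIso ((g ⁻¹ᵁ U₁).ι.stalkMap z')).commRingCatIsoToRingEquiv.toMulEquiv.isDomain
  let W : X'.Opens := g ⁻¹ᵁ U
  haveI : AlgebraicGeometry.IsReduced (W : Scheme.{u}) := by
    haveI : ∀ w : (W : Scheme.{u}), _root_.IsReduced ((W : Scheme.{u}).presheaf.stalk w) := fun w => by
      haveI := hdom w.1 w.2
      haveI : _root_.IsReduced (X'.presheaf.stalk (W.ι w)) := (inferInstance : _root_.IsReduced (X'.presheaf.stalk w.1))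
      exact isReduced_of_injective (inv (W.ι.stalkMap w)).hom
        (ConcreteCategory.bijective_of_isIso (inv (W.ι.stalkMap w))).1
    exact isReduced_of_isReduced_stalk _
  let q := (g ⁻¹ᵁ U₁).ι (genericPoint ((g ⁻¹ᵁ U₁ : X'.Opens) : Scheme.{u}))
  have hqW : q ∈ W := (genericPoint ((g ⁻¹ᵁ U₁ : X'.Opens) : Scheme.{u})).2.1
  have hspec : ∀ z ∈ W, q ⤳ z := fun z hz => by
    suffices h : ∃ w, w ⤳ z ∧ g w ≠ t ∧ g w ∈ U by
      obtain ⟨w, hw, hwt, hwU⟩ := h
      have h1 : genericPoint ((g ⁻¹ᵁ U₁ : X'.Opens) : Scheme.{u}) ⤳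
          (⟨w, hwU, hwt⟩ : ((g ⁻¹ᵁ U₁ : X'.Opens) : Scheme.{u})) :=
        (genericPoint_spec _).specializes trivial
      exact (h1.map (g ⁻¹ᵁ U₁).ι.continuous).trans hw
    by_cases hzt : g z = t
    · haveI := hdom z hz
      obtain ⟨V, hzV⟩ := exists_affine z
      obtain ⟨e, he, heq⟩ := stI_isPrincipal hC z
      haveI : (⊥ : Ideal (X'.presheaf.stalk z)).IsPrime := Ideal.isPrime_bot
      obtain ⟨w, hwz, hw⟩ := Groth.L05.FibreDecomp.exists_generization V z hzV ⊥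
      have hwD : w ∉ (((ptI ht).comap g).support : Set X') := fun h => by
        have h1 := (hw _).1 h
        rw [← stI_eq _ V hzV, heq, le_bot_iff, Ideal.span_singleton_eq_bot] at h1
        exact nonZeroDivisors.ne_zero he h1
      have hwt : g w ≠ t := fun h => hwD (by
        rw [Scheme.IdealSheafData.support_comap]
        show g w ∈ ((ptI ht).support : Set X)
        rw [h]; simp [ptI])
      refine ⟨w, hwz, hwt, ?_⟩
      have hmem : g w ∈ U₁ ∨ g w ∈ U := Or.inr (by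
        by_contra hwU
        exact hwU ((hwz.map g.continuous).mem_open U.2 hz))
      exact hmem.elim (fun h => h.1) id
    · exact ⟨z, specializes_rfl, hzt, hz⟩
  have hgen : IsGenericPoint (⟨q, hqW⟩ : (W : Scheme.{u})) (Set.univ : Set (W : Scheme.{u})) := by
    rw [IsGenericPoint, Set.eq_univ_iff_forall]
    intro z
    rw [← specializes_iff_mem_closure, ← W.ι.isEmbedding.isInducing.specializes_iff]
    exact hspec z.1 z.2
  haveI : IrreducibleSpace (W : Scheme.{u}) := irreducibleSpace_def _ |>.2 hgen.isIrreducible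
  exact isIntegral_of_irreducibleSpace_of_isReduced _

theorem exists_dominate (X : Scheme.{u}) [AlgebraicGeometry.IsNoetherian X] (T : Set X) (hTf : T.Finite)
    (hTc : IsClosed T) (hT : ∀ x ∈ T, IsClosed ({x} : Set X) ∧ IsRegularLocalRing (X.presheaf.stalk x) ∧
      ringKrullDim (X.presheaf.stalk x) = 2)
    {Y : Scheme.{u}} (f : Y ⟶ X) [IsProper f] (hf : IsIso (f ∣_ (⟨Tᶜ, hTc.isOpen_compl⟩ : X.Opens))) :
    ∃ (X' : Scheme.{u}) (g : X' ⟶ X), Models.IsContractionSeq g ∧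
      IsIso (g ∣_ (⟨Tᶜ, hTc.isOpen_compl⟩ : X.Opens)) ∧ ∃ h : X' ⟶ Y, h ≫ f = g := by
  classical
  let O : X.Opens := ⟨Tᶜ, hTc.isOpen_compl⟩
  haveI : IsIso (f ∣_ O) := hf
  haveI := hTf.to_subtype
  haveI := Fintype.ofFinite T
  have hcl : ∀ t : T, IsClosed ({t.1} : Set X) := fun t => (hT t.1 t.2).1
  have hU : ∀ t : T, ∃ U : X.Opens, t.1 ∈ U ∧ IsIntegral (U : Scheme.{u}) ∧ ∀ x ∈ U, x ≠ t.1 → x ∈ O := by
    intro t
    haveI := (hT t.1 t.2).2.1
    haveI := Groth.L01.isDomain_of_regular (X.presheaf.stalk t.1)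
    obtain ⟨V, htV, -, hV⟩ := Groth.L07.RatSection.exists_integral_nhd t.1
    have hc : IsClosed (T \ {t.1}) := by
      rw [← Set.biUnion_of_singleton (T \ {t.1})]
      exact hTf.sdiff.isClosed_biUnion fun x hx => (hT x hx.1).1
    refine ⟨V ⊓ ⟨_, hc.isOpen_compl⟩, ⟨htV, fun h => h.2 rfl⟩, ?_, fun x hx hne hxT => hx.2 ⟨hxT, hne⟩⟩
    haveI := hV
    haveI : Nonempty (V ⊓ ⟨_, hc.isOpen_compl⟩ : X.Opens) := ⟨⟨t.1, htV, fun h => h.2 rfl⟩⟩
    exact isIntegral_of_isOpenImmersion (X.homOfLE (inf_le_left : V ⊓ ⟨_, hc.isOpen_compl⟩ ≤ V))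
  choose U htU hUint hUO using hU
  let pt : ∀ t : T, (U t : Scheme.{u}) := fun t => ⟨t.1, htU t⟩
  have hptc : ∀ t, IsClosed ({pt t} : Set (U t : Scheme.{u})) := fun t => by
    rw [show ({pt t} : Set (U t : Scheme.{u})) = (U t).ι ⁻¹' {t.1} from
      (Set.ext fun z => ⟨fun h => congrArg (U t).ι h, fun h => (U t).ι.isOpenEmbedding.injective h⟩)]
    exact (hcl t).preimage (U t).ι.continuous
  have hptr : ∀ t, IsRegularLocalRing ((U t : Scheme.{u}).presheaf.stalk (pt t)) := fun t => by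
    haveI := (hT t.1 t.2).2.1
    haveI : IsRegularLocalRing (X.presheaf.stalk ((U t).ι (pt t))) := ‹_›
    exact IsRegularLocalRing.of_ringEquiv (asIso ((U t).ι.stalkMap (pt t))).commRingCatIsoToRingEquiv
  have hptd : ∀ t, ringKrullDim ((U t : Scheme.{u}).presheaf.stalk (pt t)) = 2 := fun t => by
    rw [← (hT t.1 t.2).2.2]
    exact (ringKrullDim_eq_of_ringEquiv (asIso ((U t).ι.stalkMap (pt t))).commRingCatIsoToRingEquiv).symm
  have hoff : ∀ {Z : Scheme.{u}} (k : Z ⟶ X), IsIso (k ∣_ O) → ∀ t,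
      IsIso ((k ∣_ U t) ∣_ (⟨{pt t}ᶜ, (hptc t).isOpen_compl⟩ : (U t : Scheme.{u}).Opens)) :=
    fun k hk t => isIso_restrict_restrict k hk (U t) _ fun v hv =>
      hUO t _ v.2 fun h => hv ((U t).ι.isOpenEmbedding.injective h)
  have hloc : ∀ t : T, ∃ (Y₀ : Scheme.{u}) (k : Y₀ ⟶ Y) (kf : Y₀ ⟶ U t) (J : X.IdealSheafData),
      k ≫ f = kf ≫ (U t).ι ∧ (J.support : Set X) ⊆ {t.1} ∧
      ∀ {X' : Scheme.{u}} [IsIntegral X'] [AlgebraicGeometry.IsNoetherian X'] (g : X' ⟶ U t) [IsProper g],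
        IsIso (g ∣_ (⟨{pt t}ᶜ, (hptc t).isOpen_compl⟩ : (U t : Scheme.{u}).Opens)) →
        (∀ z : X', g z = pt t → IsRegularLocalRing (X'.presheaf.stalk z)) →
        BlowUp.IsEffCartierIdeal ((J.comap (U t).ι).comap g) → ∃ h : X' ⟶ Y₀, h ≫ kf = g := by
    intro t
    haveI := hUint t
    haveI : IsLocallyNoetherian (U t : Scheme.{u}) := inferInstance
    haveI : CompactSpace (U t : Scheme.{u}) := isCompact_iff_compactSpace.mp (NoetherianSpace.isCompact _)
    haveI : AlgebraicGeometry.IsNoetherian (U t : Scheme.{u}) := ⟨⟩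
    haveI : IsProper (f ∣_ U t) := MorphismProperty.of_isPullback (isPullback_morphismRestrict f (U t)).flip ‹IsProper f›
    obtain ⟨Y₀, ι, hint, hp, hiso⟩ := exists_main_component (f ∣_ U t) _
      (⟨_, genericPoint_ne_of_dim (hptd t)⟩) (hoff f hf t)
    haveI := hint; haveI := hp
    obtain ⟨J₀, hJ₀, hfac⟩ := exists_local_ideal (hptc t) (hptr t) (hptd t) (ι ≫ f ∣_ U t) hiso
    obtain ⟨J, hJ, hJe⟩ := exists_extend (U t) (pt t) (hcl t) J₀ hJ₀
    refine ⟨Y₀, ι ≫ (f ⁻¹ᵁ U t).ι, ι ≫ f ∣_ U t, J, ?_, hJ, fun g _ h1 h2 h3 => hfac g h1 h2 (hJe ▸ h3)⟩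
    rw [Category.assoc, Category.assoc, morphismRestrict_ι]
  choose Y₀ k kf J hk hJ hfac using hloc
  let I : X.IdealSheafData := (∏ t : T, ptI (hcl t)) * ∏ t : T, J t
  have hIT : (I.support : Set X) ⊆ T := fun z hz => by
    by_contra hzT
    refine (stI_eq_top_iff I z).1 ?_ hz
    rw [stI_mul, stI_prod_eq_top _ _ fun t _ => (stI_eq_top_iff _ z).2 fun h => hzT ?_,
      stI_prod_eq_top _ _ fun t _ => (stI_eq_top_iff _ z).2 fun h => hzT ?_, Ideal.top_mul]
    · rw [show z = t.1 from hJ t h]; exact t.2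
    · rw [show z = t.1 by simpa [ptI] using h]; exact t.2
  obtain ⟨X', g, hg, hgO, hgC, hgreg⟩ := exists_principal _ T hTc I
    (fun w hw => hT w (hIT hw)) hIT rfl
  have hreg' := hgreg fun w hw => (hT w hw).2.1
  haveI : IsIso (g ∣_ O) := hgO
  haveI := seq_isProper hg
  haveI := seq_isNoetherian hg
  rw [Groth.L22.Ideals.comap_mul] at hgC
  have hC1 : ∀ t, BlowUp.IsEffCartierIdeal ((ptI (hcl t)).comap g) := fun t =>
    isEffCartier_comap_of_prod _ _ g (Groth.L22.Ideals.isEffCartier_left_of_mul hgC) (Finset.mem_univ t)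
  have hC2 : ∀ t, BlowUp.IsEffCartierIdeal ((J t).comap g) := fun t =>
    isEffCartier_comap_of_prod _ _ g (Groth.L22.Ideals.isEffCartier_left_of_mul (J := (∏ t : T, ptI (hcl t)).comap g) (by rw [mul_comm]; exact hgC))
      (Finset.mem_univ t)
  have hh : ∀ t : T, ∃ h : (g ⁻¹ᵁ U t : X'.Opens).toScheme ⟶ Y, h ≫ f = (g ⁻¹ᵁ U t).ι ≫ g := by
    intro t
    haveI := hUint t
    obtain ⟨p, hpU, hpt⟩ : ∃ p ∈ U t, p ≠ t.1 :=
      ⟨(U t).ι (genericPoint (U t : Scheme.{u})), (genericPoint (U t : Scheme.{u})).2, fun h =>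
        genericPoint_ne_of_dim (hptd t) ((U t).ι.isOpenEmbedding.injective h)⟩
    haveI := isIntegral_preimage g (U t) (hcl t) O hgO (hUO t) hpU hpt
      (fun z hz => hreg' z (hz.symm ▸ t.2)) (hC1 t)
    let W : X'.Opens := g ⁻¹ᵁ U t
    haveI : CompactSpace (W : Scheme.{u}) := isCompact_iff_compactSpace.mp (NoetherianSpace.isCompact _)
    haveI : AlgebraicGeometry.IsNoetherian (W : Scheme.{u}) := ⟨⟩
    haveI : IsProper (g ∣_ U t) := MorphismProperty.of_isPullback (isPullback_morphismRestrict g (U t)).flip ‹IsProper g›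
    obtain ⟨h, hh⟩ := hfac t (g ∣_ U t) (hoff g hgO t) (fun z hz => by
        have hzt : g (W.ι z) = t.1 := by
          rw [← Scheme.Hom.comp_apply, ← morphismRestrict_ι, Scheme.Hom.comp_apply]
          exact congrArg (U t).ι hz
        haveI := hreg' (W.ι z) (hzt.symm ▸ t.2)
        exact IsRegularLocalRing.of_ringEquiv (asIso (W.ι.stalkMap z)).commRingCatIsoToRingEquiv) (by
      rw [← Scheme.IdealSheafData.comap_comp, morphismRestrict_ι, Scheme.IdealSheafData.comap_comp]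
      exact Groth.L22.Ideals.isEffCartier_comap_of_flat _ (hC2 t))
    exact ⟨h ≫ k t, by rw [Category.assoc, hk, reassoc_of% hh, morphismRestrict_ι]⟩
  choose h hh using hh
  let W : Option T → X'.Opens := fun o => o.elim (g ⁻¹ᵁ O) fun t => g ⁻¹ᵁ U t
  have hWcov : IsOpenCover W := by
    rw [IsOpenCover, eq_top_iff]
    intro z _
    rw [Opens.mem_iSup]
    by_cases hzT : g z ∈ T
    · exact ⟨some ⟨g z, hzT⟩, htU ⟨g z, hzT⟩⟩
    · exact ⟨none, hzT⟩
  let H : ∀ o, (W o : Scheme.{u}) ⟶ Y := fun o => match o with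
    | none => (g ∣_ O) ≫ inv (f ∣_ O) ≫ (f ⁻¹ᵁ O).ι
    | some t => h t
  have hH : ∀ o, H o ≫ f = (W o).ι ≫ g := fun o => match o with
    | none => by
      show ((g ∣_ O) ≫ inv (f ∣_ O) ≫ (f ⁻¹ᵁ O).ι) ≫ f = (g ⁻¹ᵁ O).ι ≫ g
      rw [Category.assoc, Category.assoc, ← morphismRestrict_ι f O, IsIso.inv_hom_id_assoc, morphismRestrict_ι]
    | some t => hh t
  let 𝒰 := X'.openCoverOfIsOpenCover W hWcov
  have hcompat : ∀ i j : Option T, pullback.fst ((W i).ι) ((W j).ι) ≫ H i = pullback.snd ((W i).ι) ((W j).ι) ≫ H j := by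
    intro i j
    rcases eq_or_ne i j with rfl | hij
    · rw [(cancel_mono (W i).ι).1 (pullback.condition (f := (W i).ι) (g := (W i).ι))]
    refine eq_of_mono_over f O (by rw [Category.assoc, Category.assoc, hH, hH, pullback.condition_assoc]) fun r => ?_
    rw [← Scheme.Hom.comp_apply, Category.assoc, hH, Scheme.Hom.comp_apply, Scheme.Hom.comp_apply]
    let x := (W i).ι (pullback.fst (W i).ι (W j).ι r)
    have hxi : x ∈ W i := (pullback.fst (W i).ι (W j).ι r).2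
    have hxj : x ∈ W j := by
      show (W i).ι (pullback.fst (W i).ι (W j).ι r) ∈ W j
      rw [← Scheme.Hom.comp_apply, pullback.condition, Scheme.Hom.comp_apply]
      exact (pullback.snd (W i).ι (W j).ι r).2
    show g x ∈ O
    match i, j, hij, hxi, hxj with
    | none, _, _, hxi, _ => exact hxi
    | some _, none, _, _, hxj => exact hxj
    | some a, some b, hij, hxi, hxj =>
      by_cases hxa : g x = a.1
      · refine hUO b _ hxj fun hxb => hij (congrArg some (Subtype.ext (hxa.symm.trans hxb)))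
      · exact hUO a _ hxi hxa
  refine ⟨X', g, hg, hgO, 𝒰.glueMorphisms H hcompat, Scheme.Cover.hom_ext 𝒰 _ _ fun o => ?_⟩
  rw [← Category.assoc, Scheme.Cover.ι_glueMorphisms]
  exact hH o

end Groth.L05.PtSeq
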