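import Groth.Agent.L05.PtSeq.Contr
import Groth.Agent.L13.BlowTwo.Charts
import Mathlib.Topology.Sheaves.SheafCondition.UniqueGluing

/-!
# Gluing from the two charts of a point blow-up
-/

set_option autoImplicit false
set_option linter.style.haveILetI false
set_option backward.isDefEq.respectTransparency false

universe u

open CategoryTheory CategoryTheory.Limits AlgebraicGeometry TopologicalSpace Opposite
open Groth.L13.BU Groth.L11.BlowSmooth

noncomputable section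

namespace Groth.L05.PtSeq

variable {Y X : Scheme.{u}} [AlgebraicGeometry.IsNoetherian Y] {b : X ⟶ Y} {y : Y} {hy : IsClosed ({y} : Set Y)}

theorem res_res {A B C : (Opens X)ᵒᵖ} (i : A ⟶ B) (j : B ⟶ C) (a : X.presheaf.obj A) :
    X.presheaf.map j (X.presheaf.map i a) = X.presheaf.map (i ≫ j) a := by
  rw [X.presheaf.map_comp]; rfl

theorem IsPtBlow.exists_two_charts (h : IsPtBlow b y hy) (U : Y.affineOpens) (f : Fin 2 → Γ(Y, U.1))
    (hU : (Groth.L03.BlowPt.ptI hy).ideal U = sI f) :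
    ∃ (V₀ V₁ : X.Opens), V₀ ⊔ V₁ = b ⁻¹ᵁ U.1 ∧ IsAffineOpen V₀ ∧ IsAffineOpen V₁ ∧ IsAffineOpen (V₀ ⊓ V₁) ∧
      ∀ r : Γ(X, V₀ ⊓ V₁), ∃ (a : Γ(X, V₀)) (c : Γ(X, V₁)),
        X.presheaf.map (homOfLE (inf_le_left : V₀ ⊓ V₁ ≤ V₀)).op a +
          X.presheaf.map (homOfLE (inf_le_right : V₀ ⊓ V₁ ≤ V₁)).op c = r := by
  let g := U.2.fromSpec
  let b₁ := pullback.fst g b
  let k := pullback.snd g b
  haveI : IsOpenImmersion k := inferInstance
  have hb₁ : BlowUp.IsBlowUp b₁ (idealOf (sI f)) := by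
    have h' := isBlowUp_pullback g h.2.2
    rw [show (Groth.L03.BlowPt.ptI hy).comap g = idealOf (sI f) by
      rw [comap_fromSpec]; exact congrArg idealOf hU] at h'
    exact h'
  obtain ⟨W₀, W₁, hcov, hW₀, hW₁, hW, hsplit⟩ := Groth.Agent.L13.BlowTwo.exists_two_charts f b₁ hb₁
  have hinf : k ''ᵁ (W₀ ⊓ W₁) = k ''ᵁ W₀ ⊓ k ''ᵁ W₁ :=
    Opens.ext (Set.image_inter k.isOpenEmbedding.injective)
  refine ⟨k ''ᵁ W₀, k ''ᵁ W₁, Opens.ext ?_, hW₀.image_of_isOpenImmersion k, hW₁.image_of_isOpenImmersion k,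
    hinf ▸ hW.image_of_isOpenImmersion k, fun r => ?_⟩
  · show (k : _ → X) '' W₀ ∪ (k : _ → X) '' W₁ = b ⁻¹' (U.1 : Set Y)
    have hc : ((W₀ : Set ↥(pullback g b)) ∪ (W₁ : Set ↥(pullback g b))) = Set.univ := by
      rw [← Opens.coe_sup, hcov]; rfl
    rw [← Set.image_union, hc, Set.image_univ,
      Scheme.Pullback.range_snd, U.2.range_fromSpec]
  · let r' : Γ(X, k ''ᵁ (W₀ ⊓ W₁)) := X.presheaf.map (homOfLE hinf.le).op r
    obtain ⟨a, c, hac⟩ := hsplit ((k.appIso _).hom r')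
    refine ⟨(k.appIso W₀).inv a, (k.appIso W₁).inv c, ?_⟩
    have e0 := congr($(k.appIso_inv_naturality (U := W₀) (V := W₀ ⊓ W₁) (homOfLE inf_le_left).op) a)
    have e1 := congr($(k.appIso_inv_naturality (U := W₁) (V := W₀ ⊓ W₁) (homOfLE inf_le_right).op) c)
    simp only [CommRingCat.comp_apply] at e0 e1
    have hsum := congrArg (k.appIso (W₀ ⊓ W₁)).inv hac
    rw [map_add, e0, e1, Iso.hom_inv_id_apply] at hsum
    haveI : IsIso (homOfLE hinf.le) := ⟨homOfLE hinf.ge, Subsingleton.elim _ _, Subsingleton.elim _ _⟩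
    refine (ConcreteCategory.bijective_of_isIso (X.presheaf.map (homOfLE hinf.le).op)).1 ?_
    rw [map_add, res_res, res_res]
    exact hsum

/-- Two compatible sections glue. -/
theorem exists_glue_pair (V₀ V₁ W : X.Opens) (h0 : V₀ ≤ W) (h1 : V₁ ≤ W) (hcov : W ≤ V₀ ⊔ V₁)
    (s₀ : Γ(X, V₀)) (s₁ : Γ(X, V₁))
    (h : X.presheaf.map (homOfLE (inf_le_left : V₀ ⊓ V₁ ≤ V₀)).op s₀ =
      X.presheaf.map (homOfLE (inf_le_right : V₀ ⊓ V₁ ≤ V₁)).op s₁) :
    ∃ s : Γ(X, W), X.presheaf.map (homOfLE h0).op s = s₀ ∧ X.presheaf.map (homOfLE h1).op s = s₁ := by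
  let V : ULift.{u} Bool → X.Opens := fun i => cond i.down V₀ V₁
  have hle : ∀ i, V i ≤ W := fun i => by
    obtain ⟨⟨⟩⟩ := i
    exacts [h1, h0]
  let sf : ∀ i : ULift.{u} Bool, Γ(X, V i) := fun i =>
    match i with
    | ⟨true⟩ => s₀
    | ⟨false⟩ => s₁
  obtain ⟨s, hs, -⟩ := X.sheaf.existsUnique_gluing' V W (fun i => homOfLE (hle i))
    (fun x hx => by
      rcases hcov hx with hx | hx
      · exact Opens.mem_iSup.2 ⟨⟨true⟩, hx⟩
      · exact Opens.mem_iSup.2 ⟨⟨false⟩, hx⟩)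
    sf (fun i j => by
      obtain ⟨i⟩ := i
      obtain ⟨j⟩ := j
      cases i <;> cases j
      · rfl
      · have h' := congrArg (X.presheaf.map (homOfLE (show V₁ ⊓ V₀ ≤ V₀ ⊓ V₁ from inf_comm (a := V₁) (b := V₀) ▸ le_rfl)).op) h
        rw [res_res, res_res] at h'
        exact h'.symm
      · exact h
      · rfl)
  exact ⟨s, hs ⟨true⟩, hs ⟨false⟩⟩

end Groth.L05.PtSeq
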