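import Groth.Agent.L05.PtSeq.PointIdeal
import Groth.Agent.L05.PtSeq.TwoCharts
import Mathlib.RingTheory.Ideal.Quotient.Operations

/-!
# Global approximation on a point blow-up
-/

set_option autoImplicit false
set_option linter.style.haveILetI false
set_option backward.isDefEq.respectTransparency false

universe u

open CategoryTheory CategoryTheory.Limits AlgebraicGeometry TopologicalSpace
open Groth.L22 IsLocalRing
open Groth.L03.BlowPt (ptI exc eι)

noncomputable section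

namespace Groth.L05.PtSeq

variable {X Y : Scheme.{u}}

theorem isMaximal_primeIdealOf (V : X.affineOpens) {z : X} (hzV : z ∈ V.1) (hz : IsClosed ({z} : Set X)) :
    (V.2.primeIdealOf ⟨z, hzV⟩).asIdeal.IsMaximal := by
  rw [← Groth.L03.BlowPt.ideal_ptI hz V hzV]
  exact Groth.L03.BlowPt.isMaximal_ptI hz V hzV

theorem exists_inv_mod_pow {A : Type u} [CommRing A] {P : Ideal A} (hP : P.IsMaximal) {s : A} (hs : s ∉ P)
    (n : ℕ) : ∃ v, v * s - 1 ∈ P ^ n := by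
  obtain ⟨v, q, hq, hv⟩ := hP.exists_inv hs
  have h : IsCoprime (Ideal.span {s}) (P ^ n) := by
    refine IsCoprime.pow_right ?_
    exact Ideal.isCoprime_iff_exists.2 ⟨v * s, Ideal.mem_span_singleton'.2 ⟨v, rfl⟩, q, hq, hv⟩
  obtain ⟨a, ha, b, hb, hab⟩ := Ideal.isCoprime_iff_exists.1 h
  obtain ⟨w, rfl⟩ := Ideal.mem_span_singleton'.1 ha
  refine ⟨w, ?_⟩
  rw [show w * s - 1 = -b by linear_combination hab]
  exact neg_mem hb

theorem germ_mem_maximal_pow (V : X.affineOpens) {z : X} (hzV : z ∈ V.1) (n : ℕ) {a : Γ(X, V.1)}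
    (ha : a ∈ (V.2.primeIdealOf ⟨z, hzV⟩).asIdeal ^ n) :
    X.presheaf.germ V.1 z hzV a ∈ maximalIdeal (X.presheaf.stalk z) ^ n := by
  letI : Algebra Γ(X, V.1) (X.presheaf.stalk z) := (X.presheaf.germ V.1 z hzV).hom.toAlgebra
  haveI : IsLocalization.AtPrime (X.presheaf.stalk z) (V.2.primeIdealOf ⟨z, hzV⟩).asIdeal :=
    V.2.isLocalization_stalk ⟨z, hzV⟩
  rw [← IsLocalization.AtPrime.map_eq_maximalIdeal (V.2.primeIdealOf ⟨z, hzV⟩).asIdeal (X.presheaf.stalk z),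
    ← Ideal.map_pow]
  exact Ideal.mem_map_of_mem _ ha

theorem exists_section_approx (V : X.affineOpens) (K L : X.IdealSheafData) (S : Finset X)
    (hV : ∀ z ∈ S, z ∈ V.1) (hcl : ∀ z ∈ S, IsClosed ({z} : Set X))
    (hpow : ∀ z ∈ S, ∃ n, maximalIdeal (X.presheaf.stalk z) ^ n * stI K z ≤ stI L z)
    (u : ∀ z : X, X.presheaf.stalk z) (hu : ∀ z ∈ S, u z ∈ stI K z) :
    ∃ c ∈ K.ideal V, ∀ (z : X) (hz : z ∈ S), X.presheaf.germ V.1 z (hV z hz) c - u z ∈ stI L z := by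
  classical
  let p : S → Ideal Γ(X, V.1) := fun z => (V.2.primeIdealOf ⟨z.1, hV z.1 z.2⟩).asIdeal
  have hmax : ∀ z : S, (p z).IsMaximal := fun z => isMaximal_primeIdealOf V _ (hcl z.1 z.2)
  have hfrac : ∀ z : S, ∃ a ∈ K.ideal V, ∃ s ∉ p z,
      u z.1 * X.presheaf.germ V.1 z.1 (hV z.1 z.2) s = X.presheaf.germ V.1 z.1 (hV z.1 z.2) a := by
    intro z
    letI : Algebra Γ(X, V.1) (X.presheaf.stalk z.1) := (X.presheaf.germ V.1 z.1 (hV z.1 z.2)).hom.toAlgebra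
    haveI : IsLocalization.AtPrime (X.presheaf.stalk z.1) (p z) := V.2.isLocalization_stalk ⟨z.1, hV z.1 z.2⟩
    have h := hu z.1 z.2
    rw [stI_eq _ V (hV z.1 z.2)] at h
    obtain ⟨⟨⟨a, ha⟩, ⟨s, hs⟩⟩, has⟩ := (IsLocalization.mem_map_algebraMap_iff (p z).primeCompl _).1 h
    exact ⟨a, ha, s, hs, has⟩
  choose a ha s hs has using hfrac
  choose n hn using fun z : S => hpow z.1 z.2
  choose v hv using fun z : S => exists_inv_mod_pow (hmax z) (hs z) (n z)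
  have hco : Pairwise (Function.onFun IsCoprime fun z : S => p z ^ n z) := fun z w hzw => by
    refine IsCoprime.pow ?_
    refine Ideal.isCoprime_iff_sup_eq.2 ((hmax z).coprime_of_ne (hmax w) fun he => hzw ?_)
    have h1 : V.2.primeIdealOf ⟨z.1, hV z.1 z.2⟩ = V.2.primeIdealOf ⟨w.1, hV w.1 w.2⟩ := PrimeSpectrum.ext he
    exact Subtype.ext (by
      rw [← V.2.fromSpec_primeIdealOf ⟨z.1, hV z.1 z.2⟩, h1, V.2.fromSpec_primeIdealOf])
  choose r hr using fun z : S => Ideal.exists_forall_sub_mem_ideal hco (fun w => if w = z then v z else 0)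
  refine ⟨∑ z, r z * a z, Ideal.sum_mem _ fun z _ => Ideal.mul_mem_left _ _ (ha z), fun z hz => ?_⟩
  let zz : S := ⟨z, hz⟩
  let φ := (X.presheaf.germ V.1 z (hV z hz)).hom
  show φ (∑ w, r w * a w) - u z ∈ stI L z
  rw [map_sum, Finset.sum_eq_add_sum_sdiff_singleton_of_mem (Finset.mem_univ zz), add_sub_right_comm]
  refine Ideal.add_mem _ ?_ (Ideal.sum_mem _ fun w hw => ?_)
  · have h1 : s zz * r zz - 1 ∈ p zz ^ n zz := by
      have := hr zz zz
      rw [if_pos rfl] at this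
      rw [show s zz * r zz - 1 = s zz * (r zz - v zz) + (v zz * s zz - 1) by ring]
      exact Ideal.add_mem _ (Ideal.mul_mem_left _ _ this) (hv zz)
    rw [map_mul, show φ (a zz) = u z * φ (s zz) from (has zz).symm,
      show φ (r zz) * (u z * φ (s zz)) - u z = φ (s zz * r zz - 1) * u z by rw [map_sub, map_mul, map_one]; ring]
    exact hn zz (Ideal.mul_mem_mul (germ_mem_maximal_pow V (hV z hz) _ h1) (hu z hz))
  · have hwz : w ≠ zz := fun e => by simp [e] at hw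
    have := hr w zz
    rw [if_neg (Ne.symm hwz), sub_zero] at this
    rw [map_mul]
    refine hn zz (Ideal.mul_mem_mul (germ_mem_maximal_pow V (hV z hz) _ this) ?_)
    rw [stI_eq _ V (hV z hz)]
    exact Ideal.mem_map_of_mem _ (ha w)

theorem germ_mem_stI (K : X.IdealSheafData) (V : X.affineOpens) {z : X} (hz : z ∈ V.1) {c : Γ(X, V.1)}
    (hc : c ∈ K.ideal V) : X.presheaf.germ V.1 z hz c ∈ stI K z := by
  rw [stI_eq _ V hz]; exact Ideal.mem_map_of_mem _ hc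

/-- Prescribed values of a multiple of the exceptional divisor modulo the total transform come from the base. -/
theorem exists_global [AlgebraicGeometry.IsNoetherian Y] [AlgebraicGeometry.IsNoetherian X] {b : X ⟶ Y}
    {y : Y} {hy : IsClosed ({y} : Set Y)} (h : IsPtBlow b y hy) (U : Y.affineOpens) (f : Fin 2 → Γ(Y, U.1))
    (hU : (ptI hy).ideal U = Groth.L11.BlowSmooth.sI f) {I : Y.IdealSheafData} {J : X.IdealSheafData}
    (hJ : PtSupp J) (d : ℕ) (hprod : exc hy b ^ d * J = I.comap b)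
    (u : ∀ z : X, X.presheaf.stalk z) (hu : ∀ z, u z ∈ stI (exc hy b ^ d) z) :
    ∃ a : Γ(Y, U.1), ∀ (z : X) (hz : b z ∈ U.1), z ∈ (J.support : Set X) →
      X.presheaf.germ (b ⁻¹ᵁ U.1) z hz (b.app U.1 a) - u z ∈ stI (I.comap b) z := by
  classical
  obtain ⟨V₀, V₁, hcov, hV₀, hV₁, hV, hsplit⟩ := h.exists_two_charts U f hU
  let K := exc hy b ^ d
  let L := I.comap b
  have hLK : ∀ z, stI L z = stI K z * stI J z := fun z => by
    show stI (I.comap b) z = _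
    rw [← hprod, stI_mul]
  have h0 : V₀ ≤ b ⁻¹ᵁ U.1 := le_sup_left.trans hcov.le
  have h1 : V₁ ≤ b ⁻¹ᵁ U.1 := le_sup_right.trans hcov.le
  let S : X.Opens → Finset X := fun V => hJ.finite.toFinset.filter (· ∈ V)
  have key : ∀ (V : X.Opens) (hVa : IsAffineOpen V), ∃ c ∈ K.ideal ⟨V, hVa⟩,
      ∀ (z : X) (hz : z ∈ V), z ∈ (J.support : Set X) → X.presheaf.germ V z hz c - u z ∈ stI L z := by
    intro V hVa
    obtain ⟨c, hc, hc'⟩ := exists_section_approx ⟨V, hVa⟩ K L (S V) (fun z hz => (Finset.mem_filter.1 hz).2)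
      (fun z hz => (hJ z (by simpa using (Finset.mem_filter.1 hz).1)).1)
      (fun z hz => by
        obtain ⟨n, hn⟩ := hJ.exists_pow_le (z := z) (by simpa using (Finset.mem_filter.1 hz).1)
        exact ⟨n, by rw [hLK, mul_comm (stI K z)]; exact Ideal.mul_mono_left hn⟩)
      u (fun z _ => hu z)
    exact ⟨c, hc, fun z hz hzJ => hc' z (Finset.mem_filter.2 ⟨by simpa using hzJ, hz⟩)⟩
  obtain ⟨c₀, hc₀, hc₀'⟩ := key V₀ hV₀
  obtain ⟨c₁, hc₁, hc₁'⟩ := key V₁ hV₁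
  let V := V₀ ⊓ V₁
  let ρ₀ := (X.presheaf.map (homOfLE (inf_le_left : V ≤ V₀)).op).hom
  let ρ₁ := (X.presheaf.map (homOfLE (inf_le_right : V ≤ V₁)).op).hom
  have hdiff : ρ₀ c₀ - ρ₁ c₁ ∈ L.ideal ⟨V, hV⟩ := by
    refine mem_ideal_of_forall_stI ⟨V, hV⟩ _ fun z hz => ?_
    have e0 : X.presheaf.germ V z hz (ρ₀ c₀) = X.presheaf.germ V₀ z hz.1 c₀ :=
      TopCat.Presheaf.germ_res_apply X.presheaf _ _ _ _
    have e1 : X.presheaf.germ V z hz (ρ₁ c₁) = X.presheaf.germ V₁ z hz.2 c₁ :=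
      TopCat.Presheaf.germ_res_apply X.presheaf _ _ _ _
    rw [map_sub, e0, e1]
    by_cases hzJ : z ∈ (J.support : Set X)
    · have := Ideal.sub_mem _ (hc₀' z hz.1 hzJ) (hc₁' z hz.2 hzJ)
      rwa [sub_sub_sub_cancel_right] at this
    · rw [hLK, (stI_eq_top_iff J z).2 hzJ, Ideal.mul_top]
      exact Ideal.sub_mem _ (germ_mem_stI K ⟨V₀, hV₀⟩ hz.1 hc₀) (germ_mem_stI K ⟨V₁, hV₁⟩ hz.2 hc₁)
  have hsplitL : ∀ x ∈ L.ideal ⟨V, hV⟩, ∀ r, ∃ p ∈ L.ideal ⟨V₀, hV₀⟩, ∃ q ∈ L.ideal ⟨V₁, hV₁⟩,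
      ρ₀ p + ρ₁ q = r * x := by
    have hle : V ≤ b ⁻¹ᵁ U.1 := inf_le_left.trans h0
    intro x hx
    rw [show L.ideal ⟨V, hV⟩ = (I.ideal U).map (b.appLE U.1 V hle).hom from
      Ideals.comap_ideal b I U ⟨V, hV⟩ hle, Ideal.map] at hx
    induction hx using Submodule.span_induction with
    | mem w hw =>
      obtain ⟨i, hi, rfl⟩ := hw
      intro r
      obtain ⟨r₀, r₁, hr⟩ := hsplit r
      refine ⟨r₀ * b.appLE U.1 V₀ h0 i, ?_, r₁ * b.appLE U.1 V₁ h1 i, ?_, ?_⟩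
      · rw [show L.ideal ⟨V₀, hV₀⟩ = (I.ideal U).map (b.appLE U.1 V₀ h0).hom from
          Ideals.comap_ideal b I U ⟨V₀, hV₀⟩ h0]
        exact Ideal.mul_mem_left _ _ (Ideal.mem_map_of_mem _ hi)
      · rw [show L.ideal ⟨V₁, hV₁⟩ = (I.ideal U).map (b.appLE U.1 V₁ h1).hom from
          Ideals.comap_ideal b I U ⟨V₁, hV₁⟩ h1]
        exact Ideal.mul_mem_left _ _ (Ideal.mem_map_of_mem _ hi)
      · have e0 : ρ₀ (b.appLE U.1 V₀ h0 i) = b.appLE U.1 V hle i :=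
          congr($(Scheme.Hom.appLE_map b h0 (homOfLE (inf_le_left : V ≤ V₀)).op) i)
        have e1 : ρ₁ (b.appLE U.1 V₁ h1 i) = b.appLE U.1 V hle i :=
          congr($(Scheme.Hom.appLE_map b h1 (homOfLE (inf_le_right : V ≤ V₁)).op) i)
        rw [map_mul, map_mul, e0, e1, ← add_mul]
        exact congrArg (· * _) hr
    | zero => exact fun r => ⟨0, zero_mem _, 0, zero_mem _, by simp⟩
    | add w w' _ _ hw hw' =>
      intro r
      obtain ⟨p, hp, q, hq, h₁⟩ := hw r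
      obtain ⟨p', hp', q', hq', h₂⟩ := hw' r
      exact ⟨p + p', add_mem hp hp', q + q', add_mem hq hq',
        by rw [map_add, map_add, mul_add, ← h₁, ← h₂]; abel⟩
    | smul r' w _ hw =>
      intro r
      rw [smul_eq_mul, ← mul_assoc]
      exact hw _
  obtain ⟨p, hp, q, hq, hpq⟩ := hsplitL _ hdiff 1
  rw [one_mul] at hpq
  obtain ⟨s, hs₀, hs₁⟩ := exists_glue_pair V₀ V₁ (b ⁻¹ᵁ U.1) h0 h1 hcov.ge (c₀ - p) (c₁ + q) (by
    show ρ₀ (c₀ - p) = ρ₁ (c₁ + q)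
    rw [map_sub, map_add]
    linear_combination -hpq)
  haveI := h.isProper
  haveI := h.1
  haveI := Groth.L01.isDomain_of_regular (Y.presheaf.stalk y)
  obtain ⟨a, rfl⟩ := (Groth.L13.Contraction.bijective_app hy b (Groth.L03.RegularNormal.isIntegrallyClosed _)
    (fun hF => by
      have := ringKrullDim_eq_zero_of_isField hF
      rw [h.2.1] at this
      exact absurd this (by decide)) h.2.2 U.1).2 s
  refine ⟨a, fun z hz hzJ => ?_⟩
  rcases (Opens.mem_sup.1 (hcov.ge (show z ∈ b ⁻¹ᵁ U.1 from hz))) with hz0 | hz1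
  · rw [← TopCat.Presheaf.germ_res_apply X.presheaf (homOfLE h0) z hz0, hs₀, map_sub, sub_right_comm]
    exact Ideal.sub_mem _ (hc₀' z hz0 hzJ) (germ_mem_stI L ⟨V₀, hV₀⟩ hz0 hp)
  · rw [← TopCat.Presheaf.germ_res_apply X.presheaf (homOfLE h1) z hz1, hs₁, map_add, add_sub_right_comm]
    exact Ideal.add_mem _ (hc₁' z hz1 hzJ) (germ_mem_stI L ⟨V₁, hV₁⟩ hz1 hq)

end Groth.L05.PtSeq
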