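import Groth.Prelude.Def_ModelsG
import Groth.Agent.L05.PointBlowArith.Exceptional
import Groth.Agent.L05.PtSeq.StalkI
import Groth.Agent.L03.BlowPt.RegularUp
import Groth.Agent.L13.Contraction.Basic
import Groth.Agent.L13.BlowUp.Proper
import Groth.Agent.L16.Blow.Integral
import Groth.Agent.L22.FlatPullback
import Groth.Agent.L15.CohFlat
import Groth.Agent.L14.RegImmStalk.Stalk
import Mathlib.RingTheory.KrullDimension.Regular

/-!
# Sequences of contractions of exceptional curves and point blow-ups
-/

set_option autoImplicit false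
set_option linter.style.haveILetI false
set_option backward.isDefEq.respectTransparency false

universe u

open CategoryTheory CategoryTheory.Limits AlgebraicGeometry TopologicalSpace
open Models
open Groth.L11.BlowSmooth

noncomputable section

namespace Groth.L05.PtSeq

open Groth.L03.BlowPt (ptI exc eι)

variable {Y X : Scheme.{u}}

/-- `b` is the blow-up of a closed point whose local ring is regular of dimension two. -/
def IsPtBlow (b : X ⟶ Y) (y : Y) (hy : IsClosed ({y} : Set Y)) : Prop :=
  IsRegularLocalRing (Y.presheaf.stalk y) ∧ ringKrullDim (Y.presheaf.stalk y) = (2 : ℕ) ∧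
    BlowUp.IsBlowUp b (ptI hy)

theorem range_exc {b : X ⟶ Y} {y : Y} {hy : IsClosed ({y} : Set Y)} : Set.range (eι hy b) = b ⁻¹' {y} := by
  refine (Scheme.IdealSheafData.range_subschemeι _).trans ?_
  rw [show (exc hy b).support = (ptI hy).support.preimage b.continuous from
    Scheme.IdealSheafData.support_comap _ _]
  ext x
  show b x ∈ ((ptI hy).support : Set Y) ↔ b x = y
  simp [ptI]

namespace IsPtBlow

variable {b : X ⟶ Y} {y : Y} {hy : IsClosed ({y} : Set Y)} (h : IsPtBlow b y hy) [AlgebraicGeometry.IsNoetherian Y]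

include h

theorem isProper : IsProper b :=
  Groth.L13.BU.isProper_blowUp h.2.2 fun U =>
    haveI : IsNoetherianRing Γ(Y, U.1) := IsLocallyNoetherian.component_noetherian U
    IsNoetherian.noetherian _

theorem isNoetherian : AlgebraicGeometry.IsNoetherian X := by
  haveI := h.isProper
  haveI : IsLocallyNoetherian X := LocallyOfFiniteType.isLocallyNoetherian b
  haveI : CompactSpace X := QuasiCompact.compactSpace_of_compactSpace b
  exact ⟨⟩

omit [AlgebraicGeometry.IsNoetherian Y] in
theorem isIso_off : IsIso (b ∣_ (⟨{y}ᶜ, hy.isOpen_compl⟩ : Y.Opens)) := by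
  haveI := Groth.L22.Ideals.isIso_restrict_compl h.2.2
  refine Groth.L13.Contraction.isIso_restrict_mono b (C := (ptI hy).support.compl) ?_
  intro z hz hz'
  have h' : z ∈ ((ptI hy).support : Set Y) := hz'
  exact hz (by simpa [ptI] using h')

omit [AlgebraicGeometry.IsNoetherian Y] in
theorem isIso_stalkMap {z : X} (hz : b z ≠ y) : IsIso (b.stalkMap z) :=
  Groth.L22.Ideals.isIso_stalkMap h.2.2 z fun h' => hz (by
    have h'' : b z ∈ ((ptI hy).support : Set Y) := h'
    simpa [ptI] using h'')

theorem echart : Nonempty (Groth.L03.BlowPt.EChart hy b) :=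
  Groth.L03.BlowPt.exists_echart h.2.2 h.1 h.2.1

theorem regular {z : X} (hz : b z = y) : IsRegularLocalRing (X.presheaf.stalk z) := by
  obtain ⟨D⟩ := h.echart
  obtain ⟨e, rfl⟩ : z ∈ Set.range (eι hy b) := by rw [range_exc]; exact hz
  obtain ⟨i, w, rfl⟩ := D.q_cover e
  haveI := D.C_open i
  have hq : (D.q i ≫ eι hy b) w =
      D.C i (Spec.map (CommRingCat.ofHom (Groth.L03.BlowPt.ecMk D.f i)) w) := by
    rw [D.q_comp i, Scheme.Hom.comp_apply]
  rw [Scheme.Hom.comp_apply] at hq
  rw [hq]
  haveI : IsNoetherianRing Γ(Y, D.U.1) := IsLocallyNoetherian.component_noetherian D.U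
  let v := Spec.map (CommRingCat.ofHom (Groth.L03.BlowPt.ecMk D.f i)) w
  have hmem : sh D.f i (D.f i) ∈ v.asIdeal := by
    show Groth.L03.BlowPt.ecMk D.f i (sh D.f i (D.f i)) ∈ w.asIdeal
    rw [show Groth.L03.BlowPt.ecMk D.f i (sh D.f i (D.f i)) = 0 from
      Ideal.Quotient.eq_zero_iff_mem.2 (Ideal.mem_map_of_mem _ (Ideal.subset_span ⟨i, rfl⟩))]
    exact zero_mem _
  haveI := Groth.Agent.L13.BlowTwo.regular_chart D.f D.isMaximal D.qreg i v.asIdeal hmem
  exact IsRegularLocalRing.of_ringEquiv
    ((Spec.stalkIso _ v).commRingCatIsoToRingEquiv.symm.trans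
      (asIso ((D.C i).stalkMap v)).commRingCatIsoToRingEquiv.symm)

/-- The exceptional curve meets every fibre point; its closed points have local rings of dimension two. -/
theorem dim_closed {z : X} (hz : b z = y) (hcl : IsClosed ({z} : Set X)) :
    ringKrullDim (X.presheaf.stalk z) = (2 : ℕ) := by
  obtain ⟨D⟩ := h.echart
  haveI := D.isIntegral
  obtain ⟨e, rfl⟩ : z ∈ Set.range (eι hy b) := by rw [range_exc]; exact hz
  have hE : ringKrullDim ((exc hy b).subscheme.presheaf.stalk e) = 1 := by
    refine le_antisymm ((Groth.L15.CohFlat.ringKrullDim_stalk_le e).trans D.dim_eq.le) ?_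
    refine Groth.L22.LocalDim.one_le_dim_of_specializes (genericPoint_specializes e) fun he => ?_
    have hsub : Subsingleton (exc hy b).subscheme := ⟨fun a c => by
      have : ∀ a, a = e := fun a => (eι hy b).isClosedEmbedding.injective
        ((genericPoint_specializes a).map (eι hy b).continuous |>.mem_closed hcl (by
          show eι hy b (genericPoint _) = eι hy b e
          rw [he]) |> fun hh => hh)
      rw [this a, this c]⟩
    haveI : DiscreteTopology (exc hy b).subscheme := Subsingleton.discreteTopology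
    have h0 := topologicalKrullDim_zero_of_discreteTopology (exc hy b).subscheme
    rw [D.dim_eq] at h0
    exact absurd h0 (by norm_num)
  obtain ⟨U, hU⟩ := exists_affine (eι hy b e)
  obtain ⟨t, ht, hst⟩ := stI_isPrincipal h.2.2.1 (eι hy b e)
  haveI : IsClosedImmersion ((eι hy b) ∣_ U.1) :=
    IsZariskiLocalAtTarget.restrict (P := @IsClosedImmersion) inferInstance U.1
  have hk : RingHom.ker ((eι hy b).stalkMap e).hom = Ideal.span {t} := by
    rw [Groth.L14.RegImmStalk.ker_stalkMap (eι hy b) U.2 inferInstance e hU, ← hst, stI_eq _ U hU]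
    exact congrArg (Ideal.map _) (Scheme.IdealSheafData.ker_subschemeι_app _ U)
  have hq := (RingHom.quotientKerEquivOfSurjective ((eι hy b).stalkMap_surjective e))
  haveI := h.regular hz
  have hmem : t ∈ IsLocalRing.maximalIdeal (X.presheaf.stalk (eι hy b e)) := by
    by_contra hnm
    have h1 : stI (exc hy b) (eι hy b e) = ⊤ :=
      hst.trans (Ideal.span_singleton_eq_top.2 (IsLocalRing.notMem_maximalIdeal.1 hnm))
    refine (stI_eq_top_iff _ _).1 h1 ?_
    rw [← Scheme.IdealSheafData.range_subschemeι]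
    exact Set.mem_range_self e
  have h2 := ringKrullDim_quotient_span_singleton_succ_eq_ringKrullDim_of_mem_nonZeroDivisors ht hmem
  rw [ringKrullDim_eq_of_ringEquiv ((Ideal.quotEquivOfEq hk.symm).trans hq), hE] at h2
  rw [← h2]
  rfl

/-- The blow-up of a regular point of a surface contracts an exceptional curve of the first kind. -/
theorem exists_contraction : ∃ (E : Scheme.{u}) (ι : E ⟶ X) (_ : IsClosedImmersion ι),
    IsExcCurve ι ∧ IsContractionOf ι b := by
  obtain ⟨D⟩ := h.echart
  haveI := D.isIntegral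
  obtain ⟨hC, e, -, τ⟩ := Groth.L05.PointBlowArith.exists_exc_projLine hy b h.2.2 h.1 h.2.1 (eι hy b) range_exc
  refine ⟨_, eι hy b, inferInstance, ⟨hC, _, inferInstance, e, τ⟩, inferInstance, h.isProper, y, hy, ?_,
    h.1, h.2.1, h.2.2⟩
  rw [Scheme.Hom.comp_base, TopCat.coe_comp, Set.range_comp, range_exc, Set.image_preimage_eq_iff.2]
  rintro _ rfl
  exact ⟨eι hy b (genericPoint _), Groth.L03.BlowPt.eι_apply _⟩

end IsPtBlow

theorem isPtBlow_of_contraction {E : Scheme.{u}} {ι : E ⟶ X} {b : X ⟶ Y} (hb : IsContractionOf ι b) :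
    AlgebraicGeometry.IsNoetherian Y ∧ ∃ (y : Y) (hy : IsClosed ({y} : Set Y)), IsPtBlow b y hy := by
  obtain ⟨hN, -, y, hy, -, hr, hd, hbl⟩ := hb
  exact ⟨hN, y, hy, hr, hd, hbl⟩

theorem seq_step {Z : Scheme.{u}} [AlgebraicGeometry.IsNoetherian Y] {b : X ⟶ Y} {y : Y} {hy : IsClosed ({y} : Set Y)}
    (h : IsPtBlow b y hy) {r : Y ⟶ Z} (hr : IsContractionSeq r) : IsContractionSeq (b ≫ r) := by
  obtain ⟨E, ι, hι, hE, hb⟩ := h.exists_contraction
  exact IsContractionSeq.step ι b r hι hE hb hr

theorem seq_snoc {W : Scheme.{u}} [AlgebraicGeometry.IsNoetherian W] {r : X ⟶ Y} (hr : IsContractionSeq r) :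
    ∀ {b : Y ⟶ W} {w : W} {hw : IsClosed ({w} : Set W)}, IsPtBlow b w hw → IsContractionSeq (r ≫ b) := by
  induction hr with
  | iso e =>
    intro b w hw h
    have h' : IsPtBlow (e.hom ≫ b) w hw := ⟨h.1, h.2.1, Groth.L13.Contraction.isBlowUp_of_iso_source e h.2.2⟩
    simpa using seq_step h' (IsContractionSeq.iso (Iso.refl W))
  | step ι b₀ r₀ hι hE hb _ ih =>
    intro b w hw h
    rw [Category.assoc]
    exact IsContractionSeq.step ι b₀ _ hι hE hb (ih h)

theorem seq_id (Z : Scheme.{u}) : IsContractionSeq (𝟙 Z) := IsContractionSeq.iso (Iso.refl Z)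

theorem seq_iso_comp {Z W : Scheme.{u}} {r : Z ⟶ W} (hr : IsContractionSeq r) :
    ∀ (e : Y ≅ Z), IsContractionSeq (e.hom ≫ r) := by
  induction hr with
  | iso e' => exact fun e => IsContractionSeq.iso (e ≪≫ e')
  | step ι b₀ r₀ hι hE hb hr₀ _ =>
    intro e
    obtain ⟨hN, y, hy, h⟩ := isPtBlow_of_contraction hb
    rw [← Category.assoc]
    exact seq_step (y := y) (hy := hy) ⟨h.1, h.2.1, Groth.L13.Contraction.isBlowUp_of_iso_source e h.2.2⟩ hr₀

theorem seq_comp {Z : Scheme.{u}} {r : X ⟶ Y} (hr : IsContractionSeq r) :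
    ∀ {s : Y ⟶ Z}, IsContractionSeq s → IsContractionSeq (r ≫ s) := by
  induction hr with
  | iso e => exact fun hs => seq_iso_comp hs e
  | step ι b₀ r₀ hι hE hb _ ih =>
    intro s hs
    rw [Category.assoc]
    exact IsContractionSeq.step ι b₀ _ hι hE hb (ih hs)

/-- Contraction sequences pull effective Cartier ideals back to effective Cartier ideals. -/
theorem seq_isEffCartier_comap {r : X ⟶ Y} (hr : IsContractionSeq r) :
    ∀ {D : Y.IdealSheafData}, BlowUp.IsEffCartierIdeal D → BlowUp.IsEffCartierIdeal (D.comap r) := by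
  induction hr with
  | iso e => exact fun hD => Groth.L22.Ideals.isEffCartier_comap_of_flat e.hom hD
  | step ι b₀ r₀ hι hE hb _ ih =>
    intro D hD
    obtain ⟨hN, y, hy, h⟩ := isPtBlow_of_contraction hb
    rw [Scheme.IdealSheafData.comap_comp]
    exact Groth.L22.Ideals.isEffCartier_comap h.2.2 (ih hD)

theorem seq_isProper {r : X ⟶ Y} (hr : IsContractionSeq r) : IsProper r := by
  induction hr with
  | iso e => infer_instance
  | step ι b₀ r₀ hι hE hb _ ih =>
    haveI := ih
    haveI := hb.2.1
    infer_instance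

theorem seq_isNoetherian {r : X ⟶ Y} (hr : IsContractionSeq r) [AlgebraicGeometry.IsNoetherian Y] : AlgebraicGeometry.IsNoetherian X := by
  haveI := seq_isProper hr
  haveI : IsLocallyNoetherian X := LocallyOfFiniteType.isLocallyNoetherian r
  haveI : CompactSpace X := QuasiCompact.compactSpace_of_compactSpace r
  exact ⟨⟩

end Groth.L05.PtSeq
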