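import Groth.Agent.L05.PtSeq.DomData
import Groth.Agent.L05.PtSeq.Principal

/-!
# A principalised fraction forbids contracted points
-/

set_option autoImplicit false
set_option linter.style.haveILetI false
set_option backward.isDefEq.respectTransparency false

universe u

open CategoryTheory CategoryTheory.Limits AlgebraicGeometry TopologicalSpace IsLocalRing

noncomputable section

namespace Groth.L05.PtSeq

variable {X Y : Scheme.{u}}

theorem stalkMap_injective [IsIntegral X] [IsIntegral Y] (f : X ⟶ Y) (e : f (genericPoint X) = genericPoint Y)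
    (x : X) : Function.Injective (f.stalkMap x) := fun a b h => by
  apply IsFractionRing.injective (Y.presheaf.stalk (f x)) Y.functionField
  apply (Groth.L21.Curve.ffMap f e).injective
  rw [← Groth.L21.Curve.algebraMap_stalkMap f e x, ← Groth.L21.Curve.algebraMap_stalkMap f e x, h]

theorem stI_eq_span_pair {J : X.IdealSheafData} {V : X.Opens} (a b : Γ(X, V)) {t : X} (ht : t ∈ V)
    (h : stI J t = Ideal.span {X.presheaf.germ V t ht a, X.presheaf.germ V t ht b}) {z : Y} (g : Y ⟶ X)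
    (hz : g z = t) (hzV : z ∈ g ⁻¹ᵁ V) :
    stI (J.comap g) z = Ideal.span {Y.presheaf.germ (g ⁻¹ᵁ V) z hzV (g.app V a),
      Y.presheaf.germ (g ⁻¹ᵁ V) z hzV (g.app V b)} := by
  subst hz
  rw [stI_comap, h, Ideal.map_span, Set.image_pair]
  exact congrArg Ideal.span (congrArg₂ (fun p q => ({p, q} : Set _))
    (Scheme.Hom.germ_stalkMap_apply g V z hzV a) (Scheme.Hom.germ_stalkMap_apply g V z hzV b))

theorem germ_app_congr {W : Scheme.{u}} {p q : W ⟶ X} (h : p = q) (V : X.Opens) (η : W) (hp : η ∈ p ⁻¹ᵁ V)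
    (hq : η ∈ q ⁻¹ᵁ V) (s : Γ(X, V)) :
    W.presheaf.germ (p ⁻¹ᵁ V) η hp (p.app V s) = W.presheaf.germ (q ⁻¹ᵁ V) η hq (q.app V s) := by
  subst h; rfl

/-- The residue field of a closed point is integral over the sections of an affine neighbourhood of its image. -/
theorem isIntegralElem_evaluation (g : Y ⟶ X) [IsProper g] {z : Y} (hz : IsClosed ({z} : Set Y))
    (hgz : IsClosed ({g z} : Set X)) (V : X.affineOpens) (hzV : z ∈ g ⁻¹ᵁ V.1) (k : Y.residueField z) :
    ((Y.evaluation (g ⁻¹ᵁ V.1) z hzV).hom.comp (g.app V.1).hom).IsIntegralElem k := by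
  have hsurj : Function.Surjective (X.evaluation V.1 (g z) hzV) := by
    intro r
    obtain ⟨y, rfl⟩ := X.residue_surjective (g z) r
    letI : Algebra Γ(X, V.1) (X.presheaf.stalk (g z)) := (X.presheaf.germ V.1 (g z) hzV).hom.toAlgebra
    haveI : IsLocalization.AtPrime (X.presheaf.stalk (g z)) (V.2.primeIdealOf ⟨g z, hzV⟩).asIdeal :=
      V.2.isLocalization_stalk ⟨g z, hzV⟩
    obtain ⟨⟨a, s, hs⟩, hy⟩ := IsLocalization.surj (V.2.primeIdealOf ⟨g z, hzV⟩).asIdeal.primeCompl y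
    obtain ⟨v, hv⟩ := exists_inv_mod_pow (isMaximal_primeIdealOf V hzV hgz) hs 1
    refine ⟨a * v, ?_⟩
    have h1 : X.residue (g z) (X.presheaf.germ V.1 (g z) hzV (v * s - 1)) = 0 :=
      (IsLocalRing.residue_eq_zero_iff _).2 (by simpa using germ_mem_maximal_pow V hzV 1 hv)
    have h2 : y * X.presheaf.germ V.1 (g z) hzV s = X.presheaf.germ V.1 (g z) hzV a := hy
    show X.residue (g z) (X.presheaf.germ V.1 (g z) hzV (a * v)) = _
    rw [map_mul, map_mul, ← h2, map_mul, mul_assoc]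
    rw [map_sub, map_mul, map_one, map_sub, map_mul, map_one, sub_eq_zero] at h1
    rw [mul_comm (X.residue (g z) (X.presheaf.germ V.1 (g z) hzV s)), h1, mul_one]
  have hfin : (g.residueFieldMap z).hom.Finite := by
    rw [← IsFinite.SpecMap_iff]
    haveI : IsFinite (Spec.map (g.residueFieldMap z) ≫ X.fromSpecResidueField (g z)) := by
      rw [Scheme.Hom.SpecMap_residueFieldMap_fromSpecResidueField]
      exact isFinite_fromSpecResidueField g hz hgz
    haveI : IsClosedImmersion (X.fromSpecResidueField (g z)) :=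
      IsClosedImmersion.of_isPreimmersion _ (by rw [Scheme.range_fromSpecResidueField]; exact hgz)
    exact IsFinite.of_comp _ (X.fromSpecResidueField (g z))
  have h : ((g.residueFieldMap z).hom.comp (X.evaluation V.1 (g z) hzV).hom).Finite :=
    hfin.comp (RingHom.Finite.of_surjective _ hsurj)
  have he : (g.residueFieldMap z).hom.comp (X.evaluation V.1 (g z) hzV).hom =
      (Y.evaluation (g ⁻¹ᵁ V.1) z hzV).hom.comp (g.app V.1).hom :=
    RingHom.ext fun s => Scheme.evaluation_naturality_apply g z hzV s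
  exact he ▸ h.to_isIntegral k

/-- If the fraction `a/b` is principalised at `z`, no point over `z` lies over `η₀`. -/
theorem false_of_principal {W X' : Scheme.{u}} [IsIntegral W] [IsIntegral X'] [IsIntegral X] (f : Y ⟶ X)
    (g : X' ⟶ X) [IsProper g] (eg : g (genericPoint X') = genericPoint X) (q₁ : W ⟶ X') (q₂ : W ⟶ Y)
    (e₁ : q₁ (genericPoint W) = genericPoint X') (hq : q₁ ≫ g = q₂ ≫ f) (η : W)
    (hz : IsClosed ({q₁ η} : Set X')) {t : X} (ht : IsClosed ({t} : Set X)) (hzt : g (q₁ η) = t)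
    (V : X.affineOpens) (htV : t ∈ V.1) (a b : Γ(X, V.1)) (O : Y.Opens) (hO : q₂ η ∈ O) (c : Γ(Y, O))
    (hb : X.presheaf.germ V.1 t htV b ≠ 0)
    (heq : ∀ hV : q₂ η ∈ f ⁻¹ᵁ V.1, Y.presheaf.germ O _ hO c * Y.presheaf.germ (f ⁻¹ᵁ V.1) _ hV (f.app V.1 b) =
      Y.presheaf.germ (f ⁻¹ᵁ V.1) _ hV (f.app V.1 a))
    (hni : ∀ (hV : q₂ η ∈ f ⁻¹ᵁ V.1) (P : Polynomial Γ(X, V.1)), P.Monic →
        P.eval₂ ((Y.evaluation (f ⁻¹ᵁ V.1) _ hV).hom.comp (f.app V.1).hom) (Y.evaluation O _ hO c) ≠ 0)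
    (J : X.IdealSheafData)
    (hJ : stI J t = Ideal.span {X.presheaf.germ V.1 t htV a, X.presheaf.germ V.1 t htV b})
    (hC : BlowUp.IsEffCartierIdeal (J.comap g)) : False := by
  subst hzt
  have hV₂ : q₂ η ∈ f ⁻¹ᵁ V.1 := by
    show f (q₂ η) ∈ V.1
    rw [← Scheme.Hom.comp_apply, ← hq, Scheme.Hom.comp_apply]
    exact htV
  have hV₁ : q₁ η ∈ g ⁻¹ᵁ V.1 := htV
  let za := X'.presheaf.germ (g ⁻¹ᵁ V.1) (q₁ η) hV₁ (g.app V.1 a)
  let zb := X'.presheaf.germ (g ⁻¹ᵁ V.1) (q₁ η) hV₁ (g.app V.1 b)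
  have hzb : zb ≠ 0 := fun h0 => hb (stalkMap_injective g eg (q₁ η) (by
    rw [map_zero, Scheme.Hom.germ_stalkMap_apply g V.1 (q₁ η) hV₁ b]; exact h0))
  obtain ⟨e, -, he⟩ := stI_isPrincipal hC (q₁ η)
  rw [stI_eq_span_pair a b htV hJ g rfl hV₁] at he
  obtain ⟨u, hu⟩ := Ideal.mem_span_singleton.1 (he.le (Ideal.subset_span (Set.mem_insert za _)))
  obtain ⟨w, hw⟩ := Ideal.mem_span_singleton.1 (he.le (Ideal.subset_span (Set.mem_insert_of_mem za rfl)))
  change za = e * u at hu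
  change zb = e * w at hw
  obtain ⟨r, s, hrs⟩ := Ideal.mem_span_pair.1 (he.ge (Ideal.mem_span_singleton_self e))
  change r * za + s * zb = e at hrs
  have he0 : e ≠ 0 := fun h0 => hzb (by rw [hw, h0, zero_mul])
  have hone : r * u + s * w = 1 := mul_left_cancel₀ he0 (by rw [mul_one]; linear_combination hrs - r * hu - s * hw)
  let C := q₂.stalkMap η (Y.presheaf.germ O _ hO c)
  have hA : ∀ x : Γ(X, V.1), q₂.stalkMap η (Y.presheaf.germ (f ⁻¹ᵁ V.1) _ hV₂ (f.app V.1 x)) =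
      q₁.stalkMap η (X'.presheaf.germ (g ⁻¹ᵁ V.1) _ hV₁ (g.app V.1 x)) := fun x => by
    rw [Scheme.Hom.germ_stalkMap_apply, Scheme.Hom.germ_stalkMap_apply]
    exact germ_app_congr hq.symm V.1 η hV₂ hV₁ x
  have hCw : C * q₁.stalkMap η w = q₁.stalkMap η u := by
    have h1 := congrArg (q₂.stalkMap η) (heq hV₂)
    rw [map_mul, hA, hA] at h1
    change C * q₁.stalkMap η zb = q₁.stalkMap η za at h1
    rw [hu, hw, map_mul, map_mul] at h1
    have he' : q₁.stalkMap η e ≠ 0 := fun h0 => he0 (stalkMap_injective q₁ e₁ η (by rw [h0, map_zero]))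
    exact mul_left_cancel₀ he' (by linear_combination h1)
  let ρ₁ := q₁.residueFieldMap η
  let ρ₂ := q₂.residueFieldMap η
  let cb := Y.evaluation O (q₂ η) hO c
  have h₁ : ∀ y, W.residue η (q₁.stalkMap η y) = ρ₁ (X'.residue (q₁ η) y) := fun y =>
    (ConcreteCategory.congr_hom (Scheme.residue_residueFieldMap q₁ η) y).symm
  have h₂ : W.residue η C = ρ₂ cb :=
    (ConcreteCategory.congr_hom (Scheme.residue_residueFieldMap q₂ η) _).symm
  have hres : ρ₂ cb * ρ₁ (X'.residue _ w) = ρ₁ (X'.residue _ u) := by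
    rw [← h₁, ← h₁, ← h₂, ← map_mul, hCw]
  have hw0 : X'.residue (q₁ η) w ≠ 0 := fun h0 => by
    rw [h0, map_zero, mul_zero] at hres
    have hu0 : X'.residue (q₁ η) u = 0 := (map_eq_zero_iff _ ρ₁.hom.injective).1 hres.symm
    have := congrArg (X'.residue (q₁ η)) hone
    rw [map_add, map_mul, map_mul, h0, hu0, mul_zero, mul_zero, add_zero, map_one] at this
    exact zero_ne_one this
  let k := X'.residue (q₁ η) u / X'.residue (q₁ η) w
  have hk : ρ₁ k = ρ₂ cb := by
    show ρ₁.hom (_ / _) = _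
    rw [map_div₀, div_eq_iff ((map_ne_zero ρ₁.hom).2 hw0)]
    exact hres.symm
  obtain ⟨P, hP, hPk⟩ := isIntegralElem_evaluation g hz ht V hV₁ k
  refine hni hV₂ P hP ((map_eq_zero_iff _ ρ₂.hom.injective).1 ?_)
  have h3 := congrArg ρ₁.hom hPk
  rw [map_zero, Polynomial.hom_eval₂] at h3
  rw [Polynomial.hom_eval₂]
  refine Eq.trans ?_ h3
  congr 1
  · refine RingHom.ext fun x => ?_
    show ρ₂ (Y.residue _ (Y.presheaf.germ (f ⁻¹ᵁ V.1) _ hV₂ (f.app V.1 x))) =
      ρ₁ (X'.residue _ (X'.presheaf.germ (g ⁻¹ᵁ V.1) _ hV₁ (g.app V.1 x)))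
    rw [← h₁, ← hA]
    exact (ConcreteCategory.congr_hom (Scheme.residue_residueFieldMap q₂ η) _).symm
  · exact hk.symm

end Groth.L05.PtSeq
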