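import Groth.Agent.L05.PtSeq.Approx
import Mathlib.RingTheory.FiniteLength
import Mathlib.LinearAlgebra.Isomorphisms

/-!
# The colength drops under blowing up
-/

set_option autoImplicit false
set_option linter.style.haveILetI false
set_option backward.isDefEq.respectTransparency false

set_option maxHeartbeats 800000
universe u

open CategoryTheory CategoryTheory.Limits AlgebraicGeometry TopologicalSpace
open Groth.L22 IsLocalRing
open Groth.L03.BlowPt (ptI exc eι)

noncomputable section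

namespace Groth.L05.PtSeq

/-- A module over an algebra is at least as long over the base. -/
theorem length_le_restrict {A R M : Type u} [CommRing A] [CommRing R] [Algebra A R] [AddCommGroup M] [Module R M]
    [Module A M] [IsScalarTower A R M] : Module.length R M ≤ Module.length A M := by
  rw [← Module.length_top (R := R) (M := M), ← Module.length_top (R := A) (M := M)]
  exact (Submodule.length_le_length_restrictScalars A (⊤ : Submodule R M)).trans_eq (by rw [Submodule.restrictScalars_top])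

/-- Comparison of lengths by division, over the base. -/
theorem length_pi_lt {A : Type u} [CommRing A] {ι : Type u} [Fintype ι] (R : ι → Type u)
    [∀ i, CommRing (R i)] [∀ i, Algebra A (R i)] (s : ∀ i, R i) (hs : ∀ i, s i ∈ nonZeroDivisors (R i))
    (hnu : ∀ i, ¬ IsUnit (s i)) (J : ∀ i, Ideal (R i)) (Q : Type u) [CommRing Q] [Nontrivial Q] [Algebra A Q]
    (hπ : Function.Surjective (algebraMap A Q))
    (hker : ∀ a, algebraMap A Q a = 0 → ∀ i, algebraMap A (R i) a ∈ Ideal.span {s i} * J i)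
    (happrox : ∀ w : ∀ i, R i, ∃ a : A, ∀ i, algebraMap A (R i) a - w i * s i ∈ Ideal.span {s i} * J i)
    (hfin : Module.length A Q ≠ ⊤) :
    Module.length A (∀ i, R i ⧸ J i) < Module.length A Q := by
  classical
  rcases isEmpty_or_nonempty ι with h | ⟨⟨i₀⟩⟩
  · rw [Module.length_eq_zero]; exact Module.length_pos
  let M : Ideal A := ⨅ i, (Ideal.span {s i}).comap (algebraMap A (R i))
  have hM : ∀ a ∈ M, ∀ i, ∃ c, algebraMap A (R i) a = c * s i := fun a ha i => by
    obtain ⟨c, hc⟩ := Ideal.mem_span_singleton'.1 (Ideal.mem_comap.1 (Ideal.mem_iInf.1 ha i))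
    exact ⟨c, hc.symm⟩
  choose dv hdv using hM
  have hcancel : ∀ (i : ι) {c c' : R i}, c * s i = c' * s i → c = c' := fun i c c' hcc =>
    sub_eq_zero.1 ((mem_nonZeroDivisors_iff.1 (hs i)).2 (c - c') (by rw [sub_mul, hcc, sub_self]))
  let ψ : ↥M →ₗ[A] ∀ i, R i ⧸ J i :=
    LinearMap.pi fun i =>
      { toFun := fun a => Ideal.Quotient.mk _ (dv a.1 a.2 i)
        map_add' := fun a a' => by
          rw [← map_add]
          refine congrArg _ (hcancel i ?_)
          rw [add_mul, ← hdv, ← hdv, ← hdv]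
          exact map_add _ _ _
        map_smul' := fun r a => by
          rw [RingHom.id_apply, Algebra.smul_def (A := R i ⧸ J i),
            show algebraMap A (R i ⧸ J i) r = Ideal.Quotient.mk _ (algebraMap A (R i) r) from rfl, ← map_mul]
          refine congrArg _ (hcancel i ?_)
          rw [mul_assoc, ← hdv, ← hdv]
          exact map_mul _ _ _ }
  have hψ : Function.Surjective ψ := by
    intro w
    choose w' hw' using fun i => Ideal.Quotient.mk_surjective (w i)
    obtain ⟨a, ha⟩ := happrox w'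
    have key : ∀ i, ∃ e ∈ J i, algebraMap A (R i) a = (w' i + e) * s i := fun i => by
      obtain ⟨e, he, hee⟩ := Ideal.mem_span_singleton_mul.1 (ha i)
      exact ⟨e, he, by rw [add_mul, mul_comm e, hee, add_sub_cancel]⟩
    have haM : a ∈ M := Ideal.mem_iInf.2 fun i => by
      obtain ⟨e, -, he⟩ := key i
      rw [Ideal.mem_comap, he]
      exact Ideal.mem_span_singleton'.2 ⟨_, rfl⟩
    refine ⟨⟨a, haM⟩, funext fun i => ?_⟩
    obtain ⟨e, he, hae⟩ := key i
    show Ideal.Quotient.mk _ (dv a haM i) = w i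
    rw [hcancel i ((hdv a haM i).symm.trans hae), map_add, Ideal.Quotient.eq_zero_iff_mem.2 he, add_zero, hw']
  let θ : ↥M →ₗ[A] Q := (Algebra.linearMap A Q).comp M.subtype
  have hθker : LinearMap.ker θ ≤ LinearMap.ker ψ := fun a ha => by
    refine LinearMap.mem_ker.2 (funext fun i => Ideal.Quotient.eq_zero_iff_mem.2 ?_)
    obtain ⟨e, he, hee⟩ := Ideal.mem_span_singleton_mul.1 (hker a.1 (LinearMap.mem_ker.1 ha) i)
    rwa [hcancel i (show dv a.1 a.2 i * s i = e * s i by rw [← hdv, ← hee, mul_comm])]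
  have hle : Module.length A (∀ i, R i ⧸ J i) ≤ Module.length A ↥(LinearMap.range θ) := by
    rw [← θ.quotKerEquivRange.length_eq]
    refine Module.length_le_of_surjective (Submodule.liftQ _ ψ hθker) fun w => ?_
    obtain ⟨a, ha⟩ := hψ w
    exact ⟨Submodule.Quotient.mk a, ha⟩
  refine hle.trans_lt ?_
  obtain ⟨_, _⟩ := isFiniteLength_iff_isNoetherian_isArtinian.1 (Module.length_ne_top_iff.1 hfin)
  refine Submodule.length_lt fun hN => ?_
  obtain ⟨m, hm⟩ : (1 : Q) ∈ LinearMap.range θ := hN.ge Submodule.mem_top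
  have hm1 : algebraMap A Q m.1 = 1 := hm
  have h2 := hker (1 - m.1) (by rw [map_sub, map_one, hm1, sub_self]) i₀
  have h3 : (1 : R i₀) ∈ Ideal.span {s i₀} := by
    rw [← map_one (algebraMap A (R i₀)), show (1 : A) = (1 - m.1) + m.1 by ring, map_add]
    exact Ideal.add_mem _ (Ideal.mul_le_left h2) (Ideal.mem_iInf.1 m.2 i₀)
  exact hnu i₀ (isUnit_of_dvd_one (Ideal.mem_span_singleton.1 h3))

/-- Comparison of lengths by division. -/
theorem sum_length_lt {A : Type u} [CommRing A] {ι : Type u} [Fintype ι] (R : ι → Type u)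
    [∀ i, CommRing (R i)] [∀ i, Algebra A (R i)] (s : ∀ i, R i) (hs : ∀ i, s i ∈ nonZeroDivisors (R i))
    (hnu : ∀ i, ¬ IsUnit (s i)) (J : ∀ i, Ideal (R i)) (Q : Type u) [CommRing Q] [Nontrivial Q] [Algebra A Q]
    (hπ : Function.Surjective (algebraMap A Q))
    (hker : ∀ a, algebraMap A Q a = 0 → ∀ i, algebraMap A (R i) a ∈ Ideal.span {s i} * J i)
    (happrox : ∀ w : ∀ i, R i, ∃ a : A, ∀ i, algebraMap A (R i) a - w i * s i ∈ Ideal.span {s i} * J i)
    (hfin : Module.length A Q ≠ ⊤) :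
    ∑ i, Module.length (R i) (R i ⧸ J i) < Module.length A Q := by
  refine lt_of_le_of_lt ?_ (length_pi_lt R s hs hnu J Q hπ hker happrox hfin)
  rw [Module.length_pi_of_fintype]
  exact Finset.sum_le_sum fun i _ => length_le_restrict

variable {X Y : Scheme.{u}} [AlgebraicGeometry.IsNoetherian Y] [AlgebraicGeometry.IsNoetherian X] {b : X ⟶ Y}
  {y : Y} {hy : IsClosed ({y} : Set Y)}

theorem exists_surjective_quot {U : Y.affineOpens} (hyU : y ∈ U.1) (hy : IsClosed ({y} : Set Y))
    (I : Y.IdealSheafData) {n : ℕ} (hn : maximalIdeal (Y.presheaf.stalk y) ^ n ≤ stI I y) :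
    Function.Surjective ((Ideal.Quotient.mk (stI I y)).comp (Y.presheaf.germ U.1 y hyU).hom) := by
  intro q
  obtain ⟨v, rfl⟩ := Ideal.Quotient.mk_surjective q
  let γ := (Y.presheaf.germ U.1 y hyU).hom
  letI : Algebra Γ(Y, U.1) (Y.presheaf.stalk y) := γ.toAlgebra
  haveI : IsLocalization.AtPrime (Y.presheaf.stalk y) (U.2.primeIdealOf ⟨y, hyU⟩).asIdeal :=
    U.2.isLocalization_stalk ⟨y, hyU⟩
  obtain ⟨⟨a, s, hs⟩, has⟩ := IsLocalization.surj (U.2.primeIdealOf ⟨y, hyU⟩).asIdeal.primeCompl v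
  obtain ⟨r, hr⟩ := exists_inv_mod_pow (isMaximal_primeIdealOf U hyU hy) hs n
  refine ⟨a * r, (Ideal.Quotient.mk_eq_mk_iff_sub_mem _ _).2 (hn ?_)⟩
  show γ (a * r) - v ∈ _
  rw [map_mul, show γ a = v * γ s from has.symm,
    show v * γ s * γ r - v = v * γ (r * s - 1) by rw [map_sub, map_mul, map_one]; ring]
  exact Ideal.mul_mem_left _ _ (germ_mem_maximal_pow U hyU n hr)

theorem germ_app_mem {I : Y.IdealSheafData} {U : Y.affineOpens} {z : X} (hz : b z = y) (hyU : y ∈ U.1)
    (a : Γ(Y, U.1)) (ha : Y.presheaf.germ U.1 y hyU a ∈ stI I y) :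
    X.presheaf.germ (b ⁻¹ᵁ U.1) z (show b z ∈ U.1 by rw [hz]; exact hyU) (b.app U.1 a) ∈ stI (I.comap b) z := by
  subst hz
  rw [stI_comap, ← Scheme.Hom.germ_stalkMap_apply]
  exact Ideal.mem_map_of_mem _ ha

theorem sum_len_lt (h : IsPtBlow b y hy) {I : Y.IdealSheafData} {J : X.IdealSheafData} (hI : PtSupp I)
    (hJ : PtSupp J) (hyI : y ∈ (I.support : Set Y)) {d : ℕ} (hd : 1 ≤ d)
    (hprod : exc hy b ^ d * J = I.comap b) :
    ∑ᶠ z ∈ {z | z ∈ (J.support : Set X) ∧ b z = y}, len J z < len I y := by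
  classical
  obtain ⟨D⟩ := h.echart
  have hT : {z | z ∈ (J.support : Set X) ∧ b z = y}.Finite := hJ.finite.subset fun z hz => hz.1
  rw [finsum_mem_eq_finite_toFinset_sum _ hT, ← Finset.sum_coe_sort]
  have hTm : ∀ z : hT.toFinset, z.1 ∈ (J.support : Set X) ∧ b z.1 = y := fun z => hT.mem_toFinset.1 z.2
  have hTU : ∀ z : hT.toFinset, b z.1 ∈ D.U.1 := fun z => by rw [(hTm z).2]; exact D.mem
  choose t ht htE using fun z : X => stI_isPrincipal h.2.2.1 z
  have hL : ∀ z, stI (I.comap b) z = Ideal.span {t z ^ d} * stI J z := fun z => by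
    rw [← hprod, stI_mul, stI_pow, show stI (exc hy b) z = Ideal.span {t z} from htE z, Ideal.span_singleton_pow]
  obtain ⟨n, hn⟩ := hI.exists_pow_le hyI
  have hπ := exists_surjective_quot D.mem hy I hn
  letI algQ : Algebra Γ(Y, D.U.1) (Y.presheaf.stalk y ⧸ stI I y) :=
    ((Ideal.Quotient.mk (stI I y)).comp (Y.presheaf.germ D.U.1 y D.mem).hom).toAlgebra
  letI algT : ∀ z : hT.toFinset, Algebra Γ(Y, D.U.1) (X.presheaf.stalk z.1) := fun z =>
    ((X.presheaf.germ (b ⁻¹ᵁ D.U.1) z.1 (hTU z)).hom.comp (b.app D.U.1).hom).toAlgebra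
  haveI : Nontrivial (Y.presheaf.stalk y ⧸ stI I y) :=
    Ideal.Quotient.nontrivial_iff.2 fun e => (stI_eq_top_iff I y).1 e hyI
  have hlenA : Module.length Γ(Y, D.U.1) (Y.presheaf.stalk y ⧸ stI I y) = len I y := by
    rw [Module.length_eq_of_surjective (S := Γ(Y, D.U.1)) (R := Y.presheaf.stalk y ⧸ stI I y) hπ]
    exact (Module.length_eq_of_surjective (S := Y.presheaf.stalk y) (R := Y.presheaf.stalk y ⧸ stI I y)
      Ideal.Quotient.mk_surjective).symm
  rw [← hlenA]
  refine sum_length_lt (fun z : hT.toFinset => X.presheaf.stalk z.1) (fun z => t z.1 ^ d)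
    (fun z => pow_mem (ht z.1) d) (fun z hu => ?_) (fun z => stI J z.1) _ hπ (fun a ha z => ?_)
    (fun w => ?_) (by rw [hlenA]; exact hI.len_ne_top y)
  · have hE : stI (exc hy b) z.1 = ⊤ :=
      (htE z.1).trans (Ideal.span_singleton_eq_top.2 ((isUnit_pow_iff (by omega)).1 hu))
    refine (stI_eq_top_iff _ _).1 hE ?_
    rw [← Scheme.IdealSheafData.range_subschemeι, range_exc]
    exact (hTm z).2
  · have h1 := germ_app_mem (b := b) (hTm z).2 D.mem a (Ideal.Quotient.eq_zero_iff_mem.1 ha)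
    rw [hL] at h1
    exact h1
  · let u : ∀ z : X, X.presheaf.stalk z := fun z => if hz : z ∈ hT.toFinset then w ⟨z, hz⟩ * t z ^ d else 0
    have hu : ∀ z, u z ∈ stI (exc hy b ^ d) z := fun z => by
      rw [stI_pow, show stI (exc hy b) z = Ideal.span {t z} from htE z, Ideal.span_singleton_pow]
      by_cases hz : z ∈ hT.toFinset
      · simp only [u, dif_pos hz]; exact Ideal.mem_span_singleton'.2 ⟨_, rfl⟩
      · simp only [u, dif_neg hz]; exact zero_mem _
    obtain ⟨a, ha⟩ := exists_global h D.U D.f D.ideal_eq hJ d hprod u hu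
    refine ⟨a, fun z => ?_⟩
    have h1 := ha z.1 (hTU z) (hTm z).1
    rw [hL, show u z.1 = w z * t z.1 ^ d from dif_pos z.2] at h1
    exact h1

end Groth.L05.PtSeq
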