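import Groth.Agent.S7374
import Groth.Agent.L05.PtSeq.Invertible

/-!
# Sequences of point blow-ups of regular surfaces and the curves they contract
-/

set_option autoImplicit false
set_option linter.style.haveILetI false
set_option backward.isDefEq.respectTransparency false

universe u

open CategoryTheory CategoryTheory.Limits AlgebraicGeometry TopologicalSpace
open Groth.L03.BlowPt (ptI exc eι)
open Groth.L22
open Resolve

noncomputable section

namespace Groth.L05.PtSeq

/-- A regular integral curve in a scheme. -/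
structure Crv (W : Scheme.{u}) where
  /-- the curve -/
  C : Scheme.{u}
  /-- its embedding -/
  f : C ⟶ W
  isIntegral : IsIntegral C
  noeth : AlgebraicGeometry.IsNoetherian C
  dim : topologicalKrullDim C ≤ 1
  gen : ¬ IsClosed ({genericPoint C} : Set C)
  reg : ∀ c : C, IsRegularLocalRing (C.presheaf.stalk c)
  closedImm : IsClosedImmersion f

attribute [instance] Crv.isIntegral Crv.noeth Crv.closedImm

theorem Crv.gen_not_closed {W : Scheme.{u}} (K : Crv W) : ¬ IsClosed ({K.f (genericPoint K.C)} : Set W) :=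
  gen_not_closed_of_closedImm K.f K.gen

/-- A regular curve lifts to every sequence of point blow-ups. -/
theorem Crv.exists_lift {X' X : Scheme.{u}} [AlgebraicGeometry.IsNoetherian X] {G : X' ⟶ X} (hG : IsPtBlowupSeq G)
    (K : Crv X) : ∃ K' : Crv X', G (K'.f (genericPoint K'.C)) = K.f (genericPoint K.C) := by
  obtain ⟨f', hf'⟩ := Groth.L05.PtSeq.exists_lift hG K.dim K.reg K.f K.gen_not_closed
  haveI := (ptSeq_noetherian hG).2
  haveI : IsClosedImmersion (f' ≫ G) := by rw [hf']; infer_instance
  exact ⟨⟨K.C, f', K.isIntegral, K.noeth, K.dim, K.gen, K.reg, IsClosedImmersion.of_comp f' G⟩,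
    by rw [← hf']; rfl⟩

theorem isIso_of_center_dim_one {Y Z : Scheme.{u}} [IsIntegral Z] [IsLocallyNoetherian Z] {b : Y ⟶ Z} {z : Z}
    {hz : IsClosed ({z} : Set Z)} (hb : BlowUp.IsBlowUp b (ptI hz))
    (hreg : IsRegularLocalRing (Z.presheaf.stalk z)) (hd : ringKrullDim (Z.presheaf.stalk z) = 1) : IsIso b := by
  have hcart : BlowUp.IsEffCartierIdeal ((ptI hz).comap (𝟙 Z)) := by
    rw [Scheme.IdealSheafData.comap_id]
    refine Groth.L22.Div.isEffCartier_of_stalks _ fun x hx U hxU => ?_
    obtain rfl : x = z := by simpa [ptI] using hx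
    haveI := hreg
    haveI := Groth.L01.isDomain_of_regular (Z.presheaf.stalk x)
    haveI : IsPrincipalIdealRing (Z.presheaf.stalk x) := by
      refine ((tfae_of_isNoetherianRing_of_isLocalRing_of_isDomain (Z.presheaf.stalk x)).out 0 5).2 ?_
      have h := (IsRegularLocalRing.iff_finrank_cotangentSpace (R := Z.presheaf.stalk x)).1 inferInstance
      exact_mod_cast h.le.trans hd.le
    obtain ⟨t, ht⟩ := IsPrincipalIdealRing.principal (IsLocalRing.maximalIdeal (Z.presheaf.stalk x))
    rw [← stI_eq, stI_ptI]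
    refine ⟨t, ht, mem_nonZeroDivisors_of_ne_zero fun h0 => ?_⟩
    have hF : IsField (Z.presheaf.stalk x) := by
      rw [IsLocalRing.isField_iff_maximalIdeal_eq, ht, h0]
      exact Submodule.span_zero_singleton (R := Z.presheaf.stalk x)
    rw [ringKrullDim_eq_zero_of_isField hF] at hd
    exact absurd hd (by decide)
  obtain ⟨h, hh, -⟩ := hb.2 Z (𝟙 Z) hcart
  obtain ⟨_, -, huniq⟩ := hb.2 Y b hb.1
  refine ⟨h, ?_, hh⟩
  rw [huniq (b ≫ h) (by show (b ≫ h) ≫ b = b; rw [Category.assoc, hh, Category.comp_id]),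
    huniq (𝟙 Y) (Category.id_comp b)]

theorem dim_cases {Z : Scheme.{u}} [IsIntegral Z] (hZ : IsRegSurf Z) {z : Z} (hne : z ≠ genericPoint Z) :
    ringKrullDim (Z.presheaf.stalk z) = 1 ∨ ringKrullDim (Z.presheaf.stalk z) = (2 : ℕ) := by
  haveI := hZ.noeth
  have h1 := Groth.L03.BlowPt.Factor.dim_add_one_le (genericPoint_specializes z) (Ne.symm hne)
  rw [dim_stalk_genericPoint, zero_add] at h1
  have h2 := (Groth.L13.ModFibre.ringKrullDim_stalk_le_topologicalKrullDim z).trans hZ.dim
  generalize ringKrullDim (Z.presheaf.stalk z) = d at h1 h2 ⊢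
  cases d with
  | bot => exact absurd h1 (by decide)
  | coe d =>
    cases d with
    | top => exact absurd h2 (by decide)
    | coe d =>
      have ha : 1 ≤ d := by exact_mod_cast h1
      have hb : d ≤ 2 := ENat.coe_le_coe.1 (WithBot.coe_le_coe.1 h2)
      interval_cases d
      · exact Or.inl rfl
      · exact Or.inr rfl

/-- One step of a sequence of point blow-ups over a regular surface. -/
theorem step_cases {Y Z : Scheme.{u}} [IsIntegral Z] (hZ : IsRegSurf Z)
    (hgen : ∀ z : Z, IsClosed ({z} : Set Z) → z ≠ genericPoint Z) {b : Y ⟶ Z} {z : Z}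
    {hz : IsClosed ({z} : Set Z)} (hb : BlowUp.IsBlowUp b (ptI hz)) : IsIso b ∨ IsPtBlow b z hz := by
  haveI := hZ.noeth
  rcases dim_cases hZ (hgen z hz) with h | h
  · exact Or.inl (isIso_of_center_dim_one hb (hZ.reg z) h)
  · exact Or.inr ⟨hZ.reg z, h, hb⟩

theorem seq_surface_aux {X' X : Scheme.{u}} {G : X' ⟶ X} (hG : IsPtBlowupSeq G) :
    ∀ (_ : IsRegSurf X) [IsIntegral X], ¬ IsClosed ({genericPoint X} : Set X) →
      IsRegSurf X' ∧ Models.IsContractionSeq G := by
  induction hG with
  | @iso Y X e =>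
    intro hX _ hgen
    haveI := hX.noeth
    haveI : Nonempty Y := ⟨e.inv (genericPoint X)⟩
    haveI : IsIntegral Y := isIntegral_of_isOpenImmersion e.hom
    refine ⟨⟨inferInstance, (ptSeq_noetherian (IsPtBlowupSeq.iso e)).1, fun y => ?_, dim_le_of_stalks fun y => ?_⟩,
      Models.IsContractionSeq.iso e⟩
    · haveI := hX.reg (e.hom y)
      exact IsRegularLocalRing.of_ringEquiv (asIso (e.hom.stalkMap y)).commRingCatIsoToRingEquiv
    · rw [← ringKrullDim_eq_of_ringEquiv (asIso (e.hom.stalkMap y)).commRingCatIsoToRingEquiv]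
      exact (Groth.L15.CohFlat.ringKrullDim_stalk_le (e.hom y)).trans hX.dim
  | @step Y Z X b r z hz hb hr ih =>
    intro hX _ hgen
    haveI := hX.noeth
    obtain ⟨hZs, hrC⟩ := ih hX hgen
    haveI := hZs.integral; haveI := hZs.noeth
    obtain ⟨hiZ, -, -, -, hZgen⟩ := Groth.Agent.S7372.seq_data hr inferInstance hgen
    rcases step_cases hZs (fun a ha (e : a = genericPoint _) => hZgen (e ▸ ha)) hb with hiso | hpb
    · haveI := hiso
      haveI : Nonempty Y := ⟨inv b z⟩
      haveI : IsIntegral Y := isIntegral_of_isOpenImmersion b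
      refine ⟨⟨inferInstance, (ptSeq_noetherian (IsPtBlowupSeq.iso (asIso b))).1, fun y => ?_,
        dim_le_of_stalks fun y => ?_⟩, seq_iso_comp hrC (asIso b)⟩
      · haveI := hZs.reg (b y)
        exact IsRegularLocalRing.of_ringEquiv (asIso (b.stalkMap y)).commRingCatIsoToRingEquiv
      · rw [← ringKrullDim_eq_of_ringEquiv (asIso (b.stalkMap y)).commRingCatIsoToRingEquiv]
        exact (Groth.L15.CohFlat.ringKrullDim_stalk_le (b y)).trans hZs.dim
    · obtain ⟨-, -, hY, -⟩ := hZs.blowUp hpb
      exact ⟨hY, seq_step hpb hrC⟩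

/-- The invariants of a sequence of point blow-ups of a regular surface. -/
theorem seq_surface {X' X : Scheme.{u}} {G : X' ⟶ X} (hG : IsPtBlowupSeq G) :
    ∀ (hX : IsRegSurf X) [IsIntegral X], ¬ IsClosed ({genericPoint X} : Set X) →
      IsRegSurf X' ∧ Models.IsContractionSeq G ∧ ∃ (_ : IsIntegral X'), G (genericPoint X') = genericPoint X ∧
        ¬ IsClosed ({genericPoint X'} : Set X') := by
  intro hX hi hgen
  haveI := hX.noeth
  obtain ⟨hi', -, -, hbir, hgen'⟩ := Groth.Agent.S7372.seq_data hG inferInstance hgen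
  haveI := hi'
  obtain ⟨V, hV, hiso⟩ := hbir
  haveI := hiso
  obtain ⟨hGgen, -⟩ := ffMap_bijective G V hV
  obtain ⟨h1, h2⟩ := seq_surface_aux hG hX hgen
  exact ⟨h1, h2, hi', hGgen, hgen'⟩

/-- Contraction sequences are sequences of point blow-ups. -/
theorem contractionSeq_ptSeq {X' X : Scheme.{u}} {G : X' ⟶ X} (hG : Models.IsContractionSeq G) :
    IsPtBlowupSeq G := by
  induction hG with
  | iso e => exact IsPtBlowupSeq.iso e
  | step ι b r hι hE hb _ ih =>
    obtain ⟨-, y, hy, h⟩ := isPtBlow_of_contraction hb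
    exact IsPtBlowupSeq.step b r y hy h.2.2 ih

theorem regular_of_chart_pid {R : Type u} [CommRing R] [IsDomain R] [IsPrincipalIdealRing R] {W : Scheme.{u}}
    (q : Spec (CommRingCat.of R) ⟶ W) [IsOpenImmersion q] (w : Spec (CommRingCat.of R)) :
    IsRegularLocalRing (W.presheaf.stalk (q w)) := by
  let Q : Ideal R := w.asIdeal
  haveI : IsRegularLocalRing (Localization.AtPrime Q) := inferInstance
  exact IsRegularLocalRing.of_ringEquiv
    ((Spec.stalkIso (CommRingCat.of R) w).commRingCatIsoToRingEquiv.symm.trans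
      (asIso (q.stalkMap w)).commRingCatIsoToRingEquiv.symm)

theorem regular_exc {Y Z : Scheme.{u}} {b : Y ⟶ Z} {z : Z} {hz : IsClosed ({z} : Set Z)}
    (D : Groth.L03.BlowPt.EChart hz b) (c : (exc hz b).subscheme) :
    IsRegularLocalRing ((exc hz b).subscheme.presheaf.stalk c) := by
  obtain ⟨i, w, rfl⟩ := D.q_cover c
  haveI := D.q_open i
  haveI := D.isDomain i
  haveI := D.isPID i
  exact regular_of_chart_pid (D.q i) w

/-- The exceptional curve as a regular curve. -/
def IsPtBlow.excCrv {Y Z : Scheme.{u}} [AlgebraicGeometry.IsNoetherian Z] {b : Y ⟶ Z} {z : Z}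
    {hz : IsClosed ({z} : Set Z)} (h : IsPtBlow b z hz) : Crv Y where
  C := (exc hz b).subscheme
  f := eι hz b
  isIntegral := h.echart.some.isIntegral
  noeth := by
    haveI := h.isNoetherian
    haveI : IsLocallyNoetherian (exc hz b).subscheme := LocallyOfFiniteType.isLocallyNoetherian (eι hz b)
    haveI : CompactSpace (exc hz b).subscheme := QuasiCompact.compactSpace_of_compactSpace (eι hz b)
    exact ⟨⟩
  dim := h.echart.some.dim_eq.le
  gen := fun hcl => by
    haveI := h.echart.some.isIntegral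
    haveI : Subsingleton (exc hz b).subscheme := ⟨fun a c => ((genericPoint_specializes a).mem_closed hcl rfl).trans
      ((genericPoint_specializes c).mem_closed hcl rfl).symm⟩
    haveI : DiscreteTopology (exc hz b).subscheme := Subsingleton.discreteTopology
    have h1 := topologicalKrullDim_zero_of_discreteTopology (exc hz b).subscheme
    rw [h.echart.some.dim_eq] at h1
    exact absurd h1 (by norm_num)
  reg := regular_exc h.echart.some
  closedImm := inferInstance

theorem eq_of_not_center {Y Z : Scheme.{u}} {b : Y ⟶ Z} {z : Z} {hz : IsClosed ({z} : Set Z)}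
    (hb : BlowUp.IsBlowUp b (ptI hz)) {a c : Y} (ha : b a ≠ z) (hac : b a = b c) : a = c := by
  haveI := Groth.L22.Ideals.isIso_restrict_compl hb
  refine Groth.L05.RelMinExists.eq_of_isIso_restrict' b (ptI hz).support.compl ?_ hac
  show b a ∉ ((ptI hz).support : Set Z)
  rw [Groth.Agent.S7372.support_ptI]
  exact ha

theorem isClosed_of_isClosed_image {Y Z : Scheme.{u}} {b : Y ⟶ Z} {z : Z} {hz : IsClosed ({z} : Set Z)}
    (hb : BlowUp.IsBlowUp b (ptI hz)) {a : Y} (ha : b a ≠ z) (hcl : IsClosed ({b a} : Set Z)) :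
    IsClosed ({a} : Set Y) := by
  have h := hcl.preimage b.continuous
  rwa [show b ⁻¹' {b a} = {a} from Set.ext fun c =>
    ⟨fun e => (eq_of_not_center hb ha (Eq.symm e)).symm, fun e => congrArg b e⟩] at h

/-- The curves of the blown-up surface lying over closed points are regular curves. -/
theorem exists_crv_of_closed {X' X : Scheme.{u}} {G : X' ⟶ X} (hG : IsPtBlowupSeq G) :
    ∀ (hX : IsRegSurf X) [IsIntegral X], ¬ IsClosed ({genericPoint X} : Set X) →
      (∀ η : X', ¬ IsClosed ({η} : Set X') → IsClosed ({G η} : Set X) →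
        ∃ K : Crv X', K.f (genericPoint K.C) = η) ∧
      ∀ a c : X', ¬ IsClosed ({G a} : Set X) → G a = G c → a = c := by
  induction hG with
  | @iso Y X e =>
    intro _ _ _
    refine ⟨fun η hη hcl => absurd ?_ hη, fun a c _ h => e.hom.homeomorph.injective h⟩
    have h := hcl.preimage e.hom.continuous
    rwa [show e.hom ⁻¹' {e.hom η} = {η} from Set.ext fun c =>
      ⟨fun h => e.hom.homeomorph.injective h, fun h => congrArg e.hom h⟩] at h
  | @step Y Z X b r z hz hb hr ih =>
    intro hX _ hgen
    haveI := hX.noeth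
    obtain ⟨hZs, -, hiZ, -, hZgen⟩ := seq_surface hr hX hgen
    obtain ⟨ih1, ih2⟩ := ih hX hgen
    haveI := hZs.noeth
    haveI := (ptSeq_noetherian hr).2
    have hinj : ∀ a c : Y, ¬ IsClosed ({(b ≫ r) a} : Set X) → (b ≫ r) a = (b ≫ r) c → a = c := by
      intro a c hna hac
      have hne : b a ≠ z := fun e => hna (by
        have h := r.isClosedMap _ hz
        rw [Set.image_singleton, ← e, ← Scheme.Hom.comp_apply] at h
        exact h)
      exact eq_of_not_center hb hne (ih2 _ _ hna hac)
    refine ⟨fun η hη hcl => ?_, hinj⟩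
    by_cases hbη : b η = z
    · rcases step_cases hZs (fun a ha (e : a = genericPoint _) => hZgen (e ▸ ha)) hb with hiso | hpb
      · haveI := hiso
        refine absurd ?_ hη
        have h := hz.preimage b.continuous
        rwa [show b ⁻¹' {z} = {η} from Set.ext fun c =>
          ⟨fun h => b.homeomorph.injective (h.trans hbη.symm), fun h => (congrArg b h).trans hbη⟩] at h
      · haveI := hpb.isNoetherian
        obtain ⟨e, rfl⟩ : η ∈ Set.range (eι hz b) := by rw [range_exc]; exact hbη
        refine ⟨hpb.excCrv, ?_⟩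
        by_contra hne
        refine hη ?_
        rw [← Set.image_singleton]
        exact (eι hz b).isClosedMap _ (isClosed_of_ne_generic (C := hpb.excCrv.C) hpb.excCrv.dim
          fun he => hne (congrArg (eι hz b) he.symm))
    · obtain ⟨K, hK⟩ := ih1 (b η) (fun h => hη (isClosed_of_isClosed_image hb hbη h)) hcl
      obtain ⟨K', hK'⟩ := K.exists_lift (IsPtBlowupSeq.step b (𝟙 Z) z hz hb (IsPtBlowupSeq.iso (Iso.refl Z)))
      rw [Category.comp_id] at hK'
      exact ⟨K', (eq_of_not_center hb hbη (hK.symm.trans hK'.symm)).symm⟩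

end Groth.L05.PtSeq
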