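import Groth.Agent.L05.PtSeq.ValLift
import Groth.Agent.L05.PtSeq.Surface
import Groth.Agent.L22.BM.NormIso
import Groth.Agent.L21.Birational
import Groth.Agent.S11555

/-!
# Dominating modifications of normal surfaces by normalized point blow-ups
-/

set_option autoImplicit false
set_option linter.style.haveILetI false
set_option backward.isDefEq.respectTransparency false
set_option backward.isDefEq.respectTransparency.types false

universe u

open CategoryTheory CategoryTheory.Limits AlgebraicGeometry TopologicalSpace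
open Groth.L03.BlowPt (ptI exc)
open Groth.L22
open Resolve
open Groth.L05.MinDesing (IsBir isBir_comp)

noncomputable section

namespace Groth.L05.PtSeq

/-- Every modification has finite normalisation. -/
def FinNorm (X : Scheme.{u}) : Prop :=
  ∀ (Z : Scheme.{u}) [IsIntegral Z] [QuasiCompact (Z.fromSpecStalk (genericPoint Z))]
    [QuasiSeparated (Z.fromSpecStalk (genericPoint Z))] (g : Z ⟶ X),
    IsProper g → IsBir g → IsFinite (Curv2.normalizationι Z)

/-- A sequence of normalized blow-ups of a normal scheme. -/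
structure NModif {Z X : Scheme.{u}} (g : Z ⟶ X) : Prop where
  seq : IsNormPtBlowupSeq g
  integral : IsIntegral Z
  noeth : AlgebraicGeometry.IsNoetherian Z
  proper : IsProper g
  bir : IsBir g
  normal : Pi1.IsNormalScheme Z
  gen : ∀ [IsIntegral Z], ¬ IsClosed ({genericPoint Z} : Set Z)

theorem gen_not_closed_of_bir {Z X : Scheme.{u}} [IsIntegral Z] [IsIntegral X] (g : Z ⟶ X) [IsProper g]
    (hg : IsBir g) (hX : ¬ IsClosed ({genericPoint X} : Set X)) : ¬ IsClosed ({genericPoint Z} : Set Z) := fun h => by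
  obtain ⟨e, -⟩ := birational_data g hg
  refine hX ?_
  rw [← e, ← Set.image_singleton]
  exact g.isClosedMap _ h

theorem quasiCompact_fromSpecStalk_generic (Z : Scheme.{u}) [IsIntegral Z] :
    QuasiCompact (Z.fromSpecStalk (genericPoint Z)) :=
  (quasiCompact_iff _).2 fun U _ _ =>
    haveI : Subsingleton ↥(Spec (Z.presheaf.stalk (genericPoint Z))) :=
      inferInstanceAs (Subsingleton (PrimeSpectrum Z.functionField))
    Set.subsingleton_of_subsingleton.isCompact

/-- One normalized blow-up. -/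
theorem exists_step {X Z : Scheme.{u}} [IsIntegral X] [IsIntegral Z] (hX : FinNorm X) {g : Z ⟶ X} (hg : NModif g)
    {z : Z} (hz : IsClosed ({z} : Set Z)) :
    ∃ (N : Scheme.{u}) (π : N ⟶ Z), NModif (π ≫ g) ∧ IsProper π ∧ IsBir π ∧
      ∀ w : N, π w = z → ∃ t, stI ((ptI hz).comap π) w = Ideal.span {t} := by
  haveI := hg.noeth; haveI := hg.proper
  obtain ⟨Z', b, hb⟩ := Groth.L13.BU.exists_isBlowUp (ptI hz)
  obtain ⟨hi', hN', hbp, hbb, -, hgen'⟩ := Groth.Agent.S7372.step_data hg.gen b hz hb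
  haveI := hi'; haveI := hN'; haveI := hbp
  haveI := quasiCompact_fromSpecStalk_generic Z'
  haveI : IsFinite (Curv2.normalizationι Z') := hX Z' (b ≫ g) inferInstance (isBir_comp b g hbb hg.bir)
  obtain ⟨hiN, hnorm, -, hνgen, -⟩ := Groth.Agent.S2351.result Z'
  haveI := hiN
  haveI : IsLocallyNoetherian (Curv2.normalization Z') := LocallyOfFiniteType.isLocallyNoetherian (Curv2.normalizationι Z')
  haveI : CompactSpace (Curv2.normalization Z') := QuasiCompact.compactSpace_of_compactSpace (Curv2.normalizationι Z')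
  obtain ⟨W, hW, hiso⟩ := Groth.L22.BM.exists_isIso_normalizationι Z'
  have hνb : IsBir (Curv2.normalizationι Z') := ⟨W, hW, hiso⟩
  refine ⟨Curv2.normalization Z', Curv2.normalizationι Z' ≫ b,
    ⟨?_, hiN, ⟨⟩, inferInstance, ?_, hnorm, ?_⟩, inferInstance, isBir_comp _ b hνb hbb, fun w hw => ?_⟩
  · rw [Category.assoc]
    exact IsNormPtBlowupSeq.step b g z hz hb hg.seq
  · rw [Category.assoc]
    exact isBir_comp _ (b ≫ g) hνb (isBir_comp b g hbb hg.bir)
  · intro _
    exact gen_not_closed_of_bir (Curv2.normalizationι Z') hνb hgen'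
  · obtain ⟨t, -, ht⟩ := stI_isPrincipal hb.1 (Curv2.normalizationι Z' w)
    refine ⟨(Curv2.normalizationι Z').stalkMap w t, ?_⟩
    rw [Scheme.IdealSheafData.comap_comp, stI_comap, ht, Ideal.map_span, Set.image_singleton]

section Centre

variable {O : Type u} [CommRing O] [IsDomain O] [IsNoetherianRing O] [IsLocalRing O] [ValuationRing O] {X : Scheme.{u}} [IsIntegral X]

/-- The map from the local ring at the centre. -/
abbrev toO {Z : Scheme.{u}} (σ : Spec (CommRingCat.of O) ⟶ Z) :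
    Z.presheaf.stalk (σ (IsLocalRing.closedPoint O)) →+* O :=
  (Scheme.stalkClosedPointTo σ).hom

/-- The residue of `c` is transcendental over the centre. -/
def Transc (σ : Spec (CommRingCat.of O) ⟶ X) (c : O) : Prop :=
  ∃ (V : X.affineOpens) (hV : σ (IsLocalRing.closedPoint O) ∈ V.1), ∀ P : Polynomial Γ(X, V.1), P.Monic →
    IsUnit (P.eval₂ ((toO σ).comp (X.presheaf.germ V.1 _ hV).hom) c)

theorem toO_comp {Z Z' : Scheme.{u}} (σ : Spec (CommRingCat.of O) ⟶ Z') (π : Z' ⟶ Z) (a) :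
    toO (σ ≫ π) a = toO σ (π.stalkMap (σ (IsLocalRing.closedPoint O)) a) := by
  show (Scheme.stalkClosedPointTo (σ ≫ π)).hom a = _
  rw [Scheme.stalkClosedPointTo_comp]
  rfl

theorem toO_mem_maximal {Z : Scheme.{u}} (σ : Spec (CommRingCat.of O) ⟶ Z) {a}
    (ha : a ∈ IsLocalRing.maximalIdeal (Z.presheaf.stalk (σ (IsLocalRing.closedPoint O)))) :
    toO σ a ∈ IsLocalRing.maximalIdeal O := by
  haveI : IsLocalHom (toO σ) := Scheme.isLocalHom_stalkClosedPointTo' σ
  exact map_nonunit (toO σ) a ha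

theorem exists_nonClosed_centre (hX : FinNorm X) (c : O) :
    ∀ (I : Ideal O) {Z : Scheme.{u}} [IsIntegral Z] {g : Z ⟶ X} (_ : NModif g) (σ : Spec (CommRingCat.of O) ⟶ Z),
      σ (genericPoint (Spec (CommRingCat.of O))) = genericPoint Z →
      IsClosed ({(σ ≫ g) (IsLocalRing.closedPoint O)} : Set X) → Transc (σ ≫ g) c →
      ∀ a b, toO σ b ≠ 0 → toO σ b * c = toO σ a → Ideal.span {toO σ b} = I →
      ∃ (Z' : Scheme.{u}) (π : Z' ⟶ Z), IsProper π ∧ IsBir π ∧ NModif (π ≫ g) ∧
        ∃ σ' : Spec (CommRingCat.of O) ⟶ Z', σ' ≫ π = σ ∧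
          ¬ IsClosed ({σ' (IsLocalRing.closedPoint O)} : Set Z') := by
  intro I
  induction I using WellFoundedGT.induction with
  | _ I ih =>
  intro Z _ g hg σ hσ hx hT a b hb0 hbc hI
  haveI := hg.noeth; haveI := hg.proper
  by_cases hz : IsClosed ({σ (IsLocalRing.closedPoint O)} : Set Z)
  swap
  · exact ⟨Z, 𝟙 Z, inferInstance, ⟨⊤, ⟨genericPoint Z, trivial⟩, inferInstance⟩,
      by rw [Category.id_comp]; exact hg, σ, Category.comp_id σ, hz⟩
  let z := σ (IsLocalRing.closedPoint O)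
  -- `b` vanishes at the centre
  have hbm : b ∈ IsLocalRing.maximalIdeal (Z.presheaf.stalk z) := by
    intro hu
    obtain ⟨bu, rfl⟩ := hu
    obtain ⟨V, hV, hP⟩ := hT
    let e : Z.presheaf.stalk z := a * (bu⁻¹ : (Z.presheaf.stalk z)ˣ)
    have hec : toO σ e = c := by
      refine mul_left_cancel₀ hb0 ?_
      rw [← map_mul, hbc]
      refine congrArg (toO σ) ?_
      rw [mul_left_comm, Units.mul_inv, mul_one]
    obtain ⟨P, hPm, hPe⟩ := isIntegralElem_evaluation g hz hx V (show z ∈ g ⁻¹ᵁ V.1 from hV) (Z.residue z e)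
    have hmem : P.eval₂ ((Z.presheaf.germ (g ⁻¹ᵁ V.1) z hV).hom.comp (g.app V.1).hom) e ∈
        IsLocalRing.maximalIdeal (Z.presheaf.stalk z) := by
      refine (IsLocalRing.residue_eq_zero_iff _).1 ?_
      show (Z.residue z).hom _ = 0
      rw [Polynomial.hom_eval₂]
      exact hPe
    have h1 := toO_mem_maximal σ hmem
    rw [Polynomial.hom_eval₂, hec] at h1
    refine h1 ?_
    have h2 : (toO σ).comp ((Z.presheaf.germ (g ⁻¹ᵁ V.1) z hV).hom.comp (g.app V.1).hom) =
        (toO (σ ≫ g)).comp (X.presheaf.germ V.1 _ hV).hom := RingHom.ext fun r => by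
      show toO σ (Z.presheaf.germ (g ⁻¹ᵁ V.1) z hV (g.app V.1 r)) = toO (σ ≫ g) (X.presheaf.germ V.1 _ hV r)
      rw [toO_comp]
      exact congrArg _ (Scheme.Hom.germ_stalkMap_apply g V.1 z hV r).symm
    rw [h2]
    exact hP P hPm
  have ham : a ∈ IsLocalRing.maximalIdeal (Z.presheaf.stalk z) := by
    intro hu
    refine (toO_mem_maximal σ hbm) (isUnit_of_mul_isUnit_left (y := c) ?_)
    rw [hbc]
    exact hu.map _
  obtain ⟨N, π, hπ, hπp, hπb, hprin⟩ := exists_step hX hg hz
  haveI := hπ.integral; haveI := hπp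
  obtain ⟨σ', hσ', hσ'g⟩ := exists_val_lift π hπb σ hσ
  subst hσ'
  let w := σ' (IsLocalRing.closedPoint O)
  obtain ⟨t, ht⟩ := hprin w rfl
  rw [stI_comap] at ht
  have hm : (IsLocalRing.maximalIdeal (Z.presheaf.stalk (π w))).map (π.stalkMap w).hom = Ideal.span {t} := by
    rw [← ht]; exact congrArg _ (stI_ptI hz).symm
  obtain ⟨a', ha'⟩ := Ideal.mem_span_singleton.1 (hm.le (Ideal.mem_map_of_mem (π.stalkMap w).hom ham))
  obtain ⟨b', hb'⟩ := Ideal.mem_span_singleton.1 (hm.le (Ideal.mem_map_of_mem (π.stalkMap w).hom hbm))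
  have ha'' : toO (σ' ≫ π) a = toO σ' t * toO σ' a' := by rw [toO_comp, ← map_mul]; exact congrArg _ ha'
  have hb'' : toO (σ' ≫ π) b = toO σ' t * toO σ' b' := by rw [toO_comp, ← map_mul]; exact congrArg _ hb'
  have htm : t ∈ IsLocalRing.maximalIdeal (N.presheaf.stalk w) := by
    refine (hm.ge.trans ?_) (Ideal.mem_span_singleton_self t)
    exact Ideal.map_le_iff_le_comap.2 fun x hx => map_nonunit (π.stalkMap w).hom x hx
  have ht0 : toO σ' t ≠ 0 := fun h => hb0 (by rw [hb'', h, zero_mul])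
  have hb'0 : toO σ' b' ≠ 0 := fun h => hb0 (by rw [hb'', h, mul_zero])
  have hlt : I < Ideal.span {toO σ' b'} := by
    rw [← hI, Ideal.span_singleton_lt_span_singleton]
    refine ⟨hb'0, toO σ' t, toO_mem_maximal σ' htm, ?_⟩
    rw [hb'']
    exact mul_comm _ _
  rw [Category.assoc] at hx hT
  obtain ⟨Z'', π', hπ'p, hπ'b, hπ', σ'', hσ'', hnc⟩ := ih _ hlt hπ σ' hσ'g hx hT a' b' hb'0
    (mul_left_cancel₀ ht0 (by rw [← mul_assoc, ← hb'', hbc, ha''])) rfl
  haveI := hπ'.integral; haveI := hπ'p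
  refine ⟨Z'', π' ≫ π, inferInstance, isBir_comp π' π hπ'b hπb, ?_, σ'', by rw [← hσ'', Category.assoc], hnc⟩
  rw [Category.assoc]
  exact hπ'

end Centre

section Dominate

variable {X Y : Scheme.{u}} [IsIntegral X] [IsIntegral Y]

/-- The points of a modification which are curves contracted to closed points. -/
def contrCurves (f : Y ⟶ X) : Set Y := {η | ¬ IsClosed ({η} : Set Y) ∧ IsClosed ({f η} : Set X)}

theorem finite_contrCurves [AlgebraicGeometry.IsNoetherian Y] (hd : topologicalKrullDim Y ≤ 2) (f : Y ⟶ X)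
    (hf : IsBir f) (hXgen : ¬ IsClosed ({genericPoint X} : Set X)) : (contrCurves f).Finite := by
  obtain ⟨V, hV, hiso⟩ := hf
  haveI := hiso
  have hξ : genericPoint X ∈ V := Groth.L05.MinDesing.genericPoint_mem hV
  obtain ⟨e, -⟩ := birational_data f ⟨V, hV, inferInstance⟩
  have hFc : IsClosed (f ⁻¹' (V : Set X)ᶜ) := V.2.isClosed_compl.preimage f.continuous
  refine (finite_isolated hFc).subset fun η ⟨hη, hcl⟩ => ⟨fun hmem => hη ?_, fun w hw hwη => ?_⟩
  · have h := hcl.preimage f.continuous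
    rwa [show f ⁻¹' {f η} = {η} from Set.ext fun a =>
      ⟨fun ha => (Groth.L05.RelMinExists.eq_of_isIso_restrict' f V hmem (Eq.symm ha)).symm,
        fun ha => congrArg f ha⟩] at h
  · by_contra hne
    obtain ⟨p, hp, hpη⟩ : ∃ p, η ⤳ p ∧ p ≠ η := by
      by_contra h
      push Not at h
      exact hη (closure_subset_iff_isClosed.1 fun p hp => h p (specializes_iff_mem_closure.2 hp))
    have h1 := Groth.L03.BlowPt.Factor.dim_add_one_le (genericPoint_specializes w)
      (fun h => hw (by rw [← h]; show f (genericPoint Y) ∈ V; rw [e]; exact hξ))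
    have h2 := Groth.L03.BlowPt.Factor.dim_add_one_le hwη hne
    have h3 := Groth.L03.BlowPt.Factor.dim_add_one_le hp hpη.symm
    rw [dim_stalk_genericPoint, zero_add] at h1
    have h4 := (Groth.L13.ModFibre.ringKrullDim_stalk_le_topologicalKrullDim p).trans hd
    exact absurd (((add_le_add ((add_le_add h1 le_rfl).trans h2) le_rfl).trans h3).trans h4) (by decide)

theorem valuation_stalk [IsLocallyNoetherian Y] (hd : topologicalKrullDim Y ≤ 2) (hY : Pi1.IsNormalScheme Y) {η : Y}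
    (hη : ¬ IsClosed ({η} : Set Y)) : ValuationRing (Y.presheaf.stalk η) := by
  haveI := (hY η).2
  obtain ⟨p, hp, hpη⟩ : ∃ p, η ⤳ p ∧ p ≠ η := by
    by_contra h
    push Not at h
    exact hη (closure_subset_iff_isClosed.1 fun p hp => h p (specializes_iff_mem_closure.2 hp))
  have h1 := Groth.L03.BlowPt.Factor.dim_add_one_le hp hpη.symm
  have h2 := h1.trans ((Groth.L13.ModFibre.ringKrullDim_stalk_le_topologicalKrullDim p).trans hd)
  haveI : Ring.KrullDimLE 1 (Y.presheaf.stalk η) := by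
    rw [Ring.krullDimLE_iff]
    generalize ringKrullDim (Y.presheaf.stalk η) = d at h2 ⊢
    cases d with
    | bot => exact bot_le
    | coe d =>
      cases d with
      | top => exact absurd h2 (by decide)
      | coe d =>
        have h3 : d + 1 ≤ 2 := ENat.coe_le_coe.1 (WithBot.coe_le_coe.1 h2)
        have h4 : d ≤ 1 := by omega
        exact_mod_cast h4
  refine ((tfae_of_isNoetherianRing_of_isLocalRing_of_isDomain (Y.presheaf.stalk η)).out 3 1).1 ?_
  exact ⟨inferInstance, fun P hP hP' => IsLocalRing.eq_maximalIdeal (Ring.krullDimLE_one_iff_of_noZeroDivisors.1 ‹_› P hP hP')⟩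

theorem exists_transc [IsLocallyNoetherian Y] (f : Y ⟶ X) {η : Y} (hη : ¬ IsClosed ({η} : Set Y))
    (hcl : IsClosed ({f η} : Set X)) :
    ∃ c : Y.presheaf.stalk η, ∃ (V : X.affineOpens) (hV : f η ∈ V.1),
      ∀ P : Polynomial Γ(X, V.1), P.Monic →
        IsUnit (P.eval₂ ((f.stalkMap η).hom.comp (X.presheaf.germ V.1 _ hV).hom) c) := by
  obtain ⟨q, hq, hqη⟩ : ∃ q, η ⤳ q ∧ q ≠ η := by
    by_contra h
    push Not at h
    exact hη (closure_subset_iff_isClosed.1 fun q hq => h q (specializes_iff_mem_closure.2 hq))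
  obtain ⟨V, hV⟩ := exists_affine (f η)
  have hfq : f q = f η := (hq.map f.continuous).mem_closed hcl rfl
  obtain ⟨_, ⟨W, hW, rfl⟩, hqW, hWV⟩ := Y.isBasis_affineOpens.exists_subset_of_mem_open
    (show q ∈ f ⁻¹ᵁ V.1 from show f q ∈ V.1 from hfq ▸ hV) (f ⁻¹ᵁ V.1).2
  have hηW : η ∈ W := hq.mem_open W.2 hqW
  let Pη := hW.primeIdealOf ⟨η, hηW⟩
  let Pq := hW.primeIdealOf ⟨q, hqW⟩
  let φ := (f.appLE V.1 W hWV).hom
  have hc1 : Pη.asIdeal.comap φ = (V.2.primeIdealOf ⟨f η, hV⟩).asIdeal :=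
    congrArg PrimeSpectrum.asIdeal (IsAffineOpen.comap_primeIdealOf_appLE V.1 V.2 W hW hWV hηW)
  have hc2 : Pq.asIdeal.comap φ = (V.2.primeIdealOf ⟨f η, hV⟩).asIdeal :=
    (congrArg PrimeSpectrum.asIdeal (IsAffineOpen.comap_primeIdealOf_appLE V.1 V.2 W hW hWV hqW)).trans
      (congrArg (fun y => (V.2.primeIdealOf y).asIdeal) (Subtype.ext hfq))
  have hle : Pη.asIdeal ≤ Pq.asIdeal := LocalDim.le_of_specializes hW hηW hqW hq
  obtain ⟨s, hsq, hsη⟩ := SetLike.exists_of_lt (lt_of_le_of_ne hle fun e => hqη (by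
    have h := congrArg hW.fromSpec (PrimeSpectrum.ext e : Pη = Pq)
    rw [hW.fromSpec_primeIdealOf, hW.fromSpec_primeIdealOf] at h
    exact h.symm))
  refine ⟨Y.presheaf.germ W η hηW s, V, hV, fun P hP => ?_⟩
  have hnot : P.eval₂ φ s ∉ Pη.asIdeal := fun h => by
    refine not_isIntegralElem_of_mem_not_mem φ hc1 hc2 hle hsq hsη ⟨P, hP, ?_⟩
    rw [← Polynomial.hom_eval₂]
    exact Ideal.Quotient.eq_zero_iff_mem.2 h
  have hu : IsUnit (Y.presheaf.germ W η hηW (P.eval₂ φ s)) := by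
    have h := (LocalDim.mem_basicOpen_iff hW hηW _).2 hnot
    exact (Y.mem_basicOpen (P.eval₂ φ s) η hηW).1 h
  have h3 : (Y.presheaf.germ W η hηW).hom (P.eval₂ φ s) =
      P.eval₂ ((f.stalkMap η).hom.comp (X.presheaf.germ V.1 _ hV).hom) (Y.presheaf.germ W η hηW s) := by
    rw [Polynomial.hom_eval₂]
    congr 1
    refine RingHom.ext fun r => ?_
    show Y.presheaf.germ W η hηW (f.appLE V.1 W hWV r) = f.stalkMap η (X.presheaf.germ V.1 _ hV r)
    rw [Scheme.Hom.germ_stalkMap_apply, Scheme.Hom.appLE, CommRingCat.comp_apply, TopCat.Presheaf.germ_res_apply]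
  rw [← h3]; exact hu

theorem exists_frac (f : Y ⟶ X) (hf : IsBir f) (y : Y) (c : Y.presheaf.stalk y) :
    ∃ a b, f.stalkMap y b ≠ 0 ∧ f.stalkMap y b * c = f.stalkMap y a := by
  obtain ⟨V, hV, hiso⟩ := hf
  haveI := hiso
  obtain ⟨e, he⟩ := ffMap_bijective f V hV
  obtain ⟨k, hk⟩ := he.2 (algebraMap (Y.presheaf.stalk y) Y.functionField c)
  obtain ⟨a, b, hb, hab⟩ := IsFractionRing.div_surjective (A := X.presheaf.stalk (f y)) k
  refine ⟨a, b, fun h0 => nonZeroDivisors.ne_zero hb (stalkMap_injective f e y (by rw [h0, map_zero])), ?_⟩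
  apply IsFractionRing.injective (Y.presheaf.stalk y) Y.functionField
  rw [map_mul, Groth.L21.Curve.algebraMap_stalkMap f e y b, Groth.L21.Curve.algebraMap_stalkMap f e y a, ← hk,
    ← map_mul, ← hab, mul_div_cancel₀]
  exact fun h0 => nonZeroDivisors.ne_zero hb ((IsFractionRing.to_map_eq_zero_iff).1 h0)

end Dominate

end Groth.L05.PtSeq
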