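import Groth.Agent.L05.InterPair.Length
import Groth.Agent.L05.PtSeq.Drop
import Groth.Agent.L20.Infinitesimal.Flat

/-!
# Sections of the structure sheaf on a discrete scheme
-/

set_option autoImplicit false
set_option linter.style.haveILetI false
set_option backward.isDefEq.respectTransparency false

universe u

open CategoryTheory CategoryTheory.Limits AlgebraicGeometry TopologicalSpace

noncomputable section

namespace Groth.L05.PtSeq

variable {Z X : Scheme.{u}}

/-- The global sections of a discrete scheme are the product of its stalks. -/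
theorem bijective_germs [DiscreteTopology Z] :
    Function.Bijective (fun (s : Γ(Z, ⊤)) (z : Z) => Z.presheaf.germ ⊤ z trivial s) := by
  classical
  refine ⟨fun s t h => TopCat.Presheaf.section_ext Z.sheaf ⊤ s t fun z _ => congrFun h z, fun v => ?_⟩
  choose U hU s hs using fun z => Z.presheaf.germ_exist (v z)
  let O : Z → Z.Opens := fun z => ⟨{z}, isOpen_discrete _⟩
  let sf : ∀ z, Γ(Z, O z) := fun z =>
    Z.presheaf.map (homOfLE (fun a ha => by rw [show a = z from ha]; exact hU z : O z ≤ U z)).op (s z)
  have hcompat : TopCat.Presheaf.IsCompatible Z.presheaf O sf := fun z w => by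
    rcases eq_or_ne z w with rfl | hne
    · rfl
    · refine TopCat.Presheaf.section_ext Z.sheaf _ _ _ fun a ha => ?_
      exact absurd ((show a = z from ha.1).symm.trans (show a = w from ha.2)) hne
  obtain ⟨t, ht, -⟩ := TopCat.Sheaf.existsUnique_gluing' Z.sheaf O ⊤ (fun z => homOfLE le_top)
    (fun z _ => Opens.mem_iSup.2 ⟨z, rfl⟩) sf hcompat
  refine ⟨t, funext fun z => ?_⟩
  show Z.presheaf.germ ⊤ z trivial t = v z
  rw [← TopCat.Presheaf.germ_res_apply Z.presheaf (homOfLE (le_top : O z ≤ ⊤)) z (show z ∈ O z from rfl) t]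
  refine (congrArg _ (ht z)).trans ?_
  rw [TopCat.Presheaf.germ_res_apply]
  exact hs z

theorem stI_eq_sI (I : X.IdealSheafData) (x : X) : stI I x = Groth.L20.SeeNormal.sI I x := by
  obtain ⟨U, hU⟩ := exists_affine x
  rw [stI_eq _ U hU, Groth.L20.SeeNormal.sI_eq I U hU]
  rfl

/-- The stalk of a closed subscheme. -/
def stalkQuotEquiv (I : X.IdealSheafData) (z : I.subscheme) :
    (X.presheaf.stalk (I.subschemeι z) ⧸ stI I (I.subschemeι z)) ≃+* I.subscheme.presheaf.stalk z :=
  (Ideal.quotEquivOfEq (by
    rw [Groth.L20.Infinitesimal.ker_stalkMap I.subschemeι z, Scheme.IdealSheafData.ker_subschemeι, stI_eq_sI])).trans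
    (RingHom.quotientKerEquivOfSurjective (I.subschemeι.stalkMap_surjective z))

theorem stalkQuotEquiv_mk (I : X.IdealSheafData) (z : I.subscheme) (a : X.presheaf.stalk (I.subschemeι z)) :
    stalkQuotEquiv I z (Ideal.Quotient.mk _ a) = I.subschemeι.stalkMap z a := rfl

end Groth.L05.PtSeq
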