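import Groth.Agent.L05.PtSeq.Surface

/-!
# Making a configuration of regular curves on a regular surface normal crossing
-/

set_option autoImplicit false
set_option linter.style.haveILetI false
set_option backward.isDefEq.respectTransparency false

universe u

open CategoryTheory CategoryTheory.Limits AlgebraicGeometry TopologicalSpace
open Groth.L03.BlowPt (ptI exc eι)
open Groth.L22
open Resolve

noncomputable section

namespace Groth.L05.PtSeq

variable {W : Scheme.{u}}

/-- The local intersection number of two curves at a point of the first. -/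
abbrev ilen {A B W : Scheme.{u}} (φ : A ⟶ W) (ψ : B ⟶ W) (c : A) : ℕ := Groth.Agent.S7374.len φ ψ c

theorem Crv.isClosed_image (a : Crv W) {c : a.C} (hc : c ≠ genericPoint a.C) : IsClosed ({a.f c} : Set W) := by
  rw [← Set.image_singleton]
  exact a.f.isClosedMap _ (isClosed_of_ne_generic a.dim hc)

theorem Crv.gen_notMem (a b : Crv W) (h : a.f (genericPoint a.C) ≠ b.f (genericPoint b.C)) :
    a.f (genericPoint a.C) ∉ Set.range b.f := by
  rintro ⟨c, hc⟩
  by_cases hcη : c = genericPoint b.C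
  · subst hcη; exact h hc.symm
  · exact a.gen_not_closed (hc ▸ b.isClosed_image hcη)

theorem Crv.gen_notMem_support (a b : Crv W) (h : a.f (genericPoint a.C) ≠ b.f (genericPoint b.C)) :
    genericPoint a.C ∉ ((b.f.ker.comap a.f).support : Set a.C) :=
  fun hs => a.gen_notMem b h ((mem_support_comap_ker a.f b.f _).1 hs)

theorem len_pos_iff (a b : Crv W) (h : a.f (genericPoint a.C) ≠ b.f (genericPoint b.C)) (c : a.C) :
    0 < ilen a.f b.f c ↔ a.f c ∈ Set.range b.f := by
  rw [← mem_support_comap_ker a.f b.f c]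
  constructor
  · intro hp
    by_contra hcs
    haveI : Subsingleton (a.C.presheaf.stalk c ⧸ stI (b.f.ker.comap a.f) c) :=
      Ideal.Quotient.subsingleton_iff.2 ((stI_eq_top_iff _ c).2 hcs)
    rw [ilen, Groth.Agent.S7374.len, Module.length_eq_zero] at hp
    exact absurd hp (by simp)
  · intro hcs
    haveI : Nontrivial (a.C.presheaf.stalk c ⧸ stI (b.f.ker.comap a.f) c) :=
      Ideal.Quotient.nontrivial_iff.2 fun e => (stI_eq_top_iff _ c).1 e hcs
    have h1 := finite_length_quot a.dim c (a.reg c) (stI_ne_bot (a.gen_notMem_support b h) c)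
    refine Nat.pos_of_ne_zero fun h0 => ?_
    rcases ENat.toNat_eq_zero.1 h0 with e | e
    · exact Module.length_pos.ne' e
    · exact h1 e

theorem finite_meet (a b : Crv W) (h : a.f (genericPoint a.C) ≠ b.f (genericPoint b.C)) :
    {c : a.C | a.f c ∈ Set.range b.f}.Finite := by
  refine (finite_isolated ((b.f.ker.comap a.f).support.isClosed)).subset fun c hc => ?_
  refine ⟨(mem_support_comap_ker a.f b.f c).2 hc, fun w hw hwc => ?_⟩
  have hwcl : IsClosed ({w} : Set a.C) :=
    isClosed_of_ne_generic a.dim fun e => a.gen_notMem_support b h (e ▸ hw)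
  exact (hwc.mem_closed hwcl rfl).symm

section Blow

variable [IsLocallyNoetherian W] {W' : Scheme.{u}} [IsLocallyNoetherian W'] {b : W' ⟶ W} {x : W}
  {hx : IsClosed ({x} : Set W)}

theorem len_mono (A B : Crv W) (h : A.f (genericPoint A.C) ≠ B.f (genericPoint B.C)) {hA : A.C ⟶ W'}
    {hB : B.C ⟶ W'} [QuasiCompact hB] (eA : hA ≫ b = A.f) (eB : hB ≫ b = B.f) (c : A.C) :
    ilen hA hB c ≤ ilen A.f B.f c := by
  have hle : B.f.ker.comap A.f ≤ hB.ker.comap hA := by
    rw [← eA, Scheme.IdealSheafData.comap_comp]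
    refine (Scheme.IdealSheafData.map_gc hA).monotone_l ?_
    rw [← Scheme.IdealSheafData.le_map_iff_comap_le, ← Scheme.Hom.ker_comp, eB]
  exact ENat.toNat_le_toNat (Module.length_le_of_surjective _ (Submodule.factor_surjective (stI_mono hle c)))
    (finite_length_quot A.dim c (A.reg c) (stI_ne_bot (A.gen_notMem_support B h) c))

theorem len_drop (hb : BlowUp.IsBlowUp b (ptI hx)) (A B : Crv W)
    (h : A.f (genericPoint A.C) ≠ B.f (genericPoint B.C)) {hA : A.C ⟶ W'}
    {hB : B.C ⟶ W'} [QuasiCompact hB] (eA : hA ≫ b = A.f) (eB : hB ≫ b = B.f) {c : A.C} (hc : A.f c = x)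
    (hxB : x ∈ Set.range B.f) : ilen hA hB c < ilen A.f B.f c := by
  have hcη : c ≠ genericPoint A.C := fun e => A.gen_notMem B h (by rw [← e, hc]; exact hxB)
  have hgB : B.f (genericPoint B.C) ≠ x := fun e => B.gen_not_closed (e ▸ hx)
  haveI := A.reg c
  haveI := pir_stalk A.dim c (A.reg c)
  haveI := Groth.L01.isDomain_of_regular (A.C.presheaf.stalk c)
  have hJ0 := stI_ne_bot (A.gen_notMem_support B h) c
  have hfinite := finite_length_quot A.dim c (A.reg c) hJ0
  have hcl : IsClosed ({c} : Set A.C) := isClosed_of_ne_generic A.dim hcη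
  have hcomp : (ptI hx).comap A.f = ptI hcl := Groth.Agent.S7358.comap_ptI A.f hcl hx hc
  obtain ⟨t, ht0, ht⟩ := stI_isPrincipal (isEffCartier_ptI A.dim hcl (Ne.symm hcη) (A.reg c)) c
  rw [stI_ptI] at ht
  have hKE : B.f.ker.comap b ≤ exc hx b := (Scheme.IdealSheafData.map_gc b).monotone_l (by
    show B.f.ker ≤ Scheme.IdealSheafData.vanishingIdeal ⟨{x}, hx⟩
    rw [← Scheme.IdealSheafData.le_support_iff_le_vanishingIdeal]
    refine Set.singleton_subset_iff.2 ?_
    rw [Scheme.Hom.support_ker, B.f.isClosedEmbedding.isClosed_range.closure_eq]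
    exact hxB)
  obtain ⟨τ, -, hτ, hτle⟩ := stI_le_span_mul (B.f.ker.comap b) (exc hx b) hb.1 hKE (hA c)
  have h2 := Ideal.map_mono (f := (hA.stalkMap c).hom)
    (hτle.trans (Ideal.mul_mono le_rfl (stI_mono (satI_le_ker hx b B.f hB eB hgB) (hA c))))
  rw [← stI_comap, ← Scheme.IdealSheafData.comap_comp, eA, Ideal.map_mul, ← hτ, ← stI_comap,
    show (exc hx b).comap hA = ptI hcl by rw [← hcomp, ← eA, Scheme.IdealSheafData.comap_comp],
    stI_ptI, ht, ← stI_comap] at h2
  have hlt : Module.length (A.C.presheaf.stalk c) (A.C.presheaf.stalk c ⧸ stI (hB.ker.comap hA) c) <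
      Module.length (A.C.presheaf.stalk c) (A.C.presheaf.stalk c ⧸ stI (B.f.ker.comap A.f) c) := by
    by_cases htop : stI (hB.ker.comap hA) c = ⊤
    · haveI : Subsingleton (A.C.presheaf.stalk c ⧸ stI (hB.ker.comap hA) c) := Ideal.Quotient.subsingleton_iff.2 htop
      haveI : Nontrivial (A.C.presheaf.stalk c ⧸ stI (B.f.ker.comap A.f) c) :=
        Ideal.Quotient.nontrivial_iff.2 fun e =>
          (stI_eq_top_iff _ c).1 e ((mem_support_comap_ker A.f B.f c).2 (by rw [hc]; exact hxB))
      rw [Module.length_eq_zero]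
      exact Module.length_pos
    · exact Groth.Agent.S7358.length_lt ht (nonZeroDivisors.ne_zero ht0) hJ0 h2 htop
  rw [← ENat.coe_toNat hfinite, ← ENat.coe_toNat (ne_top_of_lt hlt)] at hlt
  exact_mod_cast hlt

theorem len_exc_le_one (A : Crv W) {hA : A.C ⟶ W'} (eA : hA ≫ b = A.f) (c : A.C) :
    ilen hA (eι hx b) c ≤ 1 := by
  rw [ilen, Groth.Agent.S7374.len, Scheme.IdealSheafData.ker_subschemeι]
  by_cases hc : A.f c = x
  · have hcη : c ≠ genericPoint A.C := fun e => A.gen_not_closed (by rw [← e, hc]; exact hx)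
    have hcl : IsClosed ({c} : Set A.C) := isClosed_of_ne_generic A.dim hcη
    have hcomp : (exc hx b).comap hA = ptI hcl := by
      rw [← Groth.Agent.S7358.comap_ptI A.f hcl hx hc, ← eA, Scheme.IdealSheafData.comap_comp]
    rw [hcomp, stI_ptI]
    haveI : IsSimpleModule (A.C.presheaf.stalk c)
        (A.C.presheaf.stalk c ⧸ IsLocalRing.maximalIdeal (A.C.presheaf.stalk c)) :=
      isSimpleModule_iff_isCoatom.2 (IsLocalRing.maximalIdeal.isMaximal _).out
    rw [Module.length_eq_one]
    exact le_rfl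
  · haveI : Subsingleton (A.C.presheaf.stalk c ⧸ stI ((exc hx b).comap hA) c) :=
      Ideal.Quotient.subsingleton_iff.2 ((stI_eq_top_iff _ c).2 (by
        rw [Scheme.IdealSheafData.support_comap]
        show hA c ∉ (((ptI hx).comap b).support : Set W')
        rw [Scheme.IdealSheafData.support_comap]
        show b (hA c) ∉ ((ptI hx).support : Set W)
        rw [Groth.Agent.S7372.support_ptI, ← Scheme.Hom.comp_apply, eA]
        exact hc))
    rw [Module.length_eq_zero]
    exact zero_le_one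

end Blow

/-- A configuration of regular curves covering a closed subset. -/
structure Cfg (S : Set W) {N : ℕ} (K : Fin N → Crv W) : Prop where
  inj : ∀ i j, (K i).f (genericPoint (K i).C) = (K j).f (genericPoint (K j).C) → i = j
  mem : ∀ i, (K i).f (genericPoint (K i).C) ∈ S
  cover : ∀ η ∈ S, ¬ IsClosed ({η} : Set W) → ∃ i, (K i).f (genericPoint (K i).C) = η

/-- Only simple normal crossings. -/
def Nice {N : ℕ} (K : Fin N → Crv W) : Prop :=
  (∀ i j, i < j → ∀ c, ilen (K i).f (K j).f c ≤ 1) ∧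
    ∀ i j l, i < j → j < l → ∀ c, ¬ ((K i).f c ∈ Set.range (K j).f ∧ (K i).f c ∈ Set.range (K l).f)

/-- The excess of tangency of two curves. -/
def pairX (a b : Crv W) : ℕ := ∑ᶠ c : a.C, (ilen a.f b.f c - 1)

/-- The number of triple points of three curves. -/
def tri (a b d : Crv W) : ℕ := {c : a.C | a.f c ∈ Set.range b.f ∧ a.f c ∈ Set.range d.f}.ncard

theorem pairX_eq_sum (a b : Crv W) (h : a.f (genericPoint a.C) ≠ b.f (genericPoint b.C)) (φ : a.C → ℕ)
    (hφ : ∀ c, φ c ≤ ilen a.f b.f c - 1) : ∑ᶠ c, φ c = ∑ c ∈ (finite_meet a b h).toFinset, φ c := by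
  refine finsum_eq_sum_of_support_subset _ fun c hc => ?_
  rw [Finset.mem_coe, Set.Finite.mem_toFinset]
  refine (len_pos_iff a b h c).1 ?_
  have := hφ c
  have := Function.mem_support.1 hc
  omega

/-- The total excess of tangency. -/
def totX {N : ℕ} (K : Fin N → Crv W) : ℕ := ∑ i, ∑ j, if i < j then pairX (K i) (K j) else 0

/-- The total number of triple points. -/
def totT {N : ℕ} (K : Fin N → Crv W) : ℕ :=
  ∑ i, ∑ j, ∑ l, if i < j ∧ j < l then tri (K i) (K j) (K l) else 0

theorem exists_nice : ∀ (m n : ℕ) {W : Scheme.{u}} [IsIntegral W] (_ : IsRegSurf W)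
    (_ : ¬ IsClosed ({genericPoint W} : Set W)) (S : Set W) (_ : IsClosed S) {N : ℕ} (K : Fin N → Crv W),
    Cfg S K → totX K = m → totT K = n →
    ∃ (W' : Scheme.{u}) (g : W' ⟶ W) (_ : IsPtBlowupSeq g) (N' : ℕ) (K' : Fin N' → Crv W'),
      Cfg (g ⁻¹' S) K' ∧ Nice K' := by
  intro m
  induction m using Nat.strong_induction_on with
  | _ m ihm =>
  intro n
  induction n using Nat.strong_induction_on with
  | _ n ihn =>
  intro W _ hW hWgen S hS N K hK hm hn
  classical
  haveI := hW.noeth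
  have hne : ∀ i j, i < j → (K i).f (genericPoint (K i).C) ≠ (K j).f (genericPoint (K j).C) :=
    fun i j h e => h.ne (hK.inj i j e)
  by_cases hnice : Nice K
  · exact ⟨W, 𝟙 W, IsPtBlowupSeq.iso (Iso.refl W), N, K, by simpa using hK, hnice⟩
  -- the point to blow up
  obtain ⟨i₀, j₀, c₀, hij, hc₀, hcase⟩ : ∃ (i₀ j₀ : Fin N) (c₀ : (K i₀).C), i₀ < j₀ ∧
      (K i₀).f c₀ ∈ Set.range (K j₀).f ∧
      (2 ≤ ilen (K i₀).f (K j₀).f c₀ ∨ ((∀ i j, i < j → ∀ c, ilen (K i).f (K j).f c ≤ 1) ∧
        ∃ l₀, j₀ < l₀ ∧ (K i₀).f c₀ ∈ Set.range (K l₀).f)) := by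
    by_cases h1 : ∀ i j, i < j → ∀ c, ilen (K i).f (K j).f c ≤ 1
    · have h2 := not_and.1 hnice h1
      push Not at h2
      obtain ⟨i, j, l, h, h', c, hc, hc'⟩ := h2
      exact ⟨i, j, c, h, hc, Or.inr ⟨h1, l, h', hc'⟩⟩
    · push Not at h1
      obtain ⟨i, j, h, c, hc⟩ := h1
      exact ⟨i, j, c, h, (len_pos_iff _ _ (hne i j h) c).1 (by omega), Or.inl hc⟩
  have hc₀η : c₀ ≠ genericPoint (K i₀).C := fun e =>
    (K i₀).gen_notMem _ (hne i₀ j₀ hij) (by rw [← e]; exact hc₀)
  let x := (K i₀).f c₀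
  have hx : IsClosed ({x} : Set W) := (K i₀).isClosed_image hc₀η
  have hxS : x ∈ S := ((genericPoint_specializes c₀).map (K i₀).f.continuous).mem_closed hS (hK.mem i₀)
  -- it has a two-dimensional local ring
  have hdim : ringKrullDim (W.presheaf.stalk x) = (2 : ℕ) := by
    have hne' : x ≠ genericPoint W := fun e => hWgen (e ▸ hx)
    refine (dim_cases hW hne').resolve_left fun h1 => ?_
    have hη : (K i₀).f (genericPoint (K i₀).C) ≠ genericPoint W := fun e =>
      (K j₀).gen_notMem (K i₀) (hne i₀ j₀ hij).symm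
        ((genericPoint_specializes _).mem_closed (K i₀).f.isClosedEmbedding.isClosed_range ⟨_, e⟩)
    have h2 := Groth.L03.BlowPt.Factor.dim_add_one_le (genericPoint_specializes ((K i₀).f (genericPoint (K i₀).C)))
      (Ne.symm hη)
    have h3 := Groth.L03.BlowPt.Factor.dim_add_one_le ((genericPoint_specializes c₀).map (K i₀).f.continuous)
      (fun e => hc₀η ((K i₀).f.isClosedEmbedding.injective e).symm)
    rw [dim_stalk_genericPoint, zero_add] at h2
    exact absurd (((add_le_add h2 le_rfl).trans h3).trans h1.le) (by decide)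
  obtain ⟨W', b, hb⟩ := Groth.L13.BU.exists_isBlowUp (ptI hx)
  have hpb : IsPtBlow b x hx := ⟨hW.reg x, hdim, hb⟩
  haveI := hpb.isNoetherian
  haveI := hpb.isProper
  have hseq : IsPtBlowupSeq b := by
    simpa using IsPtBlowupSeq.step b (𝟙 W) x hx hb (IsPtBlowupSeq.iso (Iso.refl W))
  obtain ⟨hW', -, hiW', -, hW'gen⟩ := seq_surface hseq hW hWgen
  choose h hh using fun i => exists_lift hseq (K i).dim (K i).reg (K i).f (K i).gen_not_closed
  haveI hci : ∀ i, IsClosedImmersion (h i) := fun i => by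
    haveI : IsClosedImmersion (h i ≫ b) := by rw [hh i]; infer_instance
    exact IsClosedImmersion.of_comp (h i) b
  let L : Fin N → Crv W' := fun i =>
    ⟨(K i).C, h i, (K i).isIntegral, (K i).noeth, (K i).dim, (K i).gen, (K i).reg, hci i⟩
  let E : Crv W' := hpb.excCrv
  let K' : Fin (N + 1) → Crv W' := Fin.snoc L E
  have hKl : K' (Fin.last N) = E := Fin.snoc_last (α := fun _ => Crv W') E L
  have hKc : ∀ i, K' i.castSucc = L i := fun i => Fin.snoc_castSucc (α := fun _ => Crv W') E L i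
  have hbL : ∀ i c, b ((L i).f c) = (K i).f c := fun i c => by
    show b (h i c) = _
    rw [← Scheme.Hom.comp_apply, hh i]
  have hgx : ∀ i, (K i).f (genericPoint (K i).C) ≠ x := fun i e => (K i).gen_not_closed (e ▸ hx)
  have hbE : ∀ c, b (E.f c) = x := fun c => Groth.L03.BlowPt.eι_apply c
  have hLmeet : ∀ i j c, (L i).f c ∈ Set.range (L j).f → (K i).f c ∈ Set.range (K j).f := fun i j c ⟨d, hd⟩ =>
    ⟨d, by rw [← hbL j d, ← hbL i c]; exact congrArg b hd⟩
  have hLneq : ∀ i j, i < j → (L i).f (genericPoint (L i).C) ≠ (L j).f (genericPoint (L j).C) := fun i j hlt e =>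
    hne i j hlt (by
      rw [← hbL i (genericPoint (K i).C), ← hbL j (genericPoint (K j).C)]; exact congrArg b e)
  have hK' : Cfg (b ⁻¹' S) K' := by
    refine ⟨fun i j e => ?_, fun i => ?_, fun η hηS hη => ?_⟩
    · induction i using Fin.lastCases with
      | last =>
        induction j using Fin.lastCases with
        | last => rfl
        | cast j =>
          rw [hKl, hKc] at e
          refine absurd ?_ (hgx j)
          rw [← hbL j]; exact ((congrArg b e).symm.trans (hbE _))
      | cast i =>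
        induction j using Fin.lastCases with
        | last =>
          rw [hKl, hKc] at e
          refine absurd ?_ (hgx i)
          rw [← hbL i]; exact (congrArg b e).trans (hbE _)
        | cast j =>
          rw [hKc, hKc] at e
          refine congrArg Fin.castSucc (hK.inj i j ?_)
          rw [← hbL i (genericPoint (K i).C), ← hbL j (genericPoint (K j).C)]
          exact congrArg b e
    · induction i using Fin.lastCases with
      | last =>
        rw [hKl]
        show b (E.f _) ∈ S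
        rw [hbE]; exact hxS
      | cast i =>
        rw [hKc]
        show b ((L i).f _) ∈ S
        rw [hbL i]; exact hK.mem i
    · by_cases hbη : b η = x
      · refine ⟨Fin.last N, ?_⟩
        rw [hKl]
        obtain ⟨e, rfl⟩ : η ∈ Set.range (eι hx b) := by rw [range_exc]; exact hbη
        by_contra hcon
        exact hη (E.isClosed_image (c := e) fun he => hcon (congrArg (eι hx b) he.symm))
      · obtain ⟨i, hi⟩ := hK.cover (b η) hηS fun hcl => hη (isClosed_of_isClosed_image hb hbη hcl)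
        refine ⟨i.castSucc, ?_⟩
        rw [hKc]
        exact (eq_of_not_center hb hbη ((hbL i _).trans hi).symm).symm
  have hpairE : ∀ i, pairX (L i) E = 0 := fun i => by
    refine finsum_eq_zero_of_forall_eq_zero fun c => ?_
    have : ilen (h i) (eι hx b) c ≤ 1 := len_exc_le_one (K i) (hh i) c
    exact Nat.sub_eq_zero_of_le this
  have hmono : ∀ i j, i < j → ∀ c : (K i).C, ilen (h i) (h j) c ≤ ilen (K i).f (K j).f c :=
    fun i j hlt c => len_mono (K i) (K j) (hne i j hlt) (hh i) (hh j) c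
  have hpair : ∀ i j, i < j → pairX (L i) (L j) ≤ pairX (K i) (K j) := fun i j hlt => by
    show ∑ᶠ c : (K i).C, (ilen (h i) (h j) c - 1) ≤ _
    rw [pairX, pairX_eq_sum (K i) (K j) (hne i j hlt) _ fun c => Nat.sub_le_sub_right (hmono i j hlt c) 1,
      pairX_eq_sum (K i) (K j) (hne i j hlt) _ fun c => le_rfl]
    exact Finset.sum_le_sum fun c _ => Nat.sub_le_sub_right (hmono i j hlt c) 1
  have hX : totX K' = ∑ i, ∑ j, if i < j then pairX (L i) (L j) else 0 := by
    simp [totX, hKl, hKc, Fin.sum_univ_castSucc, hpairE, Fin.castSucc_lt_last, not_lt.2 (Fin.le_last _)]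
  have hXle : totX K' ≤ totX K := by
    rw [hX]
    refine Finset.sum_le_sum fun i _ => Finset.sum_le_sum fun j _ => ?_
    split_ifs with hlt
    exacts [hpair i j hlt, le_rfl]
  have hdrop : ilen (h i₀) (h j₀) c₀ < ilen (K i₀).f (K j₀).f c₀ :=
    len_drop hb (K i₀) (K j₀) (hne i₀ j₀ hij) (hh i₀) (hh j₀) rfl hc₀
  suffices key : totX K' < m ∨ totX K' = m ∧ totT K' < n by
    obtain ⟨W'', g, hg, N'', K'', hK'', hnice''⟩ : ∃ (W'' : Scheme.{u}) (g : W'' ⟶ W') (_ : IsPtBlowupSeq g)
        (N'' : ℕ) (K'' : Fin N'' → Crv W''), Cfg (g ⁻¹' (b ⁻¹' S)) K'' ∧ Nice K'' := by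
      rcases key with hlt | ⟨heq, hlt⟩
      · exact ihm _ hlt (totT K') hW' hW'gen _ (hS.preimage b.continuous) K' hK' rfl rfl
      · exact ihn _ hlt hW' hW'gen _ (hS.preimage b.continuous) K' hK' heq rfl
    exact ⟨W'', g ≫ b, ptSeq_comp hg hseq, N'', K'', hK'', hnice''⟩
  rcases hcase with h2 | ⟨h1, l₀, hjl, hl₀⟩
  · left
    rw [← hm, hX]
    have hstrict : pairX (L i₀) (L j₀) < pairX (K i₀) (K j₀) := by
      show ∑ᶠ c : (K i₀).C, (ilen (h i₀) (h j₀) c - 1) < _
      rw [pairX, pairX_eq_sum (K i₀) (K j₀) (hne i₀ j₀ hij) _ fun c =>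
          Nat.sub_le_sub_right (hmono i₀ j₀ hij c) 1,
        pairX_eq_sum (K i₀) (K j₀) (hne i₀ j₀ hij) _ fun c => le_rfl]
      refine Finset.sum_lt_sum (fun c _ => Nat.sub_le_sub_right (hmono i₀ j₀ hij c) 1) ⟨c₀, ?_, ?_⟩
      · rw [Set.Finite.mem_toFinset]; exact hc₀
      · omega
    refine Finset.sum_lt_sum (fun i _ => Finset.sum_le_sum fun j _ => ?_) ⟨i₀, Finset.mem_univ _,
      Finset.sum_lt_sum (fun j _ => ?_) ⟨j₀, Finset.mem_univ _, ?_⟩⟩
    · split_ifs with hlt
      exacts [hpair i j hlt, le_rfl]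
    · split_ifs with hlt
      exacts [hpair i₀ j hlt, le_rfl]
    · rw [if_pos hij, if_pos hij]; exact hstrict
  · rcases lt_or_eq_of_le (hXle.trans_eq hm) with hlt | heq
    · exact Or.inl hlt
    refine Or.inr ⟨heq, ?_⟩
    rw [← hn]
    -- separated curves do not meet above the centre
    have hsep : ∀ i j, i < j → ∀ c : (K i).C, (K i).f c = x → x ∈ Set.range (K j).f →
        (L i).f c ∉ Set.range (L j).f := fun i j hlt c hc hxj hmem => by
      have d1 := len_drop hb (K i) (K j) (hne i j hlt) (hh i) (hh j) hc hxj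
      have d2 := h1 i j hlt c
      have d3 : 0 < ilen (h i) (h j) c := (len_pos_iff (L i) (L j) (hLneq i j hlt) c).2 hmem
      omega
    have htriE : ∀ i j, i < j → tri (L i) (L j) E = 0 := fun i j hlt => by
      show Set.ncard {c : (K i).C | (L i).f c ∈ Set.range (L j).f ∧ (L i).f c ∈ Set.range E.f} = 0
      suffices hem : {c : (K i).C | (L i).f c ∈ Set.range (L j).f ∧ (L i).f c ∈ Set.range E.f} = ∅ by
        rw [hem, Set.ncard_empty]
      refine Set.eq_empty_of_forall_notMem fun c hc => ?_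
      obtain ⟨hcj, d, hd⟩ := hc
      have hcx : (K i).f c = x := by rw [← hbL i c, ← hd]; exact hbE d
      exact hsep i j hlt c hcx (hcx ▸ hLmeet i j c hcj) hcj
    have htri : ∀ i j l, i < j → tri (L i) (L j) (L l) ≤ tri (K i) (K j) (K l) := fun i j l hlt =>
      Set.ncard_le_ncard (fun c hc => ⟨hLmeet i j c hc.1, hLmeet i l c hc.2⟩)
        ((finite_meet (K i) (K j) (hne i j hlt)).subset fun c hc => hc.1)
    have hstrict : tri (L i₀) (L j₀) (L l₀) < tri (K i₀) (K j₀) (K l₀) := by
      have hsub : {c : (K i₀).C | (L i₀).f c ∈ Set.range (L j₀).f ∧ (L i₀).f c ∈ Set.range (L l₀).f} ⊆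
          {c : (K i₀).C | (K i₀).f c ∈ Set.range (K j₀).f ∧ (K i₀).f c ∈ Set.range (K l₀).f} :=
        fun c hc => ⟨hLmeet i₀ j₀ c hc.1, hLmeet i₀ l₀ c hc.2⟩
      refine Set.ncard_lt_ncard ((Set.ssubset_iff_of_subset hsub).2
        ⟨c₀, ⟨hc₀, hl₀⟩, fun hc => hsep i₀ j₀ hij c₀ rfl hc₀ hc.1⟩)
        ((finite_meet (K i₀) (K j₀) (hne i₀ j₀ hij)).subset fun c hc => hc.1)
    have hT : totT K' = ∑ i, ∑ j, ∑ l, if i < j ∧ j < l then tri (L i) (L j) (L l) else 0 := by
      simp [totT, hKl, hKc, Fin.sum_univ_castSucc, Fin.castSucc_lt_last, not_lt.2 (Fin.le_last _)]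
      refine Finset.sum_congr rfl fun i _ => Finset.sum_congr rfl fun j _ => ?_
      split_ifs with hlt
      · simp [htriE i j hlt, hlt]
      · simp [hlt]
    rw [hT]
    refine Finset.sum_lt_sum (fun i _ => Finset.sum_le_sum fun j _ => Finset.sum_le_sum fun l _ => ?_)
      ⟨i₀, Finset.mem_univ _, Finset.sum_lt_sum (fun j _ => Finset.sum_le_sum fun l _ => ?_)
        ⟨j₀, Finset.mem_univ _, Finset.sum_lt_sum (fun l _ => ?_) ⟨l₀, Finset.mem_univ _, ?_⟩⟩⟩
    · split_ifs with hlt
      exacts [htri i j l hlt.1, le_rfl]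
    · split_ifs with hlt
      exacts [htri i₀ j l hlt.1, le_rfl]
    · split_ifs with hlt
      exacts [htri i₀ j₀ l hlt.1, le_rfl]
    · rw [if_pos ⟨hij, hjl⟩, if_pos ⟨hij, hjl⟩]; exact hstrict

end Groth.L05.PtSeq
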