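import Groth.Agent.L05.PtSeq.Snc

/-!
# The local equation of a normal crossing configuration
-/

set_option autoImplicit false
set_option linter.style.haveILetI false
set_option backward.isDefEq.respectTransparency false

universe u

open CategoryTheory CategoryTheory.Limits AlgebraicGeometry TopologicalSpace
open Groth.L03.BlowPt (ptI exc eι)
open Groth.L22
open Resolve
open IsLocalRing

noncomputable section

namespace Groth.L05.PtSeq

variable {W : Scheme.{u}}

theorem stI_radical (I : W.IdealSheafData) (U : W.affineOpens) {p : W} (hp : p ∈ U.1) :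
    (I.radical.ideal U).map (W.presheaf.germ U.1 p hp).hom = (stI I p).radical := by
  letI : Algebra Γ(W, U.1) (W.presheaf.stalk p) := (W.presheaf.germ U.1 p hp).hom.toAlgebra
  haveI : IsLocalization.AtPrime (W.presheaf.stalk p) (U.2.primeIdealOf ⟨p, hp⟩).asIdeal :=
    U.2.isLocalization_stalk ⟨p, hp⟩
  rw [Scheme.IdealSheafData.radical_ideal, stI_eq I U hp, Div.stalkIdeal]
  exact IsLocalization.map_radical (U.2.primeIdealOf ⟨p, hp⟩).asIdeal.primeCompl (W.presheaf.stalk p) (I.ideal U)

theorem prime_point [IsIntegral W] (I : W.IdealSheafData) (U : W.affineOpens) {p : W} (hp : p ∈ U.1)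
    (hpc : IsClosed ({p} : Set W)) {P : Ideal (W.presheaf.stalk p)} [hP : P.IsPrime] (hJ : stI I p ≤ P)
    (hne : P ≠ maximalIdeal (W.presheaf.stalk p)) :
    ∃ η : W, η ⤳ p ∧ η ≠ p ∧ η ∈ (I.support : Set W) ∧ ¬ IsClosed ({η} : Set W) ∧
      ∀ D : W.IdealSheafData, η ∈ (D.support : Set W) → stI D p ≤ P := by
  letI : Algebra Γ(W, U.1) (W.presheaf.stalk p) := (W.presheaf.germ U.1 p hp).hom.toAlgebra
  haveI : IsLocalization.AtPrime (W.presheaf.stalk p) (U.2.primeIdealOf ⟨p, hp⟩).asIdeal :=
    U.2.isLocalization_stalk ⟨p, hp⟩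
  let q : Spec Γ(W, U.1) := ⟨P.comap (W.presheaf.germ U.1 p hp).hom, inferInstance⟩
  have hqU : U.2.fromSpec q ∈ U.1 := by
    show _ ∈ (U.1 : Set W)
    rw [← U.2.range_fromSpec]
    exact ⟨q, rfl⟩
  have hqq : U.2.primeIdealOf ⟨_, hqU⟩ = q := LocalDim.primeIdealOf_fromSpec U.2 q hqU
  have hm : (maximalIdeal (W.presheaf.stalk p)).comap (W.presheaf.germ U.1 p hp).hom =
      (U.2.primeIdealOf ⟨p, hp⟩).asIdeal :=
    IsLocalization.AtPrime.comap_maximalIdeal (W.presheaf.stalk p) (U.2.primeIdealOf ⟨p, hp⟩).asIdeal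
  have hle : q.asIdeal ≤ (U.2.primeIdealOf ⟨p, hp⟩).asIdeal := by
    rw [← hm]; exact Ideal.comap_mono (le_maximalIdeal hP.ne_top)
  have hsp : U.2.fromSpec q ⤳ p := by
    have h := LocalDim.fromSpec_specializes U.2 hle
    rwa [U.2.fromSpec_primeIdealOf] at h
  have hnep : U.2.fromSpec q ≠ p := fun e => hne (by
    have h2 : q.asIdeal = (U.2.primeIdealOf ⟨p, hp⟩).asIdeal := by
      rw [← hqq]
      exact congrArg (fun y => (U.2.primeIdealOf y).asIdeal) (Subtype.ext e)
    rw [← IsLocalization.map_comap (U.2.primeIdealOf ⟨p, hp⟩).asIdeal.primeCompl (W.presheaf.stalk p) P,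
      ← IsLocalization.map_comap (U.2.primeIdealOf ⟨p, hp⟩).asIdeal.primeCompl (W.presheaf.stalk p)
        (maximalIdeal (W.presheaf.stalk p))]
    exact congrArg _ (h2.trans hm.symm))
  have hmem : ∀ D : W.IdealSheafData, (U.2.fromSpec q ∈ (D.support : Set W) ↔ stI D p ≤ P) := fun D => by
    rw [CartierDecomp.mem_support_iff hqU, hqq, stI_eq D U hp, Div.stalkIdeal, Ideal.map_le_iff_le_comap]
  exact ⟨_, hsp, hnep, (hmem I).2 hJ, fun hcl => hnep (hsp.mem_closed hcl rfl).symm, fun D hD => (hmem D).1 hD⟩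

/-- The ideal of a curve at a point. -/
theorem exists_branch [IsIntegral W] (hW : IsRegSurf W) (a : Crv W) (hη : a.f (genericPoint a.C) ≠ genericPoint W)
    (c : a.C) (hc : c ≠ genericPoint a.C) :
    ∃ x : W.presheaf.stalk (a.f c), Prime x ∧ RingHom.ker (a.f.stalkMap c).hom = Ideal.span {x} ∧
      stI a.f.ker (a.f c) = Ideal.span {x} := by
  haveI := hW.noeth
  haveI := hW.reg (a.f c)
  haveI := Groth.L01.isDomain_of_regular (W.presheaf.stalk (a.f c))
  haveI := Groth.L10.RegUFD.isUFD (W.presheaf.stalk (a.f c))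
  haveI : Nonempty a.f.image := ⟨a.f.toImage (genericPoint a.C)⟩
  haveI : IsIntegral a.f.ker.subscheme := isIntegral_of_isOpenImmersion (inv a.f.toImage)
  have hsupp : (a.f.ker.support : Set W) = Set.range a.f := by
    rw [Scheme.Hom.support_ker, a.f.isClosedEmbedding.isClosed_range.closure_eq]
  have hgen : IsGenericPoint (a.f (genericPoint a.C)) (a.f.ker.support : Set W) := by
    rw [hsupp]
    have h := (genericPoint_spec a.C).image a.f.continuous
    rwa [Set.image_univ, a.f.isClosedEmbedding.isClosed_range.closure_eq] at h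
  have h1 : ringKrullDim (W.presheaf.stalk (a.f (genericPoint a.C))) = 1 := by
    refine (dim_cases hW hη).resolve_right fun h2 => ?_
    have h3 := Groth.L03.BlowPt.Factor.dim_add_one_le ((genericPoint_specializes c).map a.f.continuous)
      (fun e => hc (a.f.isClosedEmbedding.injective e).symm)
    have h4 := (Groth.L13.ModFibre.ringKrullDim_stalk_le_topologicalKrullDim (a.f c)).trans hW.dim
    rw [h2] at h3
    exact absurd (h3.trans h4) (by decide)
  obtain ⟨U, hU⟩ := exists_affine (a.f c)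
  obtain ⟨x, hx, hxe⟩ := Groth.L05.FibreDecomp.exists_prime_generator a.f.ker U (a.f c) hU hgen h1
    (by rw [hsupp]; exact ⟨c, rfl⟩)
  have hst : stI a.f.ker (a.f c) = Ideal.span {x} := (stI_eq _ U hU).trans hxe
  exact ⟨x, hx, by rw [Groth.L20.Infinitesimal.ker_stalkMap, ← stI_eq_sI, hst], hst⟩

theorem exists_snc [IsIntegral W] (hW : IsRegSurf W) (hgen : ¬ IsClosed ({genericPoint W} : Set W))
    (I : W.IdealSheafData) (hI0 : I ≠ ⊥) (hIC : BlowUp.IsEffCartierIdeal I) {N : ℕ} (K : Fin N → Crv W)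
    (hK : Cfg (I.support : Set W) K) (hnice : Nice K) (p : W) (hp : p ∈ (I.support : Set W)) :
    ∃ (U : W.affineOpens) (hpU : p ∈ (U : W.Opens)) (d r : ℕ) (x : Fin d → W.presheaf.stalk p),
      1 ≤ r ∧ r ≤ d ∧ ringKrullDim (W.presheaf.stalk p) = (d : WithBot ℕ∞) ∧
      Ideal.span (Set.range x) = maximalIdeal (W.presheaf.stalk p) ∧
      (I.radical.ideal U).map (W.presheaf.germ (U : W.Opens) p hpU).hom =
        Ideal.span {∏ i : Fin d, if (i : ℕ) < r then x i else 1} := by
  haveI := hW.noeth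
  haveI := hW.reg p
  haveI := Groth.L01.isDomain_of_regular (W.presheaf.stalk p)
  haveI := Groth.L10.RegUFD.isUFD (W.presheaf.stalk p)
  have hη0 := genericPoint_notMem_support hI0
  obtain ⟨U, hU⟩ := exists_affine p
  refine ⟨U, hU, ?_⟩
  rw [stI_radical I U hU]
  set J := stI I p with hJdef
  have hJtop : J ≠ ⊤ := fun e => (stI_eq_top_iff I p).1 e hp
  have hJbot : J ≠ ⊥ := stI_ne_bot hη0 p
  have hpη : p ≠ genericPoint W := fun e => hη0 (e ▸ hp)
  rcases dim_cases hW hpη with h1 | h2
  · haveI : IsPrincipalIdealRing (W.presheaf.stalk p) := by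
      refine ((tfae_of_isNoetherianRing_of_isLocalRing_of_isDomain (W.presheaf.stalk p)).out 0 5).2 ?_
      have h := (IsRegularLocalRing.iff_finrank_cotangentSpace (R := W.presheaf.stalk p)).1 inferInstance
      exact_mod_cast h.le.trans h1.le
    have hall := ((tfae_of_isNoetherianRing_of_isLocalRing_of_isDomain (W.presheaf.stalk p)).out 0 6).1
      ‹IsPrincipalIdealRing (W.presheaf.stalk p)›
    obtain ⟨t, ht⟩ := IsPrincipalIdealRing.principal (maximalIdeal (W.presheaf.stalk p))
    obtain ⟨k, hk⟩ := hall J hJbot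
    have hk0 : k ≠ 0 := fun e => hJtop (by rw [hk, e, pow_zero, Ideal.one_eq_top])
    refine ⟨1, 1, fun _ => t, le_rfl, le_rfl, by exact_mod_cast h1, ?_, ?_⟩
    · rw [Set.range_const]; exact ht.symm
    · rw [hk, Ideal.radical_pow _ hk0, (maximalIdeal.isMaximal _).isPrime.radical]
      simpa using ht
  · have hpc : IsClosed ({p} : Set W) := isClosed_of_dim hW h2.ge
    -- the curves through the point
    have hηi : ∀ i, (K i).f (genericPoint (K i).C) ≠ genericPoint W := fun i e => hη0 (e ▸ hK.mem i)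
    have hJle : ∀ i (c : (K i).C), (K i).f c = p → ∀ (P : Ideal (W.presheaf.stalk p)),
        stI (K i).f.ker p ≤ P → P.IsPrime → J ≤ P := by
      rintro i c rfl P hP hPp
      refine le_trans ?_ hP
      rw [hJdef, stI_eq_sI (K i).f.ker, ← Groth.L20.Infinitesimal.ker_stalkMap, RingHom.ker_eq_comap_bot,
        ← Ideal.map_le_iff_le_comap, ← stI_comap]
      have h0 : I.comap (K i).f = ⊥ := by
        by_contra hne
        refine genericPoint_notMem_support hne ?_
        rw [Scheme.IdealSheafData.support_comap]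
        exact hK.mem i
      rw [h0]
      obtain ⟨V, hV⟩ := exists_affine c
      rw [stI_eq _ V hV, Div.stalkIdeal, Scheme.IdealSheafData.ideal_bot, Pi.bot_apply, Ideal.map_bot]
    -- every prime over the ideal contains a branch
    have hbranch : ∀ Q : Ideal (W.presheaf.stalk p), Q.IsPrime → J ≤ Q →
        ∃ i, p ∈ Set.range (K i).f ∧ stI (K i).f.ker p ≤ Q := by
      intro Q hQ hJQ
      obtain ⟨π, hπQ, hπ, hJπ⟩ : ∃ π ∈ Q, Prime π ∧ J ≤ Ideal.span {π} := by
        obtain ⟨b, hb, hJb⟩ : ∃ b, b ≠ 0 ∧ J = Ideal.span {b} := by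
          obtain ⟨b, hbr, hb⟩ := stI_isPrincipal hIC p
          exact ⟨b, nonZeroDivisors.ne_zero hbr, hb⟩
        obtain ⟨s, hs, hsb⟩ := UniqueFactorizationMonoid.exists_prime_factors b hb
        have hbQ : b ∈ Q := hJQ (hJb ▸ Ideal.mem_span_singleton_self b)
        obtain ⟨u, hu⟩ := hsb
        have hsQ : s.prod ∈ Q := (hQ.mem_or_mem (hu ▸ hbQ)).resolve_right fun h =>
          hQ.ne_top (Ideal.eq_top_of_isUnit_mem _ h u.isUnit)
        obtain ⟨π, hπs, hπQ⟩ := (hQ.multiset_prod_mem_iff_exists_mem s).1 hsQ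
        refine ⟨π, hπQ, hs π hπs, ?_⟩
        rw [hJb, Ideal.span_singleton_le_span_singleton, ← hu]
        exact Dvd.dvd.mul_right (Multiset.dvd_prod hπs) _
      haveI : (Ideal.span {π}).IsPrime := (Ideal.span_singleton_prime hπ.ne_zero).2 hπ
      have hne : Ideal.span {π} ≠ maximalIdeal (W.presheaf.stalk p) := fun e => by
        have hp' : (maximalIdeal (W.presheaf.stalk p)).IsPrincipal := ⟨π, e.symm⟩
        haveI : IsPrincipalIdealRing (W.presheaf.stalk p) :=
          ((tfae_of_isNoetherianRing_of_isLocalRing_of_isDomain (W.presheaf.stalk p)).out 0 4).2 hp'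
        have h3 := Ring.krullDimLE_iff.1 (inferInstance : Ring.KrullDimLE 1 (W.presheaf.stalk p))
        rw [h2] at h3
        exact absurd h3 (by decide)
      obtain ⟨η, hηp, -, hηS, hηc, hηD⟩ := prime_point I U hU hpc hJπ hne
      obtain ⟨i, hi⟩ := hK.cover η hηS hηc
      have hmem : η ∈ ((K i).f.ker.support : Set W) := by
        rw [Scheme.Hom.support_ker, (K i).f.isClosedEmbedding.isClosed_range.closure_eq]
        exact ⟨_, hi⟩
      refine ⟨i, ?_, (hηD _ hmem).trans ((Ideal.span_singleton_le_iff_mem _).2 hπQ)⟩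
      exact (hi ▸ hηp).mem_closed (K i).f.isClosedEmbedding.isClosed_range ⟨_, rfl⟩
    have hrad : ∀ R : Ideal (W.presheaf.stalk p),
        (∀ i, p ∈ Set.range (K i).f → R ≤ stI (K i).f.ker p) → R ≤ J.radical := fun R hR => by
      rw [Ideal.radical_eq_sInf]
      refine le_sInf fun Q ⟨hJQ, hQ⟩ => ?_
      obtain ⟨i, hi, hiQ⟩ := hbranch Q hQ hJQ
      exact (hR i hi).trans hiQ
    obtain ⟨i₀, ⟨c₀, hc₀⟩, -⟩ := hbranch _ (maximalIdeal.isMaximal _).isPrime (le_maximalIdeal hJtop)
    by_cases hone : ∀ j, p ∈ Set.range (K j).f → j = i₀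
    · subst hc₀
      have hc₀η : c₀ ≠ genericPoint (K i₀).C := fun e => (K i₀).gen_not_closed (e ▸ hpc)
      obtain ⟨x₁, hx₁, hker, hst⟩ := exists_branch hW (K i₀) (hηi i₀) c₀ hc₀η
      haveI := pir_stalk (K i₀).dim c₀ ((K i₀).reg c₀)
      obtain ⟨t, ht⟩ := IsPrincipalIdealRing.principal (maximalIdeal ((K i₀).C.presheaf.stalk c₀))
      obtain ⟨y, hy⟩ := (K i₀).f.stalkMap_surjective c₀ t
      have hm : maximalIdeal (W.presheaf.stalk ((K i₀).f c₀)) = Ideal.span {x₁} ⊔ Ideal.span {y} := by
        rw [← hker, ← eq_maximalIdeal (Ideal.comap_isMaximal_of_surjective ((K i₀).f.stalkMap c₀).hom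
          ((K i₀).f.stalkMap_surjective c₀) (K := maximalIdeal _)), ht]
        have hs : Submodule.span ((K i₀).C.presheaf.stalk c₀) {t} =
            Ideal.map ((K i₀).f.stalkMap c₀).hom (Ideal.span {y}) := by
          rw [Ideal.map_span, Set.image_singleton]
          exact congrArg (fun z => Ideal.span {z}) hy.symm
        rw [hs]
        exact (Ideal.comap_map_of_surjective _ ((K i₀).f.stalkMap_surjective c₀) _).trans (sup_comm _ _)
      refine ⟨2, 1, ![x₁, y], le_rfl, by norm_num, h2, ?_, ?_⟩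
      · rw [hm, ← Ideal.span_union]
        simp [Set.union_comm]
      · haveI : (Ideal.span {x₁}).IsPrime := (Ideal.span_singleton_prime hx₁.ne_zero).2 hx₁
        have hr : J.radical = Ideal.span {x₁} := le_antisymm
          ((Ideal.IsPrime.radical_le_iff inferInstance).2 (hJle i₀ c₀ rfl _ hst.le inferInstance))
          (hrad _ fun i hi => by rw [hone i hi, hst])
        rw [hr]; simp
    · push Not at hone
      obtain ⟨j₀, hj₀, hne⟩ := hone
      obtain ⟨i, j, hij, ⟨c, hc⟩, hjp⟩ : ∃ i j, i < j ∧ p ∈ Set.range (K i).f ∧ p ∈ Set.range (K j).f := by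
        rcases lt_or_gt_of_ne hne with h | h
        exacts [⟨_, _, h, hj₀, ⟨c₀, hc₀⟩⟩, ⟨_, _, h, ⟨c₀, hc₀⟩, hj₀⟩]
      clear hne hj₀ hc₀
      have honly : ∀ l, p ∈ Set.range (K l).f → l = i ∨ l = j := by
        intro l hl
        by_contra hcon
        push Not at hcon
        obtain ⟨d, hd⟩ := hl
        obtain ⟨e, he⟩ := hjp
        rcases lt_trichotomy l i with h | h | h
        · exact hnice.2 l i j h hij d ⟨hd ▸ ⟨c, hc⟩, hd ▸ ⟨e, he⟩⟩
        · exact hcon.1 h
        · rcases lt_trichotomy l j with h' | h' | h'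
          · exact hnice.2 i l j h h' c ⟨hc ▸ ⟨d, hd⟩, hc ▸ ⟨e, he⟩⟩
          · exact hcon.2 h'
          · exact hnice.2 i j l hij h' c ⟨hc ▸ ⟨e, he⟩, hc ▸ ⟨d, hd⟩⟩
      obtain ⟨e, he⟩ := hjp
      subst hc
      have hgne : (K i).f (genericPoint (K i).C) ≠ (K j).f (genericPoint (K j).C) :=
        fun h => hij.ne (hK.inj i j h)
      have hcη : c ≠ genericPoint (K i).C := fun h => (K i).gen_not_closed (h ▸ hpc)
      have heη : e ≠ genericPoint (K j).C := fun h => (K j).gen_not_closed (by rw [← h, he]; exact hpc)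
      obtain ⟨x₁, hx₁, hker, hst⟩ := exists_branch hW (K i) (hηi i) c hcη
      obtain ⟨x₂, hx₂, hst₂⟩ : ∃ x₂ : W.presheaf.stalk ((K i).f c), Prime x₂ ∧
          stI (K j).f.ker ((K i).f c) = Ideal.span {x₂} := by
        have key : ∀ (q : W), (K j).f e = q → ∃ x₂ : W.presheaf.stalk q, Prime x₂ ∧
            stI (K j).f.ker q = Ideal.span {x₂} := by
          rintro _ rfl
          obtain ⟨x₂, h, -, h'⟩ := exists_branch hW (K j) (hηi j) e heη
          exact ⟨x₂, h, h'⟩
        exact key _ he
      -- transversality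
      have hmeet : (K i).f c ∈ Set.range (K j).f := ⟨e, he⟩
      have hmap : (stI (K j).f.ker ((K i).f c)).map ((K i).f.stalkMap c).hom =
          maximalIdeal ((K i).C.presheaf.stalk c) := by
        rw [← stI_comap]
        have hpos := (len_pos_iff (K i) (K j) hgne c).2 hmeet
        have hl : ilen (K i).f (K j).f c = 1 := le_antisymm (hnice.1 i j hij c) hpos
        have hfin := finite_length_quot (K i).dim c ((K i).reg c) (stI_ne_bot ((K i).gen_notMem_support (K j) hgne) c)
        have hlen : Module.length ((K i).C.presheaf.stalk c)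
            ((K i).C.presheaf.stalk c ⧸ stI ((K j).f.ker.comap (K i).f) c) = 1 := by
          rw [← ENat.coe_toNat hfin]; exact_mod_cast congrArg (Nat.cast : ℕ → ℕ∞) hl
        rw [Module.length_eq_one_iff] at hlen
        exact eq_maximalIdeal ⟨isSimpleModule_iff_isCoatom.1 hlen⟩
      rw [hst₂] at hmap
      have hm : maximalIdeal (W.presheaf.stalk ((K i).f c)) = Ideal.span {x₁} ⊔ Ideal.span {x₂} := by
        rw [← hker, ← eq_maximalIdeal (Ideal.comap_isMaximal_of_surjective ((K i).f.stalkMap c).hom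
          ((K i).f.stalkMap_surjective c) (K := maximalIdeal _)), ← hmap]
        exact (Ideal.comap_map_of_surjective _ ((K i).f.stalkMap_surjective c) _).trans (sup_comm _ _)
      have hndvd : ¬ x₁ ∣ x₂ := fun hd => by
        refine stI_ne_bot ((K i).gen_notMem_support (K j) hgne) c ?_
        rw [stI_comap, hst₂, eq_bot_iff, Ideal.map_le_iff_le_comap]
        show Ideal.span {x₂} ≤ RingHom.ker _
        rw [hker, Ideal.span_singleton_le_span_singleton]
        exact hd
      refine ⟨2, 2, ![x₁, x₂], by norm_num, le_rfl, h2, ?_, ?_⟩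
      · rw [hm, ← Ideal.span_union]
        simp [Set.union_comm]
      · haveI : (Ideal.span {x₁}).IsPrime := (Ideal.span_singleton_prime hx₁.ne_zero).2 hx₁
        haveI : (Ideal.span {x₂}).IsPrime := (Ideal.span_singleton_prime hx₂.ne_zero).2 hx₂
        have hr : J.radical = Ideal.span {x₁ * x₂} := by
          refine le_antisymm (fun z hz => ?_) (hrad _ fun l hl => ?_)
          · obtain ⟨w, rfl⟩ := Ideal.mem_span_singleton'.1 ((Ideal.IsPrime.radical_le_iff inferInstance).2
              (hJle i c rfl _ hst.le inferInstance) hz)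
            have h2' : w * x₁ ∈ Ideal.span {x₂} := (Ideal.IsPrime.radical_le_iff inferInstance).2
              (hJle j e he _ hst₂.le inferInstance) hz
            rw [Ideal.mem_span_singleton] at h2' ⊢
            obtain ⟨w', rfl⟩ : x₂ ∣ w := (hx₂.dvd_or_dvd h2').resolve_right fun h =>
              hndvd ((hx₂.irreducible.associated_of_dvd hx₁.irreducible h).symm.dvd)
            exact ⟨w', by ring⟩
          · rcases honly l hl with rfl | rfl
            · rw [hst, Ideal.span_singleton_le_span_singleton]; exact dvd_mul_right _ _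
            · rw [hst₂, Ideal.span_singleton_le_span_singleton]; exact dvd_mul_left _ _
        rw [hr]; simp [Fin.prod_univ_two]

end Groth.L05.PtSeq
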