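import Groth.Agent.L05.PtSeq.DomData
import Groth.Agent.L05.NormChar.Main
import Groth.Agent.L05.RelMinExists.Main
import Groth.Agent.L05.MinDesing.Basic
import Groth.Agent.L22.LocalDim
import Mathlib.AlgebraicGeometry.ValuativeCriterion

/-!
# Centres of valuations on modifications
-/

set_option autoImplicit false
set_option linter.style.haveILetI false
set_option backward.isDefEq.respectTransparency false
set_option backward.isDefEq.respectTransparency.types false

universe u

open CategoryTheory CategoryTheory.Limits AlgebraicGeometry TopologicalSpace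

noncomputable section

namespace Groth.L05.PtSeq

variable {O : Type u} [CommRing O] [IsDomain O] {Z X : Scheme.{u}} [IsIntegral Z] [IsIntegral X]

/-- A point with values in a valuation ring lifts to a proper birational modification. -/
theorem exists_val_lift [ValuationRing O] (g : Z ⟶ X) [IsProper g] (hg : Groth.L05.MinDesing.IsBir g)
    (σ : Spec (CommRingCat.of O) ⟶ X) (hσ : σ (genericPoint (Spec (CommRingCat.of O))) = genericPoint X) :
    ∃ σ' : Spec (CommRingCat.of O) ⟶ Z,
      σ' ≫ g = σ ∧ σ' (genericPoint (Spec (CommRingCat.of O))) = genericPoint Z := by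
  obtain ⟨V, hV, hiso⟩ := hg
  haveI := hiso
  obtain ⟨e, hiso'⟩ := birational_data g ⟨V, hV, inferInstance⟩
  haveI := hiso'
  let K := FractionRing O
  let ι := Spec.map (CommRingCat.ofHom (algebraMap O K))
  haveI : IsDominant ι := ⟨by
    intro y
    have h : genericPoint (Spec (CommRingCat.of O)) ⤳ y := genericPoint_specializes y
    refine closure_mono ?_ h.mem_closure
    rintro _ rfl
    refine ⟨IsLocalRing.closedPoint K, ?_⟩
    rw [genericPoint_eq_bot_of_affine]
    refine PrimeSpectrum.ext ?_
    show Ideal.comap (algebraMap O K) (IsLocalRing.maximalIdeal K) = ⊥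
    rw [(IsLocalRing.isField_iff_maximalIdeal_eq).1 (Field.toIsField K), ← RingHom.ker_eq_comap_bot,
      (RingHom.injective_iff_ker_eq_bot _).1 (IsFractionRing.injective O K)]⟩
  have hj : ∀ t, ι t = genericPoint (Spec (CommRingCat.of O)) := fun t => by
    obtain rfl : t = IsLocalRing.closedPoint K := @Subsingleton.elim _ (inferInstanceAs (Subsingleton (PrimeSpectrum K))) _ _
    rw [genericPoint_eq_bot_of_affine]
    refine PrimeSpectrum.ext ?_
    show Ideal.comap (algebraMap O K) (IsLocalRing.maximalIdeal K) = ⊥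
    rw [(IsLocalRing.isField_iff_maximalIdeal_eq).1 (Field.toIsField K), ← RingHom.ker_eq_comap_bot,
      (RingHom.injective_iff_ker_eq_bot _).1 (IsFractionRing.injective O K)]
  have hgen : g (genericPoint Z) = (ι ≫ σ) (IsLocalRing.closedPoint K) := by
    rw [e, Scheme.Hom.comp_apply, hj, hσ]
  obtain ⟨f₁, hf₁, -⟩ := Groth.L05.NormChar.exists_lift_fromSpecStalk g hgen
  let i₁ : Spec (CommRingCat.of K) ⟶ Z := Spec.map (Scheme.stalkClosedPointTo (ι ≫ σ)) ≫ f₁
  have hi₁ : i₁ ≫ g = ι ≫ σ := by
    show (Spec.map (Scheme.stalkClosedPointTo (ι ≫ σ)) ≫ f₁) ≫ g = _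
    rw [Category.assoc, hf₁, Scheme.Spec_stalkClosedPointTo_fromSpecStalk]
  let S : ValuativeCommSq g := { R := O, K := K, i₁ := i₁, i₂ := σ, commSq := ⟨hi₁⟩ }
  have hex : ValuativeCriterion.Existence g := by
    have h : UniversallyClosed g := inferInstance
    rw [UniversallyClosed.eq_valuativeCriterion] at h
    exact h.1
  haveI := hex S
  refine ⟨S.commSq.lift, S.commSq.fac_right, ?_⟩
  refine (Groth.L05.RelMinExists.eq_of_isIso_restrict' g V ?_ ?_).symm
  · rw [e]; exact Groth.L05.MinDesing.genericPoint_mem hV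
  · rw [e, ← Scheme.Hom.comp_apply, show S.commSq.lift ≫ g = σ from S.commSq.fac_right, hσ]

/-- Such lifts are unique. -/
theorem val_lift_unique (g : Z ⟶ X) [IsSeparated g] (hg : Groth.L05.MinDesing.IsBir g)
    (σ σ' : Spec (CommRingCat.of O) ⟶ Z) (h : σ ≫ g = σ' ≫ g)
    (hσ : g (σ (genericPoint (Spec (CommRingCat.of O)))) = genericPoint X) : σ = σ' := by
  obtain ⟨V, hV, hiso⟩ := hg
  haveI := hiso
  let W : (Spec (CommRingCat.of O)).Opens := (σ ≫ g) ⁻¹ᵁ V
  have hW : genericPoint (Spec (CommRingCat.of O)) ∈ W := by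
    show g (σ _) ∈ V
    rw [hσ]; exact Groth.L05.MinDesing.genericPoint_mem hV
  haveI : IsDominant W.ι := ⟨by
    rw [DenseRange, Scheme.Opens.range_ι]
    exact W.2.dense ⟨_, hW⟩⟩
  refine ext_of_isDominant_of_isSeparated g h W.ι (eq_of_mono_over g V ?_ fun z => ?_)
  · rw [Category.assoc, Category.assoc, h]
  · show g ((W.ι ≫ σ) z) ∈ V
    exact z.2

end Groth.L05.PtSeq
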